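import Mathlib

/-!
Linear lemmas: the decomposition of a binary space by the fixed spaces of a pair of commuting
automorphisms of order three, and the isolation of a fixed-point-free automorphism of order three in
a group of automorphisms of a space of order 16.
-/

set_option autoImplicit false
set_option maxRecDepth 100000
set_option linter.style.haveILetI false

namespace CfsgLib.Spor.JankoFourChar2

variable {V : Type*} [CommGroup V]

/-- the product over an orbit of an automorphism of order three -/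
def orb3 (Z : MulAut V) (v : V) : V := v * Z v * Z (Z v)

theorem orb3_mul (Z : MulAut V) (u v : V) : orb3 Z (u * v) = orb3 Z u * orb3 Z v := by
  simp only [orb3, map_mul, mul_comm, mul_left_comm, mul_assoc]

theorem map_orb3 {Z : MulAut V} (hZ : Z ^ 3 = 1) (v : V) : Z (orb3 Z v) = orb3 Z v := by
  have h : Z (Z (Z v)) = v := by
    simpa [pow_succ, MulAut.mul_apply] using DFunLike.congr_fun hZ v
  simp only [orb3, map_mul, h, mul_comm, mul_left_comm]

theorem orb3_eq_one {Z : MulAut V} (hZ : Z ^ 3 = 1) (hf : ∀ v, Z v = v → v = 1) (v : V) :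
    orb3 Z v = 1 := hf _ (map_orb3 hZ v)

theorem orb3_fixed (hsq : ∀ v : V, v * v = 1) {Z : MulAut V} {v : V} (h : Z v = v) :
    orb3 Z v = v := by rw [orb3, h, h, hsq, one_mul]

/-- A binary space is the product of the fixed spaces of three automorphisms of order three. -/
theorem card_eq_fixed (hsq : ∀ v : V, v * v = 1) {X Y : MulAut V} (hX : X ^ 3 = 1) (hY : Y ^ 3 = 1)
    (hXY : Commute X Y) (hXf : ∀ v, X v = v → v = 1) :
    Nat.card V = Nat.card {v : V // Y v = v} * Nat.card {v : V // (X * Y) v = v} *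
      Nat.card {v : V // (X ^ 2 * Y) v = v} := by
  have hA : (X * Y) ^ 3 = 1 := by rw [hXY.mul_pow, hX, hY, one_mul]
  have hB : (X ^ 2 * Y) ^ 3 = 1 := by
    rw [(hXY.pow_left 2).mul_pow, ← pow_mul, show 2 * 3 = 3 * 2 by norm_num, pow_mul, hX, one_pow,
      hY, one_mul]
  have X3 : ∀ v, X (X (X v)) = v := fun v => by
    simpa [pow_succ, MulAut.mul_apply] using DFunLike.congr_fun hX v
  have cXY : ∀ v, Y (X v) = X (Y v) := fun v => by
    simpa [MulAut.mul_apply] using (DFunLike.congr_fun hXY.eq v).symm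
  have eA : ∀ v, orb3 (X * Y) v = v * X (Y v) * X (X (Y (Y v))) := fun v => by
    simp only [orb3, MulAut.mul_apply, cXY]
  have eB : ∀ v, orb3 (X ^ 2 * Y) v = v * X (X (Y v)) * X (Y (Y v)) := fun v => by
    simp only [orb3, pow_two, MulAut.mul_apply, cXY, X3]
  have hsum : ∀ v, orb3 Y v * orb3 (X * Y) v * orb3 (X ^ 2 * Y) v = v := by
    intro v
    have e1 : Y v * X (Y v) * X (X (Y v)) = 1 := orb3_eq_one hX hXf (Y v)
    have e2 : Y (Y v) * X (Y (Y v)) * X (X (Y (Y v))) = 1 := orb3_eq_one hX hXf (Y (Y v))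
    calc orb3 Y v * orb3 (X * Y) v * orb3 (X ^ 2 * Y) v
        = v * v * v * (Y v * X (Y v) * X (X (Y v))) *
            (Y (Y v) * X (Y (Y v)) * X (X (Y (Y v)))) := by
          rw [eA, eB, orb3]
          simp only [mul_comm, mul_left_comm, mul_assoc]
      _ = v := by rw [e1, e2, hsq, one_mul, mul_one, mul_one]
  let f : V → {v : V // Y v = v} × {v : V // (X * Y) v = v} × {v : V // (X ^ 2 * Y) v = v} :=
    fun v => (⟨orb3 Y v, map_orb3 hY v⟩, ⟨orb3 (X * Y) v, map_orb3 hA v⟩,
      ⟨orb3 (X ^ 2 * Y) v, map_orb3 hB v⟩)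
  have hf : Function.Bijective f := by
    constructor
    · intro u v e
      simp only [f, Prod.mk.injEq, Subtype.mk.injEq] at e
      rw [← hsum u, ← hsum v, e.1, e.2.1, e.2.2]
    · rintro ⟨⟨a, ha⟩, ⟨b, hb⟩, ⟨c, hc⟩⟩
      have hb' : Y b = X (X b) := by
        rw [MulAut.mul_apply] at hb
        have := congrArg (fun t => X (X t)) hb
        simpa only [X3] using this
      have hc' : Y c = X c := by
        simp only [pow_two, MulAut.mul_apply] at hc
        have := congrArg X hc
        simpa only [X3] using this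
      have za : orb3 (X * Y) a = 1 ∧ orb3 (X ^ 2 * Y) a = 1 := by
        refine ⟨?_, ?_⟩
        · rw [eA, ha, ha]; exact orb3_eq_one hX hXf a
        · rw [eB, ha, ha, mul_right_comm]; exact orb3_eq_one hX hXf a
      have zb : orb3 Y b = 1 ∧ orb3 (X ^ 2 * Y) b = 1 := by
        have e : Y (Y b) = X b := by rw [hb', cXY, cXY, hb', X3]
        refine ⟨?_, ?_⟩
        · rw [orb3, e, hb', mul_right_comm]; exact orb3_eq_one hX hXf b
        · rw [eB, e, hb', X3]; exact orb3_eq_one hX hXf b
      have zc : orb3 Y c = 1 ∧ orb3 (X * Y) c = 1 := by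
        have e : Y (Y c) = X (X c) := by rw [hc', cXY, hc']
        refine ⟨?_, ?_⟩
        · rw [orb3, e, hc']; exact orb3_eq_one hX hXf c
        · rw [eA, e, hc', X3, mul_right_comm]; exact orb3_eq_one hX hXf c
      refine ⟨a * b * c, ?_⟩
      simp only [f, orb3_mul, za.1, za.2, zb.1, zb.2, zc.1, zc.2, one_mul, mul_one,
        orb3_fixed hsq ha, orb3_fixed hsq hb, orb3_fixed hsq hc]
  rw [Nat.card_congr (Equiv.ofBijective f hf), Nat.card_prod, Nat.card_prod, mul_assoc]

/-! ### Linear maps of a space of order 16 as codes -/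

/-- the image of a vector under the linear map with the given code -/
def appC (m v : ℕ) : ℕ :=
  (((if Nat.beq (v % 2) 1 then m % 16 else 0).xor
    (if Nat.beq (v / 2 % 2) 1 then m / 16 % 16 else 0)).xor
    (if Nat.beq (v / 4 % 2) 1 then m / 256 % 16 else 0)).xor
    (if Nat.beq (v / 8 % 2) 1 then m / 4096 % 16 else 0)

/-- the code of a composite -/
def compC (a b : ℕ) : ℕ :=
  appC a (b % 16) + 16 * appC a (b / 16 % 16) + 256 * appC a (b / 256 % 16) +
    4096 * appC a (b / 4096 % 16)

/-- fixed-point-free of order three, on the basis -/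
def isTC (m : ℕ) : Bool :=
  [1, 2, 4, 8].all fun e => Nat.beq ((appC m (appC m e)).xor ((appC m e).xor e)) 0

/-- the code of the fixed element -/
def xC : ℕ := 2 + 16 * 3 + 256 * 8 + 4096 * 12

/-- the fixed-point-free codes of order three -/
def tListC : List ℕ := [
  4713, 5097, 5705, 6105, 6905, 7033, 7769, 8137, 8613, 9133, 9636, 10158, 10671, 11175,
  11686, 12204, 12773, 12909, 13812, 13903, 14686, 15062, 15815, 15996, 19475, 19506, 19547, 19582,
  19615, 19638, 19671, 19706, 21103, 21406, 22091, 22506, 23223, 23494, 24083, 24370, 25077, 25562,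
  26036, 26525, 27003, 27484, 27954, 28435, 29109, 29291, 30180, 30285, 31178, 31388, 32019, 32306,
  37480, 37880, 38472, 38856, 39544, 39912, 40664, 40792, 41349, 41871, 42372, 42892, 43399, 43917,
  44430, 44934, 45525, 45678, 46532, 46668, 47590, 47709, 48511, 48887, 51219, 51250, 51295, 51322,
  51351, 51390, 51419, 51446, 53866, 54219, 54862, 55231, 55858, 56083, 56982, 57319, 57749, 58300,
  58836, 59387, 59667, 60210, 60762, 61309, 61893, 62060, 62868, 63050, 63794, 64019, 65003, 65213]

theorem tListC_complete : ((List.range 256).all fun a => (List.range 256).all fun b =>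
    !(isTC (256 * a + b)) || tListC.any (Nat.beq (256 * a + b))) = true := by decide +kernel

/-- words in the three elements and their inverses -/
def certWords : List (List ℕ) :=
  [[5, 1, 0, 2, 0, 2], [2, 0, 5], [2, 1, 2, 1, 0, 2], [5, 1, 0, 2, 1, 2], [2, 0, 2, 1, 0, 2]]

/-- the value of a letter -/
def letC (y a i : ℕ) : ℕ :=
  match i with
  | 0 => xC
  | 1 => y
  | 2 => a
  | 3 => compC xC xC
  | 4 => compC y y
  | _ => compC a a

/-- the identity code -/
def oneC : ℕ := 1 + 16 * 2 + 256 * 4 + 4096 * 8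

/-- the value of a word -/
def wordC (y a : ℕ) (w : List ℕ) : ℕ := w.foldr (fun i r => compC (letC y a i) r) oneC

/-- the word of the inverse -/
def invW (w : List ℕ) : List ℕ := (w.map fun i => (i + 3) % 6).reverse

/-- a word shows that `a` cannot be conjugate to the fixed element -/
def killC (y a : ℕ) (w : List ℕ) : Bool :=
  let h := wordC y a w
  let c := compC (compC h xC) (wordC y a (invW w))
  (!(Nat.beq c xC) && !(Nat.beq c (compC xC xC))) &&
    (Nat.beq (compC h y) (compC y h) || Nat.beq (compC c xC) (compC xC c))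

theorem killC_ok : (tListC.all fun y =>
    !(Nat.beq (compC y xC) (compC xC y)) || Nat.beq y xC || Nat.beq y (compC xC xC) ||
      tListC.all fun a => Nat.beq (compC a xC) (compC xC a) || certWords.any (killC y a)) = true := by
  decide +kernel

/-- a factor switched on by a bit -/
def selV (b : Bool) (v : V) : V := if b then v else 1

set_option maxHeartbeats 1000000 in
/-- Isolation of a fixed-point-free element of order three on a space of order 16. -/
theorem isolated [Finite V] (hV : Nat.card V = 16) (hsq : ∀ v : V, v * v = 1) {K : Type*} [Group K]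
    (ρ : K →* MulAut V) {x y : K} (hx : (ρ x) ^ 3 = 1) (hxf : ∀ v, ρ x v = v → v = 1)
    (hy : (ρ y) ^ 3 = 1) (hyf : ∀ v, ρ y v = v → v = 1) (hxy : Commute (ρ x) (ρ y))
    (hy1 : ρ y ≠ ρ x) (hy2 : ρ y ≠ (ρ x) ^ 2)
    (hiso : ∀ g, Commute (ρ x) (ρ (g * x * g⁻¹)) →
      ρ (g * x * g⁻¹) = ρ x ∨ ρ (g * x * g⁻¹) = (ρ x) ^ 2)
    (hcent : ∀ h, Commute (ρ h) (ρ y) → ρ (h * x * h⁻¹) = ρ x ∨ ρ (h * x * h⁻¹) = (ρ x) ^ 2)
    (g : K) : ρ (g * x * g⁻¹) = ρ x ∨ ρ (g * x * g⁻¹) = (ρ x) ^ 2 := by
  classical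
  set X := ρ x with hXdef
  have X3 : ∀ v, X (X (X v)) = v := fun v => by
    simpa [pow_succ, MulAut.mul_apply] using DFunLike.congr_fun hx v
  have hor : ∀ v, v * X v * X (X v) = 1 := orb3_eq_one hx hxf
  have hXX : ∀ v, X (X v) = v * X v := fun v =>
    (eq_inv_of_mul_eq_one_right (hor v)).trans (eq_inv_of_mul_eq_one_left (hsq (v * X v))).symm
  haveI : Nontrivial V := Finite.one_lt_card_iff_nontrivial.1 (by omega)
  obtain ⟨v1, hv1⟩ := exists_ne (1 : V)
  set v2 := X v1 with hv2
  let S : Finset V := {1, v1, v2, v1 * v2}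
  have hS : ∀ v, v ∈ S → X v ∈ S := by
    intro v hv
    simp only [S, Finset.mem_insert, Finset.mem_singleton] at hv ⊢
    rcases hv with rfl | rfl | rfl | rfl
    · exact Or.inl (map_one X)
    · exact Or.inr (Or.inr (Or.inl rfl))
    · exact Or.inr (Or.inr (Or.inr (by rw [hv2, hXX])))
    · refine Or.inr (Or.inl ?_)
      rw [map_mul, ← hv2, show X v2 = v1 * v2 by rw [hv2, hXX], mul_left_comm, hsq, mul_one]
  obtain ⟨v3, hv3⟩ : ∃ v, v ∉ S := by
    by_contra hcon
    push Not at hcon
    haveI := Fintype.ofFinite V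
    have h1 : (Finset.univ : Finset V).card ≤ S.card := Finset.card_le_card fun v _ => hcon v
    have h2 : S.card ≤ 4 := (Finset.card_insert_le _ _).trans (Nat.succ_le_succ
      ((Finset.card_insert_le _ _).trans (Nat.succ_le_succ
        ((Finset.card_insert_le _ _).trans (by rw [Finset.card_singleton])))))
    rw [Finset.card_univ, ← Nat.card_eq_fintype_card, hV] at h1
    omega
  set v4 := X v3 with hv4
  let f : ℕ → V := fun n => selV (n.testBit 0) v1 * selV (n.testBit 1) v2 *
    selV (n.testBit 2) v3 * selV (n.testBit 3) v4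
  have fx : ∀ a b, f (a ^^^ b) = f a * f b := by
    intro a b
    have hs : ∀ (p q : Bool) (v : V), selV (p ^^ q) v = selV p v * selV q v := by
      intro p q v
      cases p <;> cases q <;> simp [selV, hsq]
    simp only [f, Nat.testBit_xor, hs]
    simp only [mul_comm, mul_left_comm, mul_assoc]
  have finj : ∀ n < 16, f n = 1 → n = 0 := by
    intro n hn e
    by_contra h0
    have key : ∀ (p q : Bool), selV p v3 * selV q v4 ∈ S → p = false ∧ q = false := by
      intro p q hpq
      cases p <;> cases q <;> simp only [selV, Bool.false_eq_true, if_false, if_true, one_mul,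
        mul_one] at hpq
      · exact ⟨rfl, rfl⟩
      · exact absurd (by simpa [hv4, X3] using hS _ (hS _ hpq)) hv3
      · exact absurd hpq hv3
      · have h := hS _ (show X (X v3) ∈ S by rw [hXX, ← hv4]; exact hpq)
        rw [X3] at h
        exact absurd h hv3
    have hmem : selV (n.testBit 0) v1 * selV (n.testBit 1) v2 ∈ S := by
      generalize n.testBit 0 = p
      generalize n.testBit 1 = q
      cases p <;> cases q <;> simp [selV, S]
    have hmul : selV (n.testBit 2) v3 * selV (n.testBit 3) v4 =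
        selV (n.testBit 0) v1 * selV (n.testBit 1) v2 := by
      have e' : selV (n.testBit 0) v1 * selV (n.testBit 1) v2 *
          (selV (n.testBit 2) v3 * selV (n.testBit 3) v4) = 1 := by rw [← mul_assoc]; exact e
      exact mul_left_cancel (e'.trans (hsq _).symm)
    obtain ⟨e2, e3⟩ := key _ _ (hmul ▸ hmem)
    rw [e2, e3] at hmul
    have e01 : selV (n.testBit 0) v1 * selV (n.testBit 1) v2 = 1 := by
      rw [← hmul]; simp [selV]
    have hne2 : v2 ≠ 1 := fun h => hv1 (by rw [← X3 v1, ← hv2, h, map_one, map_one])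
    have e0 : n.testBit 0 = false ∧ n.testBit 1 = false := by
      generalize n.testBit 0 = p at e01 ⊢
      generalize n.testBit 1 = q at e01 ⊢
      cases p <;> cases q <;> simp only [selV, Bool.false_eq_true, if_false, if_true, one_mul,
        mul_one] at e01
      · exact ⟨rfl, rfl⟩
      · exact absurd e01 hne2
      · exact absurd e01 hv1
      · refine absurd (hxf v1 ?_) hv1
        rw [← hv2]
        exact mul_left_cancel (a := v1) (e01.trans (hsq v1).symm)
    apply h0
    refine Nat.eq_of_testBit_eq fun i => ?_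
    rw [Nat.zero_testBit]
    match i with
    | 0 => exact e0.1
    | 1 => exact e0.2
    | 2 => exact e2
    | 3 => exact e3
    | k + 4 =>
      exact Nat.testBit_lt_two_pow (lt_of_lt_of_le hn
        (Nat.pow_le_pow_right (n := 2) (by norm_num) (show 4 ≤ k + 4 by omega)))
  have fbij : Function.Bijective fun n : Fin 16 => f n := by
    haveI := Fintype.ofFinite V
    rw [Fintype.bijective_iff_injective_and_card]
    refine ⟨fun a b e => Fin.ext ?_, by rw [Fintype.card_fin, ← Nat.card_eq_fintype_card, hV]⟩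
    have h1 : f ((a : ℕ) ^^^ b) = 1 := by rw [fx, show f a = f b from e, hsq]
    exact Nat.xor_eq_zero_iff.1 (finj _ (Nat.xor_lt_two_pow (n := 4) a.2 b.2) h1)
  let φ : V → ℕ := fun v => (((Equiv.ofBijective _ fbij).symm v : Fin 16) : ℕ)
  have φlt : ∀ v, φ v < 16 := fun v => Fin.is_lt _
  have fφ : ∀ v, f (φ v) = v := fun v => (Equiv.ofBijective _ fbij).apply_symm_apply v
  have φf : ∀ n < 16, φ (f n) = n := fun n hn =>
    congrArg Fin.val ((Equiv.ofBijective _ fbij).symm_apply_apply ⟨n, hn⟩)
  let cd : MulAut V → ℕ := fun ψ =>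
    φ (ψ v1) + 16 * φ (ψ v2) + 256 * φ (ψ v3) + 4096 * φ (ψ v4)
  have nib : ∀ ψ : MulAut V, cd ψ % 16 = φ (ψ v1) ∧ cd ψ / 16 % 16 = φ (ψ v2) ∧
      cd ψ / 256 % 16 = φ (ψ v3) ∧ cd ψ / 4096 % 16 = φ (ψ v4) := by
    intro ψ
    have := φlt (ψ v1); have := φlt (ψ v2); have := φlt (ψ v3); have := φlt (ψ v4)
    simp only [cd]
    omega
  have happ : ∀ (ψ : MulAut V) (n : ℕ), n < 16 → appC (cd ψ) n = φ (ψ (f n)) := by
    intro ψ n hn
    obtain ⟨a, b, c, d⟩ := nib ψ
    have hlt : appC (cd ψ) n < 16 := by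
      unfold appC
      rw [a, b, c, d]
      exact Nat.xor_lt_two_pow (n := 4) (Nat.xor_lt_two_pow (n := 4) (Nat.xor_lt_two_pow (n := 4)
        (by split_ifs <;> [exact φlt _; norm_num]) (by split_ifs <;> [exact φlt _; norm_num]))
        (by split_ifs <;> [exact φlt _; norm_num])) (by split_ifs <;> [exact φlt _; norm_num])
    rw [← φf _ hlt]
    refine congrArg φ ?_
    have h0 : f 0 = 1 := by simp [f, selV]
    have hbit : ∀ (i : ℕ) (v : V), f (if Nat.beq (n / 2 ^ i % 2) 1 then φ v else 0) =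
        selV (n.testBit i) v := by
      intro i v
      rcases Nat.mod_two_eq_zero_or_one (n / 2 ^ i) with h | h <;>
        simp [Nat.testBit_eq_decide_div_mod_eq, h, h0, fφ, selV]
    have h0' := hbit 0 (ψ v1); have h1' := hbit 1 (ψ v2)
    have h2' := hbit 2 (ψ v3); have h3' := hbit 3 (ψ v4)
    simp only [pow_zero, Nat.div_one, pow_one, show 2 ^ 2 = 4 from rfl, show 2 ^ 3 = 8 from rfl]
      at h0' h1' h2' h3'
    unfold appC
    rw [a, b, c, d]
    show f (_ ^^^ _ ^^^ _ ^^^ _) = _
    rw [fx, fx, fx, h0', h1', h2', h3']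
    have hsel : ∀ (p : Bool) (v : V), selV p (ψ v) = ψ (selV p v) := fun p v => by
      cases p <;> simp [selV]
    simp only [f, hsel, map_mul]
  have hcomp : ∀ a b : MulAut V, compC (cd a) (cd b) = cd (a * b) := by
    intro a b
    obtain ⟨e1, e2, e3, e4⟩ := nib b
    unfold compC
    rw [e1, e2, e3, e4, happ a _ (φlt _), happ a _ (φlt _), happ a _ (φlt _), happ a _ (φlt _),
      fφ, fφ, fφ, fφ]
    rfl
  have hinj : Function.Injective cd := by
    intro a b e
    obtain ⟨a1, a2, a3, a4⟩ := nib a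
    obtain ⟨b1, b2, b3, b4⟩ := nib b
    rw [e] at a1 a2 a3 a4
    have hφ : Function.Injective φ := fun u v h => by rw [← fφ u, h, fφ]
    have q1 : a v1 = b v1 := hφ (a1.symm.trans b1)
    have q2 : a v2 = b v2 := hφ (a2.symm.trans b2)
    have q3 : a v3 = b v3 := hφ (a3.symm.trans b3)
    have q4 : a v4 = b v4 := hφ (a4.symm.trans b4)
    have hsel : ∀ (ψ : MulAut V) (p : Bool) (v : V), ψ (selV p v) = selV p (ψ v) := fun ψ p v => by
      cases p <;> simp [selV]
    refine MulEquiv.ext fun v => ?_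
    rw [← fφ v]
    simp only [f, map_mul, hsel, q1, q2, q3, q4]
  have fbits : f 1 = v1 ∧ f 2 = v2 ∧ f 4 = v3 ∧ f 8 = v4 ∧ f 3 = v1 * v2 ∧ f 12 = v3 * v4 := by
    simp [f, selV, Nat.testBit_eq_decide_div_mod_eq]
  have cdX : cd X = xC := by
    obtain ⟨g1, g2, g3, g4, g5, g6⟩ := fbits
    have q1 : φ (X v1) = 2 := by rw [← hv2, ← g2, φf _ (by norm_num)]
    have q2 : φ (X v2) = 3 := by rw [hv2, hXX, ← hv2, ← g5, φf _ (by norm_num)]
    have q3 : φ (X v3) = 8 := by rw [← hv4, ← g4, φf _ (by norm_num)]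
    have q4 : φ (X v4) = 12 := by rw [hv4, hXX, ← hv4, ← g6, φf _ (by norm_num)]
    simp only [cd, xC, q1, q2, q3, q4]
  have cd1 : cd 1 = oneC := by
    obtain ⟨g1, g2, g3, g4, -, -⟩ := fbits
    simp only [cd, oneC, MulAut.one_apply, ← g1, ← g2, ← g3, ← g4]
    rw [φf _ (by norm_num), φf _ (by norm_num), φf _ (by norm_num), φf _ (by norm_num)]
  have hT : ∀ ψ : MulAut V, ψ ^ 3 = 1 → (∀ v, ψ v = v → v = 1) → cd ψ ∈ tListC := by
    intro ψ h3 hf
    have hlt : cd ψ < 256 * 256 := by
      have := φlt (ψ v1); have := φlt (ψ v2); have := φlt (ψ v3); have := φlt (ψ v4)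
      simp only [cd]; omega
    have hc := List.all_eq_true.1 (List.all_eq_true.1 tListC_complete (cd ψ / 256)
      (List.mem_range.2 (by omega))) (cd ψ % 256) (List.mem_range.2 (Nat.mod_lt _ (by norm_num)))
    rw [Nat.div_add_mod (cd ψ) 256] at hc
    have hisT : isTC (cd ψ) = true := by
      rw [isTC, List.all_eq_true]
      intro e he
      have he16 : e < 16 := by
        simp only [List.mem_cons, List.not_mem_nil, or_false] at he
        omega
      rw [Nat.beq_eq, happ ψ e he16, happ ψ _ (φlt _), fφ]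
      refine finj _ (Nat.xor_lt_two_pow (n := 4) (φlt _) (Nat.xor_lt_two_pow (n := 4) (φlt _) he16)) ?_
      show f (_ ^^^ (_ ^^^ _)) = 1
      rw [fx, fx, fφ, fφ, ← orb3_eq_one h3 hf (f e)]
      simp only [orb3, mul_comm, mul_left_comm]
    rw [hisT] at hc
    simp only [Bool.not_true, Bool.false_or, List.any_eq_true, Nat.beq_eq] at hc
    obtain ⟨t, ht, e⟩ := hc
    exact e ▸ ht
  set a := g * x * g⁻¹ with hadef
  have ha3 : (ρ a) ^ 3 = 1 := by
    rw [hadef, map_mul, map_mul, map_inv, conj_pow, hx, mul_one, mul_inv_cancel]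
  have haf : ∀ v, ρ a v = v → v = 1 := by
    intro v hv
    rw [hadef, map_mul, map_mul, map_inv, MulAut.mul_apply, MulAut.mul_apply] at hv
    have h1 : X ((ρ g)⁻¹ v) = (ρ g)⁻¹ v := (ρ g).injective (by simpa using hv)
    have h2 := hxf _ h1
    have := congrArg (ρ g) h2
    simpa using this
  by_cases hca : Commute X (ρ a)
  · exact hiso g hca
  exfalso
  have hk := List.all_eq_true.1 killC_ok _ (hT (ρ y) hy hyf)
  simp only [Bool.or_eq_true, Bool.not_eq_true', Nat.beq_eq, List.all_eq_true, List.any_eq_true] at hk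
  rcases hk with ((hk | hk) | hk) | hk
  · rw [← cdX, hcomp, hcomp, hxy.eq] at hk
    simp at hk
  · exact hy1 (hinj (hk.trans cdX.symm))
  · refine hy2 (hinj ?_)
    rw [hk, ← cdX, hcomp, pow_two]
  rcases hk (cd (ρ a)) (hT _ ha3 haf) with hk | ⟨w, hw, hk⟩
  · rw [← cdX, hcomp, hcomp] at hk
    exact hca (hinj hk).symm
  let lk : ℕ → K := fun i => match i with
    | 0 => x
    | 1 => y
    | 2 => a
    | 3 => x * x
    | 4 => y * y
    | _ => a * a
  have hlk : ∀ i, cd (ρ (lk i)) = letC (cd (ρ y)) (cd (ρ a)) i := by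
    intro i
    match i with
    | 0 => exact cdX
    | 1 => rfl
    | 2 => rfl
    | 3 =>
      show cd (ρ (x * x)) = compC xC xC
      rw [map_mul, ← hcomp, ← hXdef, cdX]
    | 4 => show cd (ρ (y * y)) = compC (cd (ρ y)) (cd (ρ y)); rw [map_mul, hcomp]
    | n + 5 => show cd (ρ (a * a)) = compC (cd (ρ a)) (cd (ρ a)); rw [map_mul, hcomp]
  have hword : ∀ l : List ℕ, cd (ρ (l.map lk).prod) = wordC (cd (ρ y)) (cd (ρ a)) l := by
    intro l
    induction l with
    | nil => simp only [List.map_nil, List.prod_nil, map_one, wordC, List.foldr_nil, cd1]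
    | cons i l ih =>
      rw [List.map_cons, List.prod_cons, map_mul, ← hcomp, hlk, ih]
      rfl
  set h : K := (w.map lk).prod with hh
  have hlt : ∀ i ∈ w, i < 6 := by
    intro i hi
    have : ∀ v ∈ certWords, ∀ j ∈ v, j < 6 := by decide
    exact this w hw i hi
  have hinv : ρ ((invW w).map lk).prod = (ρ h)⁻¹ := by
    have hl : ∀ i, i < 6 → ρ (lk ((i + 3) % 6)) = (ρ (lk i))⁻¹ := by
      intro i hi
      have q : ∀ z : K, ρ z ^ 3 = 1 → ρ (z * z) = (ρ z)⁻¹ ∧ ρ z = (ρ (z * z))⁻¹ := by
        intro z hz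
        have e : ρ (z * z) = (ρ z)⁻¹ := by
          rw [map_mul, eq_inv_iff_mul_eq_one, ← pow_two, ← pow_succ, hz]
        exact ⟨e, by rw [e, inv_inv]⟩
      interval_cases i
      · exact (q x hx).1
      · exact (q y hy).1
      · exact (q a ha3).1
      · exact (q x hx).2
      · exact (q y hy).2
      · exact (q a ha3).2
    have : ∀ l : List ℕ, (∀ i ∈ l, i < 6) → ρ ((invW l).map lk).prod = (ρ (l.map lk).prod)⁻¹ := by
      intro l hl6
      induction l with
      | nil => simp [invW]
      | cons i l ih =>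
        have hr : invW (i :: l) = invW l ++ [(i + 3) % 6] := by simp [invW]
        rw [hr, List.map_append, List.prod_append, map_mul, ih fun j hj => hl6 j (List.mem_cons_of_mem _ hj),
          List.map_cons, List.map_nil, List.prod_singleton, hl i (hl6 i List.mem_cons_self),
          List.map_cons, List.prod_cons, map_mul, mul_inv_rev]
    exact this w hlt
  have hc : cd (ρ (h * x * h⁻¹)) = compC (compC (wordC (cd (ρ y)) (cd (ρ a)) w) xC)
      (wordC (cd (ρ y)) (cd (ρ a)) (invW w)) := by
    rw [map_mul, map_mul, map_inv, ← hinv, ← hcomp, ← hcomp, hh, hword, hword, ← hXdef, cdX]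
  simp only [killC, ← hc, Bool.and_eq_true, Bool.not_eq_true', Bool.or_eq_true, Nat.beq_eq] at hk
  obtain ⟨⟨n1, n2⟩, hk⟩ := hk
  have hno : ¬ (ρ (h * x * h⁻¹) = X ∨ ρ (h * x * h⁻¹) = X ^ 2) := by
    rintro (e | e)
    · rw [e, cdX] at n1; simp at n1
    · rw [e, pow_two, ← hcomp, cdX] at n2; simp at n2
  rcases hk with hk | hk
  · rw [← hword, ← hh, hcomp, hcomp] at hk
    exact hno (hcent h (hinj hk))
  · rw [← cdX, hcomp, hcomp] at hk
    exact hno (hiso h (hinj hk).symm)

end CfsgLib.Spor.JankoFourChar2
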