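import Cfsg.Agent.Lib.Spor.JankoFourChar2.Structure
import Cfsg.Agent.Lib.Spor.JankoFourChar2.Linear
import Cfsg.Agent.Lib.Coprime.Action

/-!
The action of the centraliser of the involution on the two-core modulo its centre, and the
centralisers of elements of order three in it.
-/

set_option autoImplicit false
set_option linter.style.haveILetI false
set_option linter.unusedSectionVars false

namespace CfsgLib.Spor.JankoFourChar2

open Cfsg CfsgLib.Spor Subgroup
open scoped Pointwise commutatorElement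

namespace Ctx

variable {G : Type*} [Group G] [Finite G] (d : Ctx G)

/-- the two-core modulo its centre -/
abbrev V : Type _ := ↥d.Q ⧸ center ↥d.Q

theorem V_comm (a b : d.V) : a * b = b * a := by
  induction a using QuotientGroup.induction_on with | H a => ?_
  induction b using QuotientGroup.induction_on with | H b => ?_
  rw [← QuotientGroup.mk_mul, ← QuotientGroup.mk_mul, QuotientGroup.eq, d.center_eq,
    ← d.commutator_eq]
  rw [show (a * b)⁻¹ * (b * a) = ⁅b⁻¹, a⁻¹⁆ by rw [commutatorElement_def]; group, commutator_def]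
  exact commutator_mem_commutator (mem_top _) (mem_top _)

noncomputable instance instCommV : CommGroup d.V :=
  { (inferInstance : Group d.V) with mul_comm := d.V_comm }

theorem V_sq (v : d.V) : v * v = 1 := by
  haveI : Fact (Nat.Prime 2) := ⟨Nat.prime_two⟩
  induction v using QuotientGroup.induction_on with | H a => ?_
  rw [← QuotientGroup.mk_mul, QuotientGroup.eq_one_iff, d.center_eq, ← d.frattini_eq, ← sq]
  exact CfsgLib.PGroups.pow_mem_frattini d.Q_pGroup a

theorem card_V : Nat.card d.V = 4096 := by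
  have h := card_eq_card_quotient_mul_card_subgroup (center ↥d.Q)
  rw [d.card_Q, d.isExtraspecial.2] at h
  change Nat.card (↥d.Q ⧸ center ↥d.Q) = 4096
  omega

theorem conj_mem_Q (h : ↥d.H) (q : ↥d.Q) : (h : G) * q * (h : G)⁻¹ ∈ d.Q :=
  (mem_normalizer_iff.1 (d.H_le_normalizer h.2) _).1 q.2

/-- conjugation on the two-core -/
noncomputable def actQ : ↥d.H →* MulAut ↥d.Q :=
  (normalizerMonoidHom d.Q).comp (inclusion d.H_le_normalizer)

theorem actQ_apply (h : ↥d.H) (q : ↥d.Q) : ((d.actQ h q : ↥d.Q) : G) = h * q * (h : G)⁻¹ := rfl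

/-- the action on the two-core modulo its centre -/
noncomputable def act : ↥d.H →* MulAut d.V where
  toFun h := QuotientGroup.congr (center ↥d.Q) (center ↥d.Q) (d.actQ h)
    (Subgroup.characteristic_iff_map_eq.1 inferInstance (d.actQ h))
  map_one' := by
    ext v
    induction v using QuotientGroup.induction_on with | H a => ?_
    show ((d.actQ 1 a : ↥d.Q) : d.V) = _
    rw [map_one]; rfl
  map_mul' g h := by
    ext v
    induction v using QuotientGroup.induction_on with | H a => ?_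
    show ((d.actQ (g * h) a : ↥d.Q) : d.V) = _
    rw [map_mul]; rfl

theorem act_mk (h : ↥d.H) (q : ↥d.Q) :
    d.act h (q : d.V) = ((⟨_, d.conj_mem_Q h q⟩ : ↥d.Q) : d.V) := rfl

theorem mem_center_iff' {q : ↥d.Q} : q ∈ center ↥d.Q ↔ (q : G) = 1 ∨ (q : G) = d.z := by
  rw [d.center_eq, ← d.mem_zpowers_z, ← d.map_zpowers_zQ]
  exact ⟨fun h => ⟨q, h, rfl⟩, fun ⟨p, hp, he⟩ => Subtype.ext (a1 := p) (a2 := q) he ▸ hp⟩

theorem act_mk_eq_iff {h : ↥d.H} {q : ↥d.Q} :
    d.act h (q : d.V) = (q : d.V) ↔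
      (h : G) * q * (h : G)⁻¹ = q ∨ (h : G) * q * (h : G)⁻¹ = q * d.z := by
  rw [act_mk, eq_comm, QuotientGroup.eq, d.mem_center_iff']
  simp only [coe_mul, coe_inv, inv_mul_eq_iff_eq_mul]
  constructor
  · rintro (h1 | h1)
    · exact Or.inl (by rw [h1, mul_one])
    · exact Or.inr h1
  · rintro (h1 | h1)
    · exact Or.inl (by rw [h1, mul_one])
    · exact Or.inr h1

/-- an element of odd order fixing a class fixes each of its members -/
theorem comm_of_fixed {h : ↥d.H} {n : ℕ} (hn : (h : G) ^ n = 1) (hodd : Odd n) {q : ↥d.Q}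
    (hq : d.act h (q : d.V) = (q : d.V)) : (h : G) * q = q * h := by
  rcases d.act_mk_eq_iff.1 hq with h1 | h1
  · exact mul_inv_eq_iff_eq_mul.1 h1
  · exfalso
    have hz : Commute (h : G) d.z := mem_centralizer_singleton_iff.1 h.2
    have hk : ∀ k : ℕ, (h : G) ^ k * q * ((h : G) ^ k)⁻¹ = q * d.z ^ k := by
      intro k
      induction k with
      | zero => simp
      | succ k ih =>
        calc (h : G) ^ (k + 1) * q * ((h : G) ^ (k + 1))⁻¹
            = (h : G) * ((h : G) ^ k * q * ((h : G) ^ k)⁻¹) * (h : G)⁻¹ := by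
              rw [pow_succ']; group
          _ = (h : G) * q * (h : G)⁻¹ * ((h : G) * d.z ^ k * (h : G)⁻¹) := by rw [ih]; group
          _ = q * d.z * d.z ^ k := by rw [h1, (hz.pow_right k).eq, mul_inv_cancel_right]
          _ = q * d.z ^ (k + 1) := by rw [pow_succ', mul_assoc]
    have h2 := hk n
    obtain ⟨m, rfl⟩ := hodd
    rw [hn, pow_succ, pow_mul, sq, d.z_sq, one_pow, one_mul, one_mul, inv_one, mul_one] at h2
    exact d.z_ne (mul_eq_left.1 h2.symm)

theorem act_eq_one_iff {h : ↥d.H} : d.act h = 1 ↔ (h : G) ∈ d.Q := by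
  constructor
  · intro h1
    haveI : Fact (Nat.Prime 2) := ⟨Nat.prime_two⟩
    have hp : IsPGroup 2 ↥d.act.ker := by
      intro k
      obtain ⟨e, m, hm, hem⟩ := Nat.exists_eq_pow_mul_and_not_dvd
        (orderOf_pos k).ne' 2 (by norm_num)
      refine ⟨e, ?_⟩
      have hkm : (((k ^ 2 ^ e : ↥d.act.ker) : ↥d.H) : G) ^ m = 1 := by
        rw [← coe_pow, ← coe_pow, ← pow_mul, ← hem, pow_orderOf_eq_one]; rfl
      have hodd : Odd m := Nat.odd_iff.2 (by omega)
      set h' : ↥d.H := ((k ^ 2 ^ e : ↥d.act.ker) : ↥d.H) with hh'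
      have hQ : (h' : G) ∈ d.Q := by
        refine d.char2 ⟨h'.2, mem_centralizer_iff.2 fun q hq => ?_⟩
        refine (d.comm_of_fixed hkm hodd (q := ⟨q, hq⟩) ?_).symm
        rw [show d.act h' = 1 from MonoidHom.mem_ker.1 (k ^ 2 ^ e).2]
        rfl
      obtain ⟨j, hj⟩ := d.Q_pGroup ⟨_, hQ⟩
      have hg := pow_gcd_eq_one.2 ⟨congrArg Subtype.val hj, hkm⟩
      rw [show Nat.gcd (2 ^ j) m = 1 from
        Nat.Coprime.pow_left j (Nat.coprime_two_left.2 hodd), pow_one] at hg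
      exact Subtype.ext (Subtype.ext hg)
    have hle : d.act.ker ≤ pCore 2 ↥d.H := CfsgLib.Base.le_pCore hp
    exact ⟨h, hle (MonoidHom.mem_ker.2 h1), rfl⟩
  · intro hq
    ext v
    induction v using QuotientGroup.induction_on with | H q => ?_
    rw [MulAut.one_apply, d.act_mk_eq_iff]
    rcases d.commutator_cases hq q.2 with h1 | h1
    · exact Or.inl (mul_inv_eq_one.1 h1)
    · refine Or.inr ?_
      rw [mul_inv_eq_iff_eq_mul.1 h1]
      exact mem_centralizer_singleton_iff.1 (d.Q_le_H q.2) |>.symm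

theorem act_eq_iff {g h : ↥d.H} : d.act g = d.act h ↔ (g : G)⁻¹ * h ∈ d.Q := by
  rw [← coe_inv, ← coe_mul, ← d.act_eq_one_iff, map_mul, map_inv, inv_mul_eq_one]

/-- the fixed space of an automorphism -/
def Fix (f : MulAut d.V) : Subgroup d.V := f.toMonoidHom.eqLocus (MonoidHom.id _)

theorem mem_Fix {f : MulAut d.V} {v : d.V} : v ∈ d.Fix f ↔ f v = v := Iff.rfl

theorem card_Fix {a : ↥d.H} (ha : (a : G) ^ 3 = 1) :
    2 * Nat.card ↥(d.Fix (d.act a)) = Nat.card ↥(d.Q ⊓ centralizer ({(a : G)} : Set G)) := by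
  have hF : d.Fix (d.act a) = ((centralizer ({(a : G)} : Set G)).subgroupOf d.Q).map
      (QuotientGroup.mk' (center ↥d.Q)) := by
    ext v
    induction v using QuotientGroup.induction_on with | H q => ?_
    rw [mem_Fix, mem_map]
    constructor
    · intro h
      exact ⟨q, mem_subgroupOf.2 (mem_centralizer_singleton_iff.2
        (d.comm_of_fixed ha (by decide) h).symm), rfl⟩
    · rintro ⟨p, hp, hpq⟩
      rw [← hpq]
      refine d.act_mk_eq_iff.2 (Or.inl ?_)
      rw [← mem_centralizer_singleton_iff.1 (mem_subgroupOf.1 hp), mul_inv_cancel_right]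
  have hle : center ↥d.Q ≤ (centralizer ({(a : G)} : Set G)).subgroupOf d.Q := by
    intro q hq
    rw [mem_subgroupOf]
    rcases d.mem_center_iff'.1 hq with h | h
    · rw [h]; exact one_mem _
    · rw [h]
      exact mem_centralizer_singleton_iff.2 (mem_centralizer_singleton_iff.1 a.2).symm
  have hcard : Nat.card ↥((centralizer ({(a : G)} : Set G)).subgroupOf d.Q) =
      Nat.card ↥(d.Q ⊓ centralizer ({(a : G)} : Set G)) :=
    Nat.card_congr
      { toFun := fun q => ⟨_, q.1.2, mem_subgroupOf.1 q.2⟩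
        invFun := fun q => ⟨⟨q, q.2.1⟩, mem_subgroupOf.2 q.2.2⟩
        left_inv := fun q => rfl
        right_inv := fun q => rfl }
  rw [hF, CfsgLib.Coprime.card_map_mk', ← hcard, ← d.isExtraspecial.2,
    ← relIndex_bot_left, ← relIndex_bot_left,
    relIndex_mul_relIndex _ _ _ bot_le hle]

/-- the element `x` in the centraliser of the involution -/
abbrev xH : ↥d.H := ⟨d.x, d.C_le_H d.x_mem⟩

/-- the element `y` in the centraliser of the involution -/
abbrev yH : ↥d.H := ⟨d.y, d.C_le_H d.hy⟩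

/-- the action of `x` -/
noncomputable def X : MulAut d.V := d.act d.xH

/-- the action of `y` -/
noncomputable def Y : MulAut d.V := d.act d.yH

theorem X_pow_three : d.X ^ 3 = 1 := by
  rw [Ctx.X, ← map_pow, show d.xH ^ 3 = 1 from Subtype.ext d.x_pow_three, map_one]

theorem y_pow_three : d.y ^ 3 = 1 := by rw [← d.hy3]; exact pow_orderOf_eq_one _

theorem Y_pow_three : d.Y ^ 3 = 1 := by
  rw [Ctx.Y, ← map_pow, show d.yH ^ 3 = 1 from Subtype.ext d.y_pow_three, map_one]

theorem comm_XY : Commute d.X d.Y :=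
  (Commute.map (show Commute d.xH d.yH from Subtype.ext (d.mem_C.1 d.hy).symm) d.act)

theorem card_Fix_conj {f : MulAut d.V} (g : MulAut d.V) :
    Nat.card ↥(d.Fix (g * f * g⁻¹)) = Nat.card ↥(d.Fix f) := by
  refine (Nat.card_congr (Equiv.subtypeEquiv g.toEquiv fun v => ?_)).symm
  show f v = v ↔ (g * f * g⁻¹) (g v) = g v
  rw [MulAut.mul_apply, MulAut.mul_apply, MulAut.inv_apply_self]
  exact g.injective.eq_iff.symm

theorem card_Fix_X : Nat.card ↥(d.Fix d.X) = 1 := by
  have h := d.card_Fix (a := d.xH) d.x_pow_three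
  rw [show d.Q ⊓ centralizer ({(d.xH : G)} : Set G) = zpowers d.z from d.Q_inf_C,
    d.zpowers_z_card] at h
  unfold Ctx.X
  omega

theorem X_fpf (v : d.V) (h : d.X v = v) : v = 1 := by
  have h1 := eq_bot_of_card_eq _ d.card_Fix_X
  exact mem_bot.1 (h1 ▸ (d.mem_Fix.2 h))

/-- an element of order three of the centraliser of `x` outside `⟨x⟩` fixes 16 vectors -/
theorem card_Fix_three {a : ↥d.H} (ha : (a : G) ∈ d.C) (ha3 : orderOf (a : G) = 3)
    (han : (a : G) ∉ zpowers d.x) : Nat.card ↥(d.Fix (d.act a)) = 16 := by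
  have h := d.card_Fix (a := a) (by rw [← ha3]; exact pow_orderOf_eq_one _)
  rw [d.card_inf_centralizer_of_order_three d.C_le_normalizer ha ha3 han, ← d.card_R,
    d.card_R_eq] at h
  omega

theorem pow_pow_data (i : ℕ) {j : ℕ} (hj : ¬ 3 ∣ j) : d.x ^ i * d.y ^ j ∈ d.C ∧
    orderOf (d.x ^ i * d.y ^ j) = 3 ∧ d.x ^ i * d.y ^ j ∉ zpowers d.x := by
  haveI : Fact (Nat.Prime 3) := ⟨Nat.prime_three⟩
  have hn : d.x ^ i * d.y ^ j ∉ zpowers d.x := by
    intro h
    have h1 := (mul_mem_cancel_left (pow_mem (mem_zpowers d.x) i)).1 h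
    have h2 := pow_mem h1 j
    rw [← pow_mul, ← pow_mod_orderOf, d.hy3, show j * j % 3 = 1 by
      rw [Nat.mul_mod]
      have : j % 3 = 1 ∨ j % 3 = 2 := by omega
      rcases this with h | h <;> rw [h], pow_one] at h2
    exact d.hyx h2
  refine ⟨mul_mem (pow_mem d.x_mem _) (pow_mem d.hy _),
    orderOf_eq_prime ?_ fun h => hn (h ▸ one_mem _), hn⟩
  have hc : Commute (d.x ^ i) (d.y ^ j) := Commute.pow_pow (d.mem_C.1 d.hy).symm i j
  rw [hc.mul_pow, ← pow_mul, ← pow_mul, mul_comm i, mul_comm j, pow_mul, pow_mul, d.x_pow_three,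
    d.y_pow_three, one_pow, one_pow, one_mul]

theorem card_Fix_pow_pow (i : ℕ) {j : ℕ} (hj : ¬ 3 ∣ j) :
    Nat.card ↥(d.Fix (d.X ^ i * d.Y ^ j)) = 16 := by
  obtain ⟨h1, h2, h3⟩ := d.pow_pow_data i hj
  rw [Ctx.X, Ctx.Y, ← map_pow, ← map_pow, ← map_mul]
  exact d.card_Fix_three (by simpa using h1) (by simpa using h2) (by simpa using h3)

theorem card_Fix_Y : Nat.card ↥(d.Fix d.Y) = 16 := by
  simpa using d.card_Fix_pow_pow 0 (j := 1) (by norm_num)

theorem X_ne_one : d.X ≠ 1 := by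
  intro h
  have h1 := d.card_Fix_X
  rw [h, show d.Fix 1 = ⊤ from eq_top_iff.2 fun v _ => rfl, Subgroup.card_top, d.card_V] at h1
  norm_num at h1

theorem Xinv_eq : d.X⁻¹ = d.X ^ 2 := inv_eq_of_mul_eq_one_right (by
  rw [← pow_succ', d.X_pow_three])

/-- the subgroup normalising `⟨X⟩` -/
def M0 : Subgroup (MulAut d.V) := normalizer ((zpowers d.X : Subgroup (MulAut d.V)) : Set (MulAut d.V))

theorem mem_zpowers_X {f : MulAut d.V} :
    f ∈ zpowers d.X ↔ f = 1 ∨ f = d.X ∨ f = d.X⁻¹ := by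
  constructor
  · rintro ⟨n, rfl⟩
    show d.X ^ n = 1 ∨ d.X ^ n = d.X ∨ d.X ^ n = d.X⁻¹
    have hdec : d.X ^ n = d.X ^ (n % 3) := zpow_eq_zpow_emod' n d.X_pow_three
    have : n % 3 = 0 ∨ n % 3 = 1 ∨ n % 3 = 2 := by omega
    rcases this with h | h | h <;> rw [hdec, h]
    · exact Or.inl (zpow_zero _)
    · exact Or.inr (Or.inl (zpow_one _))
    · exact Or.inr (Or.inr (by rw [d.Xinv_eq]; rfl))
  · rintro (rfl | rfl | rfl)
    · exact one_mem _
    · exact mem_zpowers _
    · exact inv_mem (mem_zpowers _)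

theorem mem_M0_iff {f : MulAut d.V} :
    f ∈ d.M0 ↔ f * d.X * f⁻¹ = d.X ∨ f * d.X * f⁻¹ = d.X⁻¹ := by
  constructor
  · intro h
    have h1 := (mem_normalizer_iff.1 h d.X).1 (mem_zpowers _)
    rcases d.mem_zpowers_X.1 h1 with h2 | h2 | h2
    · exact absurd (conj_eq_one_iff.1 h2) d.X_ne_one
    · exact Or.inl h2
    · exact Or.inr h2
  · intro h
    haveI : Finite (MulAut d.V) := inferInstance
    refine mem_normalizer_fintype ?_
    intro v hv
    rw [SetLike.mem_coe] at hv ⊢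
    rcases d.mem_zpowers_X.1 hv with rfl | rfl | rfl
    · simp
    · rcases h with h | h <;> rw [h]
      · exact mem_zpowers _
      · exact inv_mem (mem_zpowers _)
    · rcases h with h | h <;> rw [conj_inv.symm, h]
      · exact inv_mem (mem_zpowers _)
      · rw [inv_inv]; exact mem_zpowers _

theorem exists_lift_centralizing {a h : ↥d.H} (ha : (a : G) ^ 3 = 1)
    (hc : Commute (d.act a) (d.act h)) :
    ∃ q ∈ d.Q, (h : G) * q * a = a * (h * q) := by
  haveI : Fact (Nat.Prime 2) := ⟨Nat.prime_two⟩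
  have hcop : (Nat.card ↥(zpowers (a : G))).Coprime (Nat.card ↥d.Q) := by
    rw [Nat.card_zpowers, d.card_Q]
    refine Nat.Coprime.pow_right _ (Nat.Coprime.coprime_dvd_left (orderOf_dvd_of_pow_eq_one ha) ?_)
    norm_num
  have hfix : ∀ b ∈ zpowers (a : G), (h : G)⁻¹ * (b * h * b⁻¹) ∈ d.Q := by
    intro b hb
    obtain ⟨n, rfl⟩ := hb
    have e : d.act h = d.act (a ^ n * h * (a ^ n)⁻¹) := by
      rw [map_mul, map_mul, map_inv, map_zpow, (hc.zpow_left n).eq, mul_inv_cancel_right]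
    simpa using d.act_eq_iff.1 e
  obtain ⟨c, hc', hcN⟩ := CfsgLib.Coprime.exists_centralizing_in_coset
    (A := zpowers (a : G)) (N := d.Q) (k := (h : G))
    (zpowers_le.2 (d.H_le_normalizer a.2)) hcop (Or.inl inferInstance) hfix
  refine ⟨_, hcN, ?_⟩
  rw [mul_inv_cancel_left]
  exact ((mem_centralizer_iff.1 hc') _ (mem_zpowers _)).symm

theorem act_mem_M0_of_comm {h : ↥d.H} (hc : Commute d.X (d.act h)) : d.act h ∈ d.M0 :=
  d.mem_M0_iff.2 (Or.inl (by rw [← hc.eq, mul_inv_cancel_right]))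

/-- an element of the image commuting with `X` comes from the centraliser of `x` -/
theorem exists_mem_C_of_comm {h : ↥d.H} (hc : Commute d.X (d.act h)) :
    ∃ c : ↥d.H, (c : G) ∈ d.C ∧ d.act c = d.act h := by
  obtain ⟨q, hq, he⟩ := d.exists_lift_centralizing (a := d.xH) d.x_pow_three hc
  refine ⟨h * ⟨q, d.Q_le_H hq⟩, d.mem_C.2 he, ?_⟩
  rw [map_mul, d.act_eq_one_iff.2 (show ((⟨q, d.Q_le_H hq⟩ : ↥d.H) : G) ∈ d.Q from hq), mul_one]

theorem mem_M0_of_comm_y {h : ↥d.H} (hy : (h : G) * d.y = d.y * h) : d.act h ∈ d.M0 := by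
  obtain ⟨F⟩ := exists_frame d.orderOf_t d.orderOf_w d.comm_wt
  set h' : G := d.g₀⁻¹ * h * d.g₀ with hh'
  have hconj : d.g₀ * h' * d.g₀⁻¹ = h := by rw [hh']; group
  have hC : h' ∈ d.C := by
    rw [d.mem_C]
    apply (MulAut.conj d.g₀).injective
    rw [map_mul (MulAut.conj d.g₀) h' d.x, map_mul (MulAut.conj d.g₀) d.x h']
    simp only [MulAut.conj_apply, d.hg, hconj]
    exact hy
  set a : ↥d.C := ⟨h', hC⟩ with ha
  have hz : h' * d.z' = d.z' * h' := by
    apply (MulAut.conj d.g₀).injective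
    rw [map_mul (MulAut.conj d.g₀) h' d.z', map_mul (MulAut.conj d.g₀) d.z' h']
    simp only [MulAut.conj_apply, d.conj_z', hconj]
    exact mem_centralizer_singleton_iff.1 h.2
  have hat : d.pi a ∈ centralizer ({d.t} : Set ↥Spor.M22) := by
    rw [mem_centralizer_singleton_iff, Ctx.t, ← map_mul, ← map_mul]
    exact congrArg _ (Subtype.ext hz)
  obtain ⟨v, hv, hvw⟩ := F.conj _ hat
  obtain ⟨r, hr, c, hc, rfl⟩ := d.U_decomp F hv
  obtain ⟨r', hr', rfl⟩ := hr
  obtain ⟨c', rfl⟩ := d.surj c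
  set e : ↥d.C := ⟨d.u, d.u_mem⟩ with he
  have hu3 : d.u ^ 3 = 1 := by rw [← d.orderOf_u]; exact pow_orderOf_eq_one _
  -- the lift of the fixed part commutes with `u`
  obtain ⟨n, hn⟩ : ∃ n : ℕ, d.pi c' ^ 2 ^ (n + 1) = 1 := by
    refine ⟨5, ?_⟩
    have h1 : (⟨d.pi c', hc.1⟩ : ↥F.U) ^ 64 = 1 := by
      rw [← F.card_U]; exact pow_card_eq_one'
    exact congrArg Subtype.val h1
  have hk : d.pi (c' * e * c'⁻¹ * e⁻¹) = 1 := by
    rw [map_mul, map_mul, map_mul, map_inv, map_inv,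
      show d.pi c' * d.pi e = d.pi e * d.pi c' from mem_centralizer_singleton_iff.1 hc.2]
    group
  have hce : c' * e = e * c' := by
    set k := c' * e * c'⁻¹ * e⁻¹ with hkdef
    have hkc : ∀ v : ↥d.C, Commute k v := fun v => Subtype.ext (d.ker_comm hk v.2)
    have h1 : c' * e * c'⁻¹ = k * e := by rw [hkdef]; group
    have hk3 : k ^ 3 = 1 := by
      have h3 := congrArg (· ^ 3) h1
      have he3 : e ^ 3 = 1 := Subtype.ext (by rw [coe_pow, coe_one]; exact hu3)
      simp only [conj_pow, he3, mul_one, mul_inv_cancel, (hkc e).mul_pow] at h3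
      exact h3.symm
    have hpow : ∀ m : ℕ, c' ^ m * e * (c' ^ m)⁻¹ = k ^ m * e := by
      intro m
      induction m with
      | zero => simp
      | succ m ih =>
        calc c' ^ (m + 1) * e * (c' ^ (m + 1))⁻¹ = c' * (c' ^ m * e * (c' ^ m)⁻¹) * c'⁻¹ := by
              rw [pow_succ']; group
          _ = k ^ (m + 1) * e := by
            rw [ih, ← mul_assoc c', ((hkc c').pow_left m).symm.eq, mul_assoc (k ^ m),
              mul_assoc (k ^ m), h1, ← mul_assoc, pow_succ]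
    have h2 := hpow (2 ^ (n + 1))
    rw [show c' ^ 2 ^ (n + 1) * e = e * c' ^ 2 ^ (n + 1) from
      Subtype.ext (d.ker_comm (by rw [map_pow]; exact hn) e.2), mul_inv_cancel_right] at h2
    have h4 : k ^ 2 ^ (n + 1) = 1 := by simpa using h2.symm
    have hg := pow_gcd_eq_one.2 ⟨h4, hk3⟩
    rw [show Nat.gcd (2 ^ (n + 1)) 3 = 1 from Nat.Coprime.pow_left _ (by norm_num), pow_one] at hg
    rw [hg, one_mul] at h1
    exact mul_inv_eq_iff_eq_mul.1 h1
  obtain ⟨s, hs⟩ : ∃ s : ℕ, d.pi (a * e * a⁻¹) = d.pi r' * d.pi c' * d.w ^ s := by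
    rcases hvw with h1 | h1
    · exact ⟨1, by rw [pow_one, map_mul, map_mul, map_inv, ← h1]; rfl⟩
    · refine ⟨2, ?_⟩
      rw [show d.w ^ 2 = d.w⁻¹ from (inv_eq_of_mul_eq_one_right (by
        rw [← pow_succ', show 2 + 1 = orderOf d.w by rw [d.orderOf_w]]; exact pow_orderOf_eq_one _)).symm, map_mul, map_mul,
        map_inv, ← h1]
      rfl
  -- the error term
  set f : ↥d.C := r'⁻¹ * (a * e * a⁻¹) * (e ^ s)⁻¹ with hf
  have hfpi : d.pi f = d.pi c' := by
    rw [hf, map_mul, map_mul, map_inv, map_inv, hs, map_pow, show d.pi e = d.w from rfl]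
    group
  have hfe : f * e = e * f := by
    have hkc : (c'⁻¹ * f) * e = e * (c'⁻¹ * f) :=
      Subtype.ext (d.ker_comm (by rw [map_mul, map_inv, hfpi, inv_mul_cancel]) e.2)
    calc f * e = c' * ((c'⁻¹ * f) * e) := by group
      _ = c' * e * (c'⁻¹ * f) := by rw [hkc]; group
      _ = e * f := by rw [hce]; group
  have hfC : d.g₀ * (f : G) * d.g₀⁻¹ ∈ d.C := by
    rw [d.mem_C]
    have h := congrArg (MulAut.conj d.g₀) (congrArg Subtype.val hfe)
    simpa only [coe_mul, map_mul, MulAut.conj_apply, he, d.conj_u] using h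
  set fH : ↥d.H := ⟨_, d.C_le_H hfC⟩ with hfH
  have hrQ : d.g₀ * (r' : G) * d.g₀⁻¹ ∈ d.Q := d.mem_Qp.1 hr'
  have hX' : d.act h * d.X * (d.act h)⁻¹ = d.act fH * d.X ^ s := by
    rw [Ctx.X, ← map_pow, ← map_inv, ← map_mul, ← map_mul, ← map_mul, d.act_eq_iff]
    have heq : (a : G) * d.u * (a : G)⁻¹ = r' * f * d.u ^ s := by
      have h1 : a * e * a⁻¹ = r' * f * e ^ s := by rw [hf]; group
      simpa [he] using congrArg Subtype.val h1
    have h2 : (h : G) * d.x * (h : G)⁻¹ =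
        (d.g₀ * r' * d.g₀⁻¹) * ((fH : G) * d.x ^ s) := by
      have h3 := congrArg (MulAut.conj d.g₀) heq
      simp only [map_mul, map_inv, map_pow, MulAut.conj_apply, d.conj_u, ha, hconj] at h3
      rw [h3, hfH, mul_assoc]
    simp only [coe_mul, coe_inv, coe_pow]
    rw [h2, mul_inv_rev, mul_assoc]
    have h4 := (mem_normalizer_iff.1 (d.H_le_normalizer
      (inv_mem (mul_mem fH.2 (pow_mem (d.C_le_H d.x_mem) s)))) _).1 (inv_mem hrQ)
    rwa [inv_inv, mul_assoc] at h4
  have hcomm : Commute (d.act fH) d.X :=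
    Commute.map (show Commute fH d.xH from Subtype.ext (d.mem_C.1 hfC)) d.act
  have hf3 : d.act fH ^ 3 = 1 := by
    have h3 := congrArg (· ^ 3) hX'
    simp only [conj_pow, d.X_pow_three, mul_one, mul_inv_cancel, (hcomm.pow_right s).mul_pow,
      ← pow_mul] at h3
    rw [mul_comm s, pow_mul, d.X_pow_three, one_pow, mul_one] at h3
    exact h3.symm
  obtain ⟨i, j, hij⟩ := d.ker_mem (f ^ 2 ^ (n + 1)) (by rw [map_pow, hfpi, hn])
  have hpow : d.act fH ^ 2 ^ (n + 1) = d.Y ^ i * d.act ⟨d.zy, d.C_le_H d.zy_mem⟩ ^ j := by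
    rw [Ctx.Y, ← map_pow, ← map_pow, ← map_pow, ← map_mul]
    refine congrArg _ (Subtype.ext ?_)
    simp only [coe_pow, coe_mul, hfH]
    have h5 := congrArg (MulAut.conj d.g₀) hij
    simp only [coe_pow, map_mul, map_pow, MulAut.conj_apply, d.hg] at h5
    exact h5
  have hzy2 : d.act ⟨d.zy, d.C_le_H d.zy_mem⟩ ^ 2 = 1 := by
    rw [← map_pow, show (⟨d.zy, d.C_le_H d.zy_mem⟩ : ↥d.H) ^ 2 = 1 from Subtype.ext (by
      rw [coe_pow, coe_one]; show (d.g₀ * d.z * d.g₀⁻¹) ^ 2 = 1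
      rw [conj_pow, sq, d.z_sq, mul_one, mul_inv_cancel]), map_one]
  have hZY : Commute d.Y (d.act ⟨d.zy, d.C_le_H d.zy_mem⟩) := by
    refine Commute.map (show Commute d.yH ⟨d.zy, d.C_le_H d.zy_mem⟩ from Subtype.ext ?_) d.act
    have h6 := congrArg (MulAut.conj d.g₀) (d.zcomm _ d.x_mem).symm
    simpa only [coe_mul, map_mul, MulAut.conj_apply, d.hg, Ctx.zy] using h6
  have hfY : d.act fH = d.Y ^ (i * 2 ^ (n + 1)) := by
    have h7 : (d.act fH ^ 2 ^ (n + 1)) ^ 2 ^ (n + 1) = d.act fH := by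
      rw [← pow_mul, ← mul_pow, show (2 : ℕ) * 2 = 4 from rfl, pow_eq_pow_mod _ hf3,
        Nat.pow_mod, show 4 % 3 = 1 from rfl, one_pow, show 1 % 3 = 1 from rfl, pow_one]
    rw [← h7, hpow, (hZY.pow_pow i j).mul_pow, ← pow_mul, ← pow_mul, pow_succ 2 n,
      show j * (2 ^ n * 2) = 2 * (j * 2 ^ n) by ring, pow_mul _ 2, hzy2, one_pow, mul_one]
  rw [d.mem_M0_iff]
  by_cases hm : 3 ∣ i * 2 ^ (n + 1)
  · obtain ⟨m, hm⟩ := hm
    rw [hfY, hm, pow_mul, d.Y_pow_three, one_pow, one_mul] at hX'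
    have hs' : d.X ^ s = d.X ^ (s % 3) := pow_eq_pow_mod s d.X_pow_three
    have : s % 3 = 0 ∨ s % 3 = 1 ∨ s % 3 = 2 := by omega
    rw [hs'] at hX'
    rcases this with h8 | h8 | h8 <;> rw [h8] at hX'
    · rw [pow_zero] at hX'
      exact absurd (conj_eq_one_iff.1 hX') d.X_ne_one
    · exact Or.inl (by rw [hX', pow_one])
    · exact Or.inr (by rw [hX', d.Xinv_eq])
  · exfalso
    rw [hfY, ← (d.comm_XY.pow_pow s _).eq] at hX'
    have h9 := d.card_Fix_pow_pow s hm
    rw [← hX', d.card_Fix_conj, d.card_Fix_X] at h9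
    norm_num at h9

/-- the centraliser of the image of an element of order three of the centraliser of `x` -/
theorem mem_M0_of_comm_three {a h : ↥d.H} (ha : (a : G) ∈ d.C) (ha3 : orderOf (a : G) = 3)
    (han : (a : G) ∉ zpowers d.x) (hc : Commute (d.act a) (d.act h)) : d.act h ∈ d.M0 := by
  obtain ⟨q, hq, he⟩ := d.exists_lift_centralizing (a := a)
    (by rw [← ha3]; exact pow_orderOf_eq_one _) hc
  obtain ⟨c, hcC, hca⟩ := d.conjy _ ha ha3 han
  set cH : ↥d.H := ⟨c, d.C_le_H hcC⟩ with hcH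
  set h1 : ↥d.H := cH * (h * ⟨q, d.Q_le_H hq⟩) * cH⁻¹ with hh1
  have h2 : (h1 : G) * d.y = d.y * h1 := by
    rw [← hca]
    simp only [hh1, hcH, coe_mul, coe_inv]
    rw [show c * ((h : G) * q) * c⁻¹ * (c * (a : G) * c⁻¹) = c * ((h : G) * q * a) * c⁻¹ by group,
      he]
    group
  have h3 := d.mem_M0_of_comm_y h2
  have hcM : d.act cH ∈ d.M0 := d.act_mem_M0_of_comm
    (Commute.map (show Commute d.xH cH from Subtype.ext (d.mem_C.1 hcC).symm) d.act)
  have h4 : d.act h = (d.act cH)⁻¹ * d.act h1 * d.act cH := by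
    rw [hh1, map_mul, map_mul, map_mul, map_inv,
      d.act_eq_one_iff.2 (show ((⟨q, d.Q_le_H hq⟩ : ↥d.H) : G) ∈ d.Q from hq)]
    group
  rw [h4]
  exact mul_mem (mul_mem (inv_mem hcM) h3) hcM

end Ctx

end CfsgLib.Spor.JankoFourChar2
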