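import Mathlib

/-!
# Brauer's fixed point formula for a group of exponent three acting on a 2-group

For commuting automorphisms `a`, `b` of a finite 2-group `W` with `a³ = b³ = 1` one has
`|W| |C(a,b)|³ = |C(a)| |C(b)| |C(ab)| |C(a²b)|`.
-/

set_option autoImplicit false

namespace CfsgLib.Spor.JankoFourChar2

open Subgroup

universe u

section Abelian

variable {W : Type u} [CommGroup W] [Finite W]

/-- Two homomorphisms composing to one on an invariant subgroup on which their kernels are disjoint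
split that subgroup. -/
theorem card_split {S : Subgroup W} (f g : W →* W) (hf : ∀ w ∈ S, f w ∈ S) (hg : ∀ w ∈ S, g w ∈ S)
    (hfg : ∀ w ∈ S, f (g w) = 1) (hgf : ∀ w ∈ S, g (f w) = 1)
    (hdis : ∀ w ∈ S, f w = 1 → g w = 1 → w = 1) :
    Nat.card S = Nat.card ↥(S ⊓ f.ker) * Nat.card ↥(S ⊓ g.ker) := by
  let d : S →* S :=
    { toFun := fun w => ⟨g w / f w, S.div_mem (hg w w.2) (hf w w.2)⟩
      map_one' := Subtype.ext (by simp)
      map_mul' := fun u v => Subtype.ext (by simp [map_mul, mul_div_mul_comm]) }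
  have hdinj : Function.Injective d := by
    rw [injective_iff_map_eq_one]
    intro w hw
    have h1 : g (w : W) = f w := div_eq_one.1 (congrArg Subtype.val hw)
    have h2 : g (w : W) = 1 := hdis _ (hg _ w.2) (hfg _ w.2) (by rw [h1]; exact hgf _ w.2)
    exact Subtype.ext (hdis _ w.2 (h1 ▸ h2) h2)
  have hdsurj : Function.Surjective d := Finite.injective_iff_surjective.1 hdinj
  let e : ↥(S ⊓ f.ker) × ↥(S ⊓ g.ker) → S := fun p =>
    ⟨(p.1 : W) * p.2, S.mul_mem p.1.2.1 p.2.2.1⟩
  have hinj : Function.Injective e := by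
    rintro ⟨u, v⟩ ⟨u', v'⟩ h
    have h' : (u : W) * v = u' * v' := congrArg Subtype.val h
    have hk : (u : W) / u' = v' / v := by
      rw [div_eq_div_iff_mul_eq_mul, h', mul_comm]
    have hu : f ((u : W) / u') = 1 := by
      rw [map_div, (MonoidHom.mem_ker).1 u.2.2, (MonoidHom.mem_ker).1 u'.2.2, div_one]
    have hv : g ((u : W) / u') = 1 := by
      rw [hk, map_div, (MonoidHom.mem_ker).1 v.2.2, (MonoidHom.mem_ker).1 v'.2.2, div_one]
    have hone := hdis _ (S.div_mem u.2.1 u'.2.1) hu hv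
    refine Prod.ext (Subtype.ext (div_eq_one.1 hone)) (Subtype.ext ?_)
    rw [hone] at hk
    exact (div_eq_one.1 hk.symm).symm
  have hsurj : Function.Surjective e := by
    intro w
    obtain ⟨y, hy⟩ := hdsurj w
    refine ⟨(⟨g y, hg _ y.2, hfg _ y.2⟩, ⟨(f y)⁻¹, S.inv_mem (hf _ y.2), ?_⟩), Subtype.ext ?_⟩
    · show g (f (y : W))⁻¹ = 1
      rw [map_inv, hgf _ y.2, inv_one]
    · show g (y : W) * (f y)⁻¹ = w
      rw [← div_eq_mul_inv]
      exact congrArg Subtype.val hy
  rw [← Nat.card_congr (Equiv.ofBijective e ⟨hinj, hsurj⟩), Nat.card_prod]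

/-- The formula for an abelian group without three-torsion. -/
theorem card_abelian (h3 : ∀ w : W, w ^ 3 = 1 → w = 1) (a b : W →* W)
    (ha : ∀ w, a (a (a w)) = w) (hb : ∀ w, b (b (b w)) = w) (hab : ∀ w, a (b w) = b (a w))
    {C A B AB AAB : Subgroup W} (hC : ∀ w, w ∈ C ↔ a w = w ∧ b w = w) (hA : ∀ w, w ∈ A ↔ a w = w)
    (hB : ∀ w, w ∈ B ↔ b w = w) (hAB : ∀ w, w ∈ AB ↔ a (b w) = w)
    (hAAB : ∀ w, w ∈ AAB ↔ a (a (b w)) = w) :
    Nat.card W * Nat.card C ^ 3 = Nat.card A * Nat.card B * Nat.card AB * Nat.card AAB := by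
  let f : W →* W := a / MonoidHom.id W
  let g : W →* W := MonoidHom.id W * a * a.comp a
  have hfv : ∀ w, f w = a w / w := fun w => rfl
  have hgv : ∀ w, g w = w * a w * a (a w) := fun w => rfl
  have hfA : f.ker = A := by
    ext w
    rw [MonoidHom.mem_ker, hfv, div_eq_one, hA]
  have hfg : ∀ w, f (g w) = 1 := fun w => by
    rw [hfv, hgv, map_mul, map_mul, ha, div_eq_one]
    ac_rfl
  have hgf : ∀ w, g (f w) = 1 := fun w => by
    rw [hgv, hfv, map_div, map_div, ha]
    rw [div_mul_div_comm, div_mul_div_comm, div_eq_one]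
    ac_rfl
  have hdis : ∀ w, f w = 1 → g w = 1 → w = 1 := fun w hf hg => by
    rw [hfv, div_eq_one] at hf
    rw [hgv, hf, hf] at hg
    exact h3 w (by rw [pow_succ, pow_two, hg])
  have key : ∀ S : Subgroup W, (∀ w ∈ S, a w ∈ S) →
      Nat.card S = Nat.card ↥(S ⊓ A) * Nat.card ↥(S ⊓ g.ker) := fun S hS => by
    rw [card_split (S := S) f g (fun w hw => S.div_mem (hS w hw) hw)
      (fun w hw => S.mul_mem (S.mul_mem hw (hS w hw)) (hS _ (hS w hw)))
      (fun w _ => hfg w) (fun w _ => hgf w) (fun w _ => hdis w), hfA]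
  have hBinv : ∀ w ∈ B, a w ∈ B := fun w hw => by
    rw [hB] at hw ⊢; rw [← hab, hw]
  have hABinv : ∀ w ∈ AB, a w ∈ AB := fun w hw => by
    rw [hAB] at hw ⊢; rw [← hab, hw]
  have hAABinv : ∀ w ∈ AAB, a w ∈ AAB := fun w hw => by
    rw [hAAB] at hw ⊢; rw [← hab, hw]
  have iB : B ⊓ A = C := by
    ext w
    simp only [mem_inf, hB, hA, hC, and_comm]
  have iAB : AB ⊓ A = C := by
    ext w
    simp only [mem_inf, hAB, hA, hC]
    constructor
    · rintro ⟨h1, h2⟩
      refine ⟨h2, ?_⟩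
      have : a (a (a (b w))) = a (a w) := by rw [h1]
      rwa [ha, h2, h2] at this
    · rintro ⟨h1, h2⟩
      exact ⟨by rw [h2, h1], h1⟩
  have iAAB : AAB ⊓ A = C := by
    ext w
    simp only [mem_inf, hAAB, hA, hC]
    constructor
    · rintro ⟨h1, h2⟩
      refine ⟨h2, ?_⟩
      have : a (a (a (b w))) = a w := by rw [h1]
      rwa [ha, h2] at this
    · rintro ⟨h1, h2⟩
      exact ⟨by rw [h2, h1, h1], h1⟩
  set K := g.ker with hK
  have hKv : ∀ w, w ∈ K ↔ w * a w * a (a w) = 1 := fun w => by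
    rw [hK, MonoidHom.mem_ker, hgv]
  have hKb : ∀ w ∈ K, b w ∈ K := fun w hw => by
    rw [hKv] at hw ⊢
    rw [hab, hab, ← map_mul, ← map_mul, hw, map_one]
  have hKa : ∀ w ∈ K, a w ∈ K := fun w hw => by
    rw [hKv] at hw ⊢
    rw [← map_mul, ← map_mul, hw, map_one]
  let f₂ : W →* W := b / MonoidHom.id W
  let g₂ : W →* W := MonoidHom.id W * b * b.comp b
  have s2 : Nat.card K = Nat.card ↥(K ⊓ B) * Nat.card ↥(K ⊓ g₂.ker) := by
    have hfB : f₂.ker = B := by
      ext w
      rw [MonoidHom.mem_ker, hB]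
      exact div_eq_one
    rw [card_split (S := K) f₂ g₂ (fun w hw => K.div_mem (hKb w hw) hw)
      (fun w hw => K.mul_mem (K.mul_mem hw (hKb w hw)) (hKb _ (hKb w hw))) ?_ ?_ ?_, hfB]
    · intro w _
      show b (w * b w * b (b w)) / (w * b w * b (b w)) = 1
      rw [map_mul, map_mul, hb, div_eq_one]
      ac_rfl
    · intro w _
      show b w / w * b (b w / w) * b (b (b w / w)) = 1
      rw [map_div, map_div, hb, div_mul_div_comm, div_mul_div_comm, div_eq_one]
      ac_rfl
    · intro w _ h1 h2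
      have h1' : b w = w := div_eq_one.1 h1
      have h2' : w * b w * b (b w) = 1 := h2
      rw [h1', h1'] at h2'
      exact h3 w (by rw [pow_succ, pow_two, h2'])
  set K' := K ⊓ g₂.ker with hK'
  have hK'v : ∀ w, w ∈ K' ↔ w * a w * a (a w) = 1 ∧ w * b w * b (b w) = 1 := fun w => by
    rw [hK', mem_inf, hKv, MonoidHom.mem_ker]
    exact Iff.rfl
  have hK'a : ∀ w ∈ K', a w ∈ K' := fun w hw => by
    rw [hK'v] at hw ⊢
    refine ⟨by rw [← map_mul, ← map_mul, hw.1, map_one], ?_⟩
    rw [← hab, ← hab, ← map_mul, ← map_mul, hw.2, map_one]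
  have hK'b : ∀ w ∈ K', b w ∈ K' := fun w hw => by
    rw [hK'v] at hw ⊢
    refine ⟨by rw [hab, hab, ← map_mul, ← map_mul, hw.1, map_one], ?_⟩
    rw [← map_mul, ← map_mul, hw.2, map_one]
  let f₃ : W →* W := b / a
  let g₃ : W →* W := b / a.comp a
  have s3 : Nat.card K' = Nat.card ↥(K' ⊓ f₃.ker) * Nat.card ↥(K' ⊓ g₃.ker) := by
    refine card_split (S := K') f₃ g₃ (fun w hw => K'.div_mem (hK'b w hw) (hK'a w hw))
      (fun w hw => K'.div_mem (hK'b w hw) (hK'a _ (hK'a w hw))) ?_ ?_ ?_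
    · intro w hw
      obtain ⟨h1, h2⟩ := (hK'v w).1 hw
      show b (b w / a (a w)) / a (b w / a (a w)) = 1
      rw [map_div, map_div, ha, div_div_div_eq, div_eq_one]
      have h1' : a (a w) * a w = w⁻¹ := by
        rw [eq_inv_iff_mul_eq_one, ← h1]; ac_rfl
      have h2' : b (b w) * w = (b w)⁻¹ := by
        rw [eq_inv_iff_mul_eq_one, ← h2]; ac_rfl
      rw [h2', ← map_inv, ← h1', map_mul, hab]
    · intro w hw
      obtain ⟨h1, h2⟩ := (hK'v w).1 hw
      show b (b w / a w) / a (a (b w / a w)) = 1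
      rw [map_div, map_div, map_div, ha, div_div_div_eq, div_eq_one]
      have h1' : a (a w) * a w = w⁻¹ := by
        rw [eq_inv_iff_mul_eq_one, ← h1]; ac_rfl
      have h2' : b (b w) * w = (b w)⁻¹ := by
        rw [eq_inv_iff_mul_eq_one, ← h2]; ac_rfl
      rw [h2', ← map_inv, ← h1', map_mul, hab, hab, mul_comm]
    · intro w hw h4 h5
      obtain ⟨h1, -⟩ := (hK'v w).1 hw
      have h4' : b w = a w := div_eq_one.1 h4
      have h5' : b w = a (a w) := div_eq_one.1 h5
      rw [h4'] at h5'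
      have h6 : a (a (a w)) = a w := by rw [← h5', ← h5']
      rw [ha] at h6
      rw [← h6, ← h6] at h1
      exact h3 w (by rw [pow_succ, pow_two, h1])
  have e1 : K' ⊓ f₃.ker = AAB ⊓ K := by
    ext w
    simp only [mem_inf, hK'v, MonoidHom.mem_ker, hKv, hAAB]
    constructor
    · rintro ⟨⟨h1, -⟩, h4⟩
      have h4' : b w = a w := div_eq_one.1 h4
      exact ⟨by rw [h4', ha], h1⟩
    · rintro ⟨h4, h1⟩
      have h4' : b w = a w := by
        have h := congrArg a h4
        rwa [ha] at h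
      refine ⟨⟨h1, ?_⟩, ?_⟩
      · rwa [h4', ← hab, h4']
      · show b w / a w = 1
        rw [h4', div_self']
  have e2 : K' ⊓ g₃.ker = AB ⊓ K := by
    ext w
    simp only [mem_inf, hK'v, MonoidHom.mem_ker, hKv, hAB]
    constructor
    · rintro ⟨⟨h1, -⟩, h4⟩
      have h4' : b w = a (a w) := div_eq_one.1 h4
      exact ⟨by rw [h4', ha], h1⟩
    · rintro ⟨h4, h1⟩
      have h4' : b w = a (a w) := by
        have h := congrArg (fun v => a (a v)) h4
        simp only [ha] at h
        exact h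
      refine ⟨⟨h1, ?_⟩, ?_⟩
      · rw [h4', ← hab, ← hab, h4', ha, ← h1]
        ac_rfl
      · show b w / a (a w) = 1
        rw [h4', div_self']
  have hT : Nat.card W = Nat.card A * Nat.card K := by
    rw [← card_top (G := W), key ⊤ (fun w _ => mem_top _), top_inf_eq, top_inf_eq]
  rw [inf_comm K B] at s2
  rw [e1, e2] at s3
  rw [hT, s2, s3, key B hBinv, key AB hABinv, key AAB hAABinv, iB, iAB, iAAB]
  ring

end Abelian

section TwoGroup

variable {W : Type u} [Group W]

/-- Common fixed points of two automorphisms. -/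
def fixTwo (a b : W ≃* W) : Subgroup W where
  carrier := {w | a w = w ∧ b w = w}
  one_mem' := ⟨map_one a, map_one b⟩
  mul_mem' := fun hu hv => ⟨by rw [map_mul, hu.1, hv.1], by rw [map_mul, hu.2, hv.2]⟩
  inv_mem' := fun hu => ⟨by rw [map_inv, hu.1], by rw [map_inv, hu.2]⟩

theorem mem_fixTwo {a b : W ≃* W} {w : W} : w ∈ fixTwo a b ↔ a w = w ∧ b w = w := Iff.rfl

theorem fixed_point_of_cube {α : Type*} [Finite α] (hα : ¬ 3 ∣ Nat.card α) (σ : α ≃ α)
    (hσ : ∀ x, σ (σ (σ x)) = x) : ∃ x, σ x = x := by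
  classical
  have := Fintype.ofFinite α
  rw [Nat.card_eq_fintype_card] at hα
  obtain ⟨x, hx⟩ := Equiv.Perm.exists_fixed_point_of_prime (p := 3) (n := 1) (σ := σ) hα
    (by ext x; simp [pow_succ, Equiv.Perm.mul_apply, hσ x])
  exact ⟨x, hx⟩

/-- Fixed points of commuting automorphisms of order three pass to the quotient by a characteristic
2-subgroup. -/
theorem card_fixTwo_split [Finite W] (hW : IsPGroup 2 W) {a b : W ≃* W}
    (ha : ∀ w, a (a (a w)) = w) (hb : ∀ w, b (b (b w)) = w) (hab : ∀ w, a (b w) = b (a w))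
    {N : Subgroup W} [N.Normal] (a₁ b₁ : N ≃* N) (ha₁ : ∀ z : N, (a₁ z : W) = a z)
    (hb₁ : ∀ z : N, (b₁ z : W) = b z) (a₂ b₂ : W ⧸ N ≃* W ⧸ N)
    (ha₂ : ∀ w : W, a₂ (w : W ⧸ N) = (a w : W ⧸ N))
    (hb₂ : ∀ w : W, b₂ (w : W ⧸ N) = (b w : W ⧸ N)) :
    Nat.card (fixTwo a b) = Nat.card (fixTwo a₁ b₁) * Nat.card (fixTwo a₂ b₂) := by
  let π : fixTwo a b →* fixTwo a₂ b₂ :=
    ((QuotientGroup.mk' N).comp (fixTwo a b).subtype).codRestrict _ fun w => by
      refine ⟨?_, ?_⟩
      · show a₂ ((w : W) : W ⧸ N) = ((w : W) : W ⧸ N)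
        rw [ha₂, w.2.1]
      · show b₂ ((w : W) : W ⧸ N) = ((w : W) : W ⧸ N)
        rw [hb₂, w.2.2]
  have hN2 : ∀ S : Subgroup W, ¬ 3 ∣ Nat.card S := fun S h => by
    obtain ⟨k, hk⟩ := IsPGroup.iff_card.1 (hW.to_subgroup S)
    rw [hk] at h
    have := (Nat.prime_dvd_prime_iff_eq Nat.prime_three Nat.prime_two).1
      (Nat.prime_three.dvd_of_dvd_pow h)
    omega
  have aN : ∀ {z : W}, z ∈ N → a z ∈ N := fun {z} hz => ha₁ ⟨z, hz⟩ ▸ (a₁ ⟨z, hz⟩).2
  have bN : ∀ {z : W}, z ∈ N → b z ∈ N := fun {z} hz => hb₁ ⟨z, hz⟩ ▸ (b₁ ⟨z, hz⟩).2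
  have hsurj : Function.Surjective π := by
    rintro ⟨q, hqa, hqb⟩
    obtain ⟨w, rfl⟩ := QuotientGroup.mk_surjective q
    rw [ha₂, QuotientGroup.eq] at hqa
    -- a point of the coset fixed by `a`
    let σ : N ≃ N :=
      { toFun := fun z => ⟨w⁻¹ * a (w * z), by
          rw [map_mul, ← mul_assoc]
          refine N.mul_mem ?_ (aN z.2)
          simpa using N.inv_mem hqa⟩
        invFun := fun z => ⟨w⁻¹ * a (a (w * z)), by
          have h1 : w⁻¹ * a w ∈ N := by simpa using N.inv_mem hqa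
          have h2 := aN h1
          rw [map_mul, map_inv] at h2
          have h3 := N.mul_mem (N.mul_mem h1 h2) (aN (aN z.2))
          rw [map_mul, map_mul]
          simpa [mul_assoc] using h3⟩
        left_inv := fun z => Subtype.ext (by simp [ha])
        right_inv := fun z => Subtype.ext (by simp [ha]) }
    have hσv : ∀ z : N, (σ z : W) = w⁻¹ * a (w * z) := fun z => rfl
    obtain ⟨z, hz⟩ := fixed_point_of_cube (hN2 N) σ (fun z => Subtype.ext (by simp [hσv, ha]))
    set u := w * (z : W) with hu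
    have hua : a u = u := by
      have h := congrArg Subtype.val hz
      rw [hσv, inv_mul_eq_iff_eq_mul] at h
      exact h
    have huq : ((u : W) : W ⧸ N) = (w : W ⧸ N) := by
      rw [QuotientGroup.eq, hu]
      simp
    rw [← huq, hb₂, QuotientGroup.eq] at hqb
    let Na : Subgroup W := N ⊓ fixTwo a a
    have hbNa : ∀ {z : W}, z ∈ Na → b z ∈ Na := fun {z} hz =>
      ⟨bN hz.1, by rw [hab, hz.2.1], by rw [hab, hz.2.1]⟩
    have hub : u⁻¹ * b u ∈ Na := by
      have h1 : a (u⁻¹ * b u) = u⁻¹ * b u := by rw [map_mul, map_inv, hua, hab, hua]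
      exact ⟨by simpa using N.inv_mem hqb, h1, h1⟩
    let τ : Na ≃ Na :=
      { toFun := fun z => ⟨u⁻¹ * b (u * z), by
          rw [map_mul, ← mul_assoc]
          exact Na.mul_mem hub (hbNa z.2)⟩
        invFun := fun z => ⟨u⁻¹ * b (b (u * z)), by
          have h2 := hbNa hub
          rw [map_mul, map_inv] at h2
          have h3 := Na.mul_mem (Na.mul_mem hub h2) (hbNa (hbNa z.2))
          rw [map_mul, map_mul]
          simpa [mul_assoc] using h3⟩
        left_inv := fun z => Subtype.ext (by simp [hb])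
        right_inv := fun z => Subtype.ext (by simp [hb]) }
    have hτv : ∀ z : Na, (τ z : W) = u⁻¹ * b (u * z) := fun z => rfl
    obtain ⟨z', hz'⟩ := fixed_point_of_cube (hN2 Na) τ (fun z => Subtype.ext (by simp [hτv, hb]))
    have hb' : b (u * z') = u * z' := by
      have h := congrArg Subtype.val hz'
      rw [hτv, inv_mul_eq_iff_eq_mul] at h
      exact h
    refine ⟨⟨u * z', by rw [map_mul, hua, z'.2.2.1], hb'⟩, Subtype.ext ?_⟩
    show ((u * (z' : W) : W) : W ⧸ N) = (w : W ⧸ N)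
    rw [← huq, QuotientGroup.eq]
    simpa using N.inv_mem z'.2.1
  have hker : Nat.card π.ker = Nat.card (fixTwo a₁ b₁) := by
    have hmem : ∀ z : fixTwo a b, z ∈ π.ker → (z : W) ∈ N := fun z hz =>
      (QuotientGroup.eq_one_iff _).1 (congrArg Subtype.val ((MonoidHom.mem_ker).1 hz))
    refine Nat.card_congr
      { toFun := fun z => ⟨⟨(z : fixTwo a b), hmem z z.2⟩,
          Subtype.ext (by rw [ha₁]; exact z.1.2.1), Subtype.ext (by rw [hb₁]; exact z.1.2.2)⟩
        invFun := fun z => ⟨⟨(z : N), by rw [← ha₁, z.2.1], by rw [← hb₁, z.2.2]⟩, by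
          rw [MonoidHom.mem_ker]
          exact Subtype.ext ((QuotientGroup.eq_one_iff _).2 z.1.2)⟩
        left_inv := fun z => by ext; rfl
        right_inv := fun z => by ext; rfl }
  rw [← hker, ← π.ker.card_mul_index, Subgroup.index_ker, MonoidHom.range_eq_top.2 hsurj,
    card_top]

/-- **Brauer's formula** for two commuting automorphisms of order three of a finite 2-group. -/
theorem card_formula_aut : ∀ (n : ℕ) (W : Type u) [Group W] [Finite W], Nat.card W = n →
    IsPGroup 2 W → ∀ a b : W ≃* W, (∀ w, a (a (a w)) = w) → (∀ w, b (b (b w)) = w) →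
    (∀ w, a (b w) = b (a w)) →
    Nat.card W * Nat.card (fixTwo a b) ^ 3 = Nat.card (fixTwo a a) * Nat.card (fixTwo b b) *
      Nat.card (fixTwo (b.trans a) (b.trans a)) *
      Nat.card (fixTwo ((b.trans a).trans a) ((b.trans a).trans a)) := by
  intro n
  induction n using Nat.strong_induction_on with
  | _ n ih =>
  intro W _ _ hn hW a b ha hb hab
  by_cases hc : ∀ u v : W, u * v = v * u
  · let : CommGroup W := { (inferInstance : Group W) with mul_comm := hc }
    refine card_abelian (fun w hw => ?_) a.toMonoidHom b.toMonoidHom ha hb hab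
      (fun w => Iff.rfl) (fun w => ?_) (fun w => ?_) (fun w => ?_) (fun w => ?_)
    · obtain ⟨k, hk⟩ := hW w
      have h1 : orderOf w ∣ 3 := orderOf_dvd_of_pow_eq_one hw
      have h2 : orderOf w ∣ 2 ^ k := orderOf_dvd_of_pow_eq_one hk
      rw [← orderOf_eq_one_iff]
      exact Nat.eq_one_of_dvd_coprimes ((Nat.Coprime.pow_right k (by norm_num))) h1 h2
    all_goals exact and_self_iff
  · have : Nontrivial W := by
      by_contra h
      exact hc fun u v => @Subsingleton.elim _ (not_nontrivial_iff_subsingleton.1 h) _ _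
    have := Fact.mk Nat.prime_two
    have hZ : Nontrivial (center W) := hW.center_nontrivial
    set Z := center W with hZd
    have hZtop : Z ≠ ⊤ := fun h => hc fun u v =>
      (mem_center_iff.1 (show u ∈ Z by rw [h]; exact mem_top u) v).symm
    have hchar : ∀ e : W ≃* W, Z.map (e : W →* W) = Z := fun e =>
      characteristic_iff_map_eq.1 Subgroup.centerCharacteristic e
    let r : (W ≃* W) → (Z ≃* Z) := fun e =>
      (e.subgroupMap Z).trans (MulEquiv.subgroupCongr (hchar e))
    let q : (W ≃* W) → (W ⧸ Z ≃* W ⧸ Z) := fun e => QuotientGroup.congr Z Z e (hchar e)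
    have hr : ∀ e (z : Z), (r e z : W) = e z := fun e z => rfl
    have hq : ∀ e (w : W), q e (w : W ⧸ Z) = (e w : W ⧸ Z) := fun e w => rfl
    have hsplit : ∀ c d : W ≃* W, (∀ w, c (c (c w)) = w) → (∀ w, d (d (d w)) = w) →
        (∀ w, c (d w) = d (c w)) →
        Nat.card (fixTwo c d) =
          Nat.card (fixTwo (r c) (r d)) * Nat.card (fixTwo (q c) (q d)) :=
      fun c d hc' hd' hcd =>
        card_fixTwo_split hW hc' hd' hcd (r c) (r d) (hr c) (hr d) (q c) (q d) (hq c) (hq d)
    have hab3 : ∀ w, (b.trans a) ((b.trans a) ((b.trans a) w)) = w := fun w => by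
      simp only [MulEquiv.trans_apply, ← hab, hb, ha]
    have haab3 : ∀ w, ((b.trans a).trans a) (((b.trans a).trans a) (((b.trans a).trans a) w)) = w :=
      fun w => by simp only [MulEquiv.trans_apply, ← hab, hb, ha]
    rw [hsplit a b ha hb hab, hsplit a a ha ha (fun _ => rfl), hsplit b b hb hb (fun _ => rfl),
      hsplit _ _ hab3 hab3 (fun _ => rfl), hsplit _ _ haab3 haab3 (fun _ => rfl)]
    have hcard := Z.card_mul_index
    have hlt : Nat.card Z < n := by
      rcases lt_or_eq_of_le (Nat.le_of_dvd Nat.card_pos (Subgroup.card_subgroup_dvd_card Z)) with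
        h | h
      · exact hn ▸ h
      · exact absurd (Subgroup.eq_top_of_card_eq Z h) hZtop
    have hlt' : Nat.card (W ⧸ Z) < n := by
      rw [← Subgroup.index_eq_card, ← hn, ← hcard]
      exact lt_mul_of_one_lt_left (Nat.pos_of_ne_zero Subgroup.index_ne_zero_of_finite)
        Finite.one_lt_card
    have h1 := ih _ hlt Z rfl (hW.to_subgroup Z) (r a) (r b)
      (fun z => Subtype.ext (by simp [hr, ha])) (fun z => Subtype.ext (by simp [hr, hb]))
      (fun z => Subtype.ext (by simp [hr, hab]))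
    have h2 := ih _ hlt' (W ⧸ Z) rfl (hW.to_quotient Z) (q a) (q b)
      (fun x => QuotientGroup.induction_on x fun w => by rw [hq, hq, hq, ha])
      (fun x => QuotientGroup.induction_on x fun w => by rw [hq, hq, hq, hb])
      (fun x => QuotientGroup.induction_on x fun w => by rw [hq, hq, hq, hq, hab])
    have e1 : r (b.trans a) = (r b).trans (r a) := MulEquiv.ext fun z => Subtype.ext rfl
    have e2 : r ((b.trans a).trans a) = ((r b).trans (r a)).trans (r a) :=
      MulEquiv.ext fun z => Subtype.ext rfl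
    have e3 : q (b.trans a) = (q b).trans (q a) :=
      MulEquiv.ext fun x => QuotientGroup.induction_on x fun w => rfl
    have e4 : q ((b.trans a).trans a) = ((q b).trans (q a)).trans (q a) :=
      MulEquiv.ext fun x => QuotientGroup.induction_on x fun w => rfl
    rw [e1, e2, e3, e4, ← hcard, Subgroup.index_eq_card]
    calc _ = (Nat.card Z * Nat.card (fixTwo (r a) (r b)) ^ 3) *
          (Nat.card (W ⧸ Z) * Nat.card (fixTwo (q a) (q b)) ^ 3) := by ring
      _ = _ := by rw [h1, h2]; ring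

end TwoGroup

/-- Brauer's formula for an elementary group of order nine acting on a 2-group by conjugation. -/
theorem card_mul_centralizer_cube {G : Type*} [Group G] [Finite G] {W : Subgroup G}
    (hW : IsPGroup 2 ↥W) {x y : G} (hx : x ^ 3 = 1) (hy : y ^ 3 = 1) (hxy : x * y = y * x)
    (hxW : x ∈ Subgroup.normalizer (W : Set G)) (hyW : y ∈ Subgroup.normalizer (W : Set G)) :
    Nat.card ↥W * Nat.card ↥(W ⊓ Subgroup.centralizer ({x, y} : Set G)) ^ 3 =
      Nat.card ↥(W ⊓ Subgroup.centralizer ({x} : Set G)) *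
      Nat.card ↥(W ⊓ Subgroup.centralizer ({y} : Set G)) *
      Nat.card ↥(W ⊓ Subgroup.centralizer ({x * y} : Set G)) *
      Nat.card ↥(W ⊓ Subgroup.centralizer ({x ^ 2 * y} : Set G)) := by
  let a : W ≃* W := W.normalizerMonoidHom ⟨x, hxW⟩
  let b : W ≃* W := W.normalizerMonoidHom ⟨y, hyW⟩
  have hav : ∀ w : W, (a w : G) = x * w * x⁻¹ := fun w => rfl
  have hbv : ∀ w : W, (b w : G) = y * w * y⁻¹ := fun w => rfl
  have h := card_formula_aut _ W rfl hW a b
    (fun w => Subtype.ext (by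
      have : x * (x * (x * (w : G) * x⁻¹) * x⁻¹) * x⁻¹ = x ^ 3 * w * (x ^ 3)⁻¹ := by
        rw [pow_succ, pow_two]; group
      rw [hav, hav, hav, this, hx]; simp))
    (fun w => Subtype.ext (by
      have : y * (y * (y * (w : G) * y⁻¹) * y⁻¹) * y⁻¹ = y ^ 3 * w * (y ^ 3)⁻¹ := by
        rw [pow_succ, pow_two]; group
      rw [hbv, hbv, hbv, this, hy]; simp))
    (fun w => Subtype.ext (by
      have h1 : x * (y * (w : G) * y⁻¹) * x⁻¹ = x * y * w * (x * y)⁻¹ := by group
      rw [hav, hbv, h1, hxy, hbv, hav]; group))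
  have key : ∀ (c d : W ≃* W) (g g' : G), (∀ w : W, (c w : G) = g * w * g⁻¹) →
      (∀ w : W, (d w : G) = g' * w * g'⁻¹) →
      Nat.card (fixTwo c d) =
        Nat.card ↥(W ⊓ Subgroup.centralizer ({g, g'} : Set G)) := by
    intro c d g g' hc hd
    have hiff : ∀ w : W, w ∈ fixTwo c d ↔
        (w : G) ∈ Subgroup.centralizer ({g, g'} : Set G) := fun w => by
      simp only [mem_fixTwo, Subtype.ext_iff, hc, hd, mem_centralizer_iff, Set.mem_insert_iff,
        Set.mem_singleton_iff, forall_eq_or_imp, forall_eq, mul_inv_eq_iff_eq_mul]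
    refine Nat.card_congr
      { toFun := fun w => ⟨(w : W), w.1.2, (hiff w).1 w.2⟩
        invFun := fun w => ⟨⟨w, w.2.1⟩, (hiff ⟨w, w.2.1⟩).2 w.2.2⟩
        left_inv := fun w => by ext; rfl
        right_inv := fun w => by ext; rfl }
  rw [key a b x y hav hbv, key a a x x hav hav, key b b y y hbv hbv,
    key _ _ (x * y) (x * y) (fun w => by
      rw [MulEquiv.trans_apply, hav, hbv]; group) (fun w => by
      rw [MulEquiv.trans_apply, hav, hbv]; group),
    key _ _ (x ^ 2 * y) (x ^ 2 * y) (fun w => by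
      rw [MulEquiv.trans_apply, MulEquiv.trans_apply, hav, hav, hbv, pow_two]; group) (fun w => by
      rw [MulEquiv.trans_apply, MulEquiv.trans_apply, hav, hav, hbv, pow_two]; group)] at h
  simpa only [Set.pair_eq_singleton] using h

end CfsgLib.Spor.JankoFourChar2
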