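import Cfsg.Agent.Lib.Spor.JankoFourChar2.Setup
import Cfsg.Agent.Lib.Spor.JankoFourChar2.Formula

/-!
The data of `Ctx` from the hypotheses: characteristic two type, a centraliser `6.M22` and a fused
element of order three inside it.
-/

set_option autoImplicit false
set_option linter.style.haveILetI false

namespace CfsgLib.Spor.JankoFourChar2

open Cfsg Subgroup
open scoped commutatorElement

/-- The context exists. -/
theorem exists_ctx {G : Type*} [Group G] [Finite G] (h2 : Cfsg.IsCharacteristicTwoType G) (x : G)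
    (hx : orderOf x = 3)
    (hperf : ⁅(⊤ : Subgroup ↥(Subgroup.centralizer ({x} : Set G))),
      (⊤ : Subgroup ↥(Subgroup.centralizer ({x} : Set G)))⁆ = ⊤)
    (hZ : IsCyclic ↥(Subgroup.center ↥(Subgroup.centralizer ({x} : Set G))))
    (hZc : Nat.card ↥(Subgroup.center ↥(Subgroup.centralizer ({x} : Set G))) = 6)
    (e : ↥(Subgroup.centralizer ({x} : Set G)) ⧸
      Subgroup.center ↥(Subgroup.centralizer ({x} : Set G)) ≃* ↥Cfsg.Spor.M22)
    {y g₀ : G} (hy : y ∈ Subgroup.centralizer ({x} : Set G)) (hy3 : orderOf y = 3)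
    (hyx : y ∉ Subgroup.zpowers x) (hg : g₀ * x * g₀⁻¹ = y)
    (conjy : ∀ a ∈ Subgroup.centralizer ({x} : Set G), orderOf a = 3 → a ∉ Subgroup.zpowers x →
      ∃ c ∈ Subgroup.centralizer ({x} : Set G), c * a * c⁻¹ = y) :
    Nonempty (Ctx G) := by
  have _ := hZ
  -- the centre is generated by `x` and an involution
  obtain ⟨zc, hzc⟩ := exists_prime_orderOf_dvd_card' (G := center ↥(centralizer ({x} : Set G))) 2
    (hp := ⟨Nat.prime_two⟩) (by rw [hZc]; norm_num)
  set z : G := ((zc : ↥(centralizer ({x} : Set G))) : G) with hzdef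
  have hzo : orderOf z = 2 := by rw [hzdef, orderOf_coe, orderOf_coe, hzc]
  have hzC : z ∈ centralizer ({x} : Set G) := (zc : ↥(centralizer ({x} : Set G))).2
  have hzcomm : ∀ c ∈ centralizer ({x} : Set G), z * c = c * z := fun c hc =>
    congrArg Subtype.val (mem_center_iff.1 zc.2 ⟨c, hc⟩).symm
  have hxC : x ∈ centralizer ({x} : Set G) := mem_centralizer_singleton_iff.2 rfl
  have hxZ : (⟨x, hxC⟩ : ↥(centralizer ({x} : Set G))) ∈ center ↥(centralizer ({x} : Set G)) :=
    mem_center_iff.2 fun c => Subtype.ext (mem_centralizer_singleton_iff.1 c.2)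
  set xc : ↥(center ↥(centralizer ({x} : Set G))) := ⟨⟨x, hxC⟩, hxZ⟩ with hxc
  have hxco : orderOf xc = 3 := by
    rw [← orderOf_coe, ← orderOf_coe]; exact hx
  have hcm : Commute xc zc := Subtype.ext (mem_center_iff.1 zc.2 (xc : ↥(centralizer ({x} : Set G))))
  have hgen : ∀ c : ↥(center ↥(centralizer ({x} : Set G))), ∃ n : ℕ, (xc * zc) ^ n = c := by
    intro c
    have h6 : orderOf (xc * zc) = 6 := by
      rw [hcm.orderOf_mul_eq_mul_orderOf_of_coprime (by rw [hxco, hzc]; norm_num), hxco, hzc]
    have htop : zpowers (xc * zc) = ⊤ :=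
      eq_top_of_card_eq _ (by rw [Nat.card_zpowers, h6, hZc])
    have hc : c ∈ zpowers (xc * zc) := htop ▸ mem_top c
    exact mem_powers_iff_mem_zpowers.2 hc
  refine ⟨{ x := x, z := z, y := y, g₀ := g₀,
            pi := e.toMonoidHom.comp (QuotientGroup.mk' _),
            hx := hx, hz := hzo, zC := hzC, zcomm := hzcomm, hy := hy, hy3 := hy3, hyx := hyx,
            hg := hg, conjy := conjy,
            surj := e.surjective.comp (QuotientGroup.mk'_surjective _),
            ker_mem := ?_, ker_x := ?_, ker_z := ?_, perf := hperf, char2 := ?_, formula := ?_ }⟩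
  · intro c hc
    have hc' : c ∈ center ↥(centralizer ({x} : Set G)) := by
      rw [← QuotientGroup.eq_one_iff]
      exact e.injective (by simpa using hc)
    obtain ⟨n, hn⟩ := hgen ⟨c, hc'⟩
    refine ⟨n, n, ?_⟩
    have h := congrArg (fun d : ↥(center ↥(centralizer ({x} : Set G))) => ((d : ↥(centralizer ({x} : Set G))) : G)) hn
    rw [← (show Commute x z from (hzcomm x hxC).symm).mul_pow]
    simpa [hxc, hzdef] using h.symm
  · intro h
    have hm : QuotientGroup.mk' (center ↥(centralizer ({x} : Set G))) ⟨x, h⟩ = 1 := (QuotientGroup.eq_one_iff _).2 hxZ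
    simp only [MonoidHom.comp_apply, hm, map_one]
  · intro h
    have hm : QuotientGroup.mk' (center ↥(centralizer ({x} : Set G))) ⟨z, h⟩ = 1 := (QuotientGroup.eq_one_iff _).2 zc.2
    simp only [MonoidHom.comp_apply, hm, map_one]
  · -- characteristic two
    have hT : IsPGroup 2 ↥(zpowers z) := IsPGroup.of_card (n := 1) (by rw [Nat.card_zpowers, hzo, pow_one])
    have hTne : zpowers z ≠ ⊥ := by
      intro h
      have := congrArg (fun K : Subgroup G => Nat.card ↥K) h
      simp only [Nat.card_zpowers, hzo, card_bot] at this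
      norm_num at this
    have hNz : normalizer ((zpowers z : Subgroup G) : Set G) = centralizer ({z} : Set G) := by
      have hmem : ∀ g, g ∈ zpowers z ↔ g = 1 ∨ g = z := by
        intro g
        rw [← mem_powers_iff_mem_zpowers]
        constructor
        · rintro ⟨n, rfl⟩
          show z ^ n = 1 ∨ z ^ n = z
          rw [← pow_mod_orderOf, hzo]
          rcases Nat.mod_two_eq_zero_or_one n with h | h <;> simp [h]
        · rintro (rfl | rfl)
          · exact one_mem _
          · exact Submonoid.mem_powers _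
      refine le_antisymm (fun g hg' => ?_) fun g hg' => ?_
      · rw [mem_centralizer_singleton_iff]
        rcases (hmem _).1 ((mem_normalizer_iff.1 hg' z).1 (mem_zpowers z)) with h | h
        · have h' : z = 1 := by
            have := congrArg (fun v => g⁻¹ * v * g) h
            simpa [mul_assoc] using this
          rw [h', orderOf_one] at hzo
          norm_num at hzo
        · exact mul_inv_eq_iff_eq_mul.1 h
      · refine mem_normalizer_fintype fun v hv => ?_
        rcases (hmem v).1 hv with rfl | rfl
        · simp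
        · rw [mem_centralizer_singleton_iff.1 hg']; simp
    have h := h2.2 _ hT hTne
    rw [IsOfCharacteristicTwo, hNz] at h
    rintro g ⟨hgH, hgQ⟩
    have hmem : (⟨g, hgH⟩ : ↥(centralizer ({z} : Set G))) ∈
        pCore 2 ↥(centralizer ({z} : Set G)) := by
      refine h (mem_centralizer_iff.2 fun q hq => Subtype.ext ?_)
      exact mem_centralizer_iff.1 hgQ (q : G) (mem_map_of_mem _ hq)
    exact mem_map_of_mem _ hmem
  · -- the fixed point formula
    intro W hW hCW hzW hcard
    have hxW := hCW hxC
    have hyW := hCW hy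
    have hx3 : x ^ 3 = 1 := by rw [← hx]; exact pow_orderOf_eq_one x
    have hy3' : y ^ 3 = 1 := by rw [← hy3]; exact pow_orderOf_eq_one y
    have h := card_mul_centralizer_cube hW hx3 hy3' (mem_centralizer_singleton_iff.1 hy).symm
      hxW hyW
    have heq : W ⊓ centralizer ({x, y} : Set G) = W ⊓ centralizer ({x} : Set G) := by
      refine le_antisymm (inf_le_inf_left _ (centralizer_le (Set.singleton_subset_iff.2 (by simp))))
        fun w hw => ?_
      have hz' : zpowers z = W ⊓ centralizer ({x} : Set G) :=
        eq_of_le_of_card_ge (zpowers_le.2 ⟨hzW, hzC⟩) (by rw [hcard, Nat.card_zpowers, hzo])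
      have hwz : w ∈ zpowers z := hz' ▸ hw
      refine ⟨hw.1, mem_centralizer_iff.2 ?_⟩
      intro v hv
      rcases hv with rfl | rfl
      · exact (mem_centralizer_singleton_iff.1 hw.2).symm
      · obtain ⟨n, rfl⟩ := hwz
        exact (Commute.zpow_right (hzcomm _ hy).symm n).eq
    rw [heq, hcard] at h
    rw [mul_comm 8]
    linarith

end CfsgLib.Spor.JankoFourChar2
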