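import Mathlib

/-!
Counting lemma: if a conjugation-closed set of involutions meets a proper subgroup `M` in
elements lying in a unique conjugate of `M`, then some intersection `M ∩ M^g` is at least as
large as the set of these elements inside `M`.
-/

set_option autoImplicit false

open scoped Pointwise

namespace CfsgLib.Spor.JankoFourChar2

/-- Pigeonhole on the cosets of `M`: a large intersection of two conjugates of `M`. -/
theorem exists_large_meet_conj {K : Type*} [Group K] [Finite K] {M : Subgroup K} (hM : M ≠ ⊤)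
    {I : Set K} (hconj : ∀ g : K, ∀ k ∈ I, g * k * g⁻¹ ∈ I) (hsq : ∀ k ∈ I, k * k = 1)
    (hne : ∃ k, k ∈ I ∧ k ∈ M)
    (hone : ∀ k ∈ I, k ∈ M → ∀ g : K, g * k * g⁻¹ ∈ M → g ∈ M) :
    ∃ g : K, g ∉ M ∧ (∀ k ∈ I, k ∈ M → k ∉ M.map (MulAut.conj g).toMonoidHom) ∧
      Nat.card {k : K // k ∈ I ∧ k ∈ M} ≤
        Nat.card ↥(M ⊓ M.map (MulAut.conj g).toMonoidHom) := by
  classical
  letI : Fintype K := Fintype.ofFinite K
  letI : Fintype (K ⧸ M) := Fintype.ofFinite _
  set A : Finset K := Finset.univ.filter (fun k => k ∈ I ∧ k ∈ M) with hA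
  set B : Finset K := Finset.univ.filter (fun k => k ∈ I) with hB
  have hcardA : Nat.card {k : K // k ∈ I ∧ k ∈ M} = A.card := by
    rw [Nat.card_eq_fintype_card, Fintype.card_subtype]
  -- the conjugates of `A` under coset representatives are disjoint
  have hbig : Fintype.card (K ⧸ M) * A.card ≤ B.card := by
    rw [← Finset.card_univ, ← Finset.card_product]
    refine Finset.card_le_card_of_injOn (fun p => p.1.out * p.2 * (p.1.out)⁻¹) ?_ ?_
    · intro p hp
      have hp' : p.2 ∈ A := (Finset.mem_product.1 hp).2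
      simp only [hA, Finset.mem_filter] at hp'
      simp only [hB, Finset.coe_filter, Set.mem_ofPred_eq]
      exact ⟨Finset.mem_univ _, hconj _ _ hp'.2.1⟩
    · intro p hp q hq he
      have hp' : p.2 ∈ A := (Finset.mem_product.1 (Finset.mem_coe.1 hp)).2
      have hq' : q.2 ∈ A := (Finset.mem_product.1 (Finset.mem_coe.1 hq)).2
      simp only [hA, Finset.mem_filter] at hp' hq'
      simp only at he
      have h1 : ((q.1.out)⁻¹ * p.1.out) * p.2 * ((q.1.out)⁻¹ * p.1.out)⁻¹ = q.2 := by
        have : (q.1.out)⁻¹ * (p.1.out * p.2 * (p.1.out)⁻¹) * q.1.out = q.2 := by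
          rw [he]; group
        rw [← this]; group
      have h2 : (q.1.out)⁻¹ * p.1.out ∈ M :=
        hone _ hp'.2.1 hp'.2.2 _ (by rw [h1]; exact hq'.2.2)
      have h3 : q.1 = p.1 := by
        rw [← QuotientGroup.out_eq' q.1, ← QuotientGroup.out_eq' p.1]
        exact QuotientGroup.eq.2 h2
      have h4 : q.2 = p.2 := by
        rw [← h1, h3]; group
      exact Prod.ext h3.symm h4.symm
  set C : Finset K := Finset.univ.filter (fun k => k ∈ I ∧ k ∉ M) with hC
  set D : Finset (K ⧸ M) := Finset.univ.filter (fun b => b ≠ ((1 : K) : K ⧸ M)) with hD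
  have hsplit : A.card + C.card = B.card := by
    rw [← Finset.card_filter_add_card_filter_not (s := B) (fun k => k ∈ M)]
    simp only [hA, hB, hC, Finset.filter_filter]
  have hD1 : D.card + 1 = Fintype.card (K ⧸ M) := by
    rw [hD, Finset.filter_ne', Finset.card_erase_of_mem (Finset.mem_univ _), Finset.card_univ]
    have : 0 < Fintype.card (K ⧸ M) := Fintype.card_pos
    omega
  have hDne : D.Nonempty := by
    obtain ⟨g, hg⟩ : ∃ g, g ∉ M := by
      by_contra h
      exact hM ((Subgroup.eq_top_iff' M).2 (fun g => by_contra fun hg => h ⟨g, hg⟩))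
    refine ⟨(g : K ⧸ M), ?_⟩
    simp only [hD, Finset.mem_filter, Finset.mem_univ, true_and, ne_eq, QuotientGroup.eq, mul_one]
    exact fun h => hg (M.inv_mem_iff.1 h)
  have hmaps : ∀ k ∈ C, ((k : K ⧸ M)) ∈ D := by
    intro k hk
    simp only [hC, Finset.mem_filter] at hk
    simp only [hD, Finset.mem_filter, Finset.mem_univ, true_and, ne_eq, QuotientGroup.eq, mul_one]
    exact fun h => hk.2.2 (M.inv_mem_iff.1 h)
  have hmul : D.card * A.card ≤ C.card := by
    have : (D.card + 1) * A.card ≤ A.card + C.card := by rw [hD1, hsplit]; exact hbig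
    rw [add_mul, one_mul] at this
    omega
  obtain ⟨b, _, hb⟩ :=
    Finset.exists_le_card_fiber_of_mul_le_card_of_maps_to hmaps hDne hmul
  have hApos : 0 < A.card := by
    obtain ⟨k, hk⟩ := hne
    exact Finset.card_pos.2 ⟨k, by simpa [hA] using hk⟩
  obtain ⟨g, hgmem⟩ := Finset.card_pos.1 (lt_of_lt_of_le hApos hb)
  simp only [hC, Finset.mem_filter] at hgmem
  refine ⟨g, hgmem.1.2.2, ?_, ?_⟩
  · intro k hk hkM hmap
    obtain ⟨m, hm, hme⟩ := Subgroup.mem_map.1 hmap
    simp only [MulEquiv.coe_toMonoidHom, MulAut.conj_apply] at hme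
    have h1 : g⁻¹ * k * g⁻¹⁻¹ = m := by rw [← hme]; group
    exact hgmem.1.2.2 (M.inv_mem_iff.1 (hone k hk hkM g⁻¹ (by rw [h1]; exact hm)))
  · rw [hcardA]
    refine le_trans hb ?_
    rw [Nat.card_eq_fintype_card, ← Finset.card_univ]
    set E : Finset K := C.filter (fun a => ((a : K ⧸ M)) = b) with hE
    have hEM : ∀ k ∈ E, g * k ∈ M ⊓ M.map (MulAut.conj g).toMonoidHom := by
      intro k hk
      simp only [hE, hC, Finset.mem_filter] at hk
      have hgk : g⁻¹ * k ∈ M := QuotientGroup.eq.1 (hgmem.2.trans hk.2.symm)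
      have hginv : g⁻¹ = g := inv_eq_of_mul_eq_one_left (hsq g hgmem.1.2.1)
      have hkinv : k⁻¹ = k := inv_eq_of_mul_eq_one_left (hsq k hk.1.2.1)
      refine Subgroup.mem_inf.2 ⟨hginv ▸ hgk, Subgroup.mem_map.2 ⟨k⁻¹ * g, ?_, ?_⟩⟩
      · have := M.inv_mem hgk
        simpa [mul_inv_rev] using this
      · simp only [MulEquiv.coe_toMonoidHom, MulAut.conj_apply, hkinv]
        group
    refine Finset.card_le_card_of_injOn
      (fun k => if h : g * k ∈ M ⊓ M.map (MulAut.conj g).toMonoidHom then ⟨g * k, h⟩ else 1)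
      (fun _ _ => Finset.mem_coe.2 (Finset.mem_univ _)) ?_
    intro k hk l hl he
    simp only [dif_pos (hEM k hk), dif_pos (hEM l hl), Subtype.mk.injEq] at he
    exact mul_left_cancel he

end CfsgLib.Spor.JankoFourChar2
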