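import Cfsg.Agent.Lib.Spor.JankoFour.ThreeClassCert

/-!
A conjugate of an element of order three inside its centraliser, when that centraliser is the
perfect sixfold cover of `M22` and the group is not three-normal.
-/

set_option autoImplicit false
set_option linter.style.haveILetI false
set_option linter.unusedSectionVars false

namespace CfsgLib.Spor.JankoFourChar2

open Cfsg CfsgLib.Spor Subgroup
open scoped commutatorElement

namespace Fused

variable {T : Type*} [Group T] [Finite T]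

open scoped IsMulCommutative in
/-- a central element of order three of a perfect group makes its Sylow subgroup non-abelian -/
theorem not_commutative_sylow (hperf : ⁅(⊤ : Subgroup T), (⊤ : Subgroup T)⁆ = ⊤)
    {t : T} (ht : t ∈ center T) (ht3 : orderOf t = 3) (S : Sylow 3 T) :
    ¬ IsMulCommutative ↥(S : Subgroup T) := by
  intro hcomm
  haveI : Fact (Nat.Prime 3) := ⟨Nat.prime_three⟩
  haveI : (S : Subgroup T).FiniteIndex := inferInstance
  let φ : T →* ↥(S : Subgroup T) := MonoidHom.transfer (MonoidHom.id ↥(S : Subgroup T))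
  have hk : ∀ (k : ℕ) (g₀ : T), g₀⁻¹ * t ^ k * g₀ ∈ (S : Subgroup T) →
      g₀⁻¹ * t ^ k * g₀ = t ^ k := fun k g₀ _ => by
    rw [mul_assoc, ← mem_center_iff.1 (pow_mem ht k) g₀, inv_mul_cancel_left]
  have h1 : φ t = 1 := by
    have hker : ⁅(⊤ : Subgroup T), (⊤ : Subgroup T)⁆ ≤ φ.ker := by
      rw [commutator_le]
      intro p _ q _
      rw [MonoidHom.mem_ker, map_commutatorElement, commutatorElement_eq_one_iff_mul_comm]
      exact mul_comm _ _
    rw [hperf] at hker
    exact hker (mem_top t)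
  have h2 : φ t = ⟨t ^ (S : Subgroup T).index, MonoidHom.transfer_eq_pow_aux t hk⟩ :=
    MonoidHom.transfer_eq_pow (MonoidHom.id ↥(S : Subgroup T)) t hk
  have h3 : t ^ (S : Subgroup T).index = 1 := by
    have := congrArg Subtype.val (h2.symm.trans h1)
    simpa using this
  have h4 := orderOf_dvd_of_pow_eq_one h3
  rw [ht3] at h4
  exact S.not_dvd_index h4

/-- a non-commutative group of order 27: its centre has order three and contains the commutators -/
theorem center_of_card_27 {P : Type*} [Group P] [Finite P] (hP : Nat.card P = 27)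
    (hn : ¬ IsMulCommutative P) :
    Nat.card ↥(center P) = 3 ∧ ∀ a b : P, a * b * a⁻¹ * b⁻¹ ∈ center P := by
  haveI : Fact (Nat.Prime 3) := ⟨Nat.prime_three⟩
  have hp : IsPGroup 3 P := IsPGroup.of_card (n := 3) (by rw [hP]; norm_num)
  haveI : Nontrivial P := Finite.one_lt_card_iff_nontrivial.1 (by rw [hP]; norm_num)
  have hne : 1 < Nat.card ↥(center P) :=
    (center P).one_lt_card_iff_ne_bot.2 hp.bot_lt_center.ne'
  have hmul : Nat.card (P ⧸ center P) * Nat.card ↥(center P) = 27 := by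
    rw [← card_eq_card_quotient_mul_card_subgroup, hP]
  have hq : ¬ IsCyclic (P ⧸ center P) := fun hc => hn
    ((QuotientGroup.mk' (center P)).isMulCommutative_of_isCyclic_of_ker_le_center
      (QuotientGroup.ker_mk' _).le)
  have h1 : Nat.card (P ⧸ center P) ≠ 1 := fun h => hq (by
    haveI := (Nat.card_eq_one_iff_unique.1 h).1
    exact isCyclic_of_subsingleton)
  have h3 : Nat.card (P ⧸ center P) ≠ 3 := fun h => hq (isCyclic_of_prime_card h)
  have hc3 : Nat.card ↥(center P) = 3 := by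
    obtain ⟨k, hk, he⟩ := (Nat.dvd_prime_pow Nat.prime_three (m := 3)).1
      (show Nat.card ↥(center P) ∣ 3 ^ 3 from ⟨Nat.card (P ⧸ center P), by
        rw [mul_comm, hmul]; norm_num⟩)
    interval_cases k <;> rw [he] at hne hmul ⊢ <;> norm_num at * <;> omega
  refine ⟨hc3, fun a b => ?_⟩
  have h9 : Nat.card (P ⧸ center P) = 3 ^ 2 := by rw [hc3] at hmul; omega
  rw [← QuotientGroup.eq_one_iff]
  simp only [QuotientGroup.mk_mul, QuotientGroup.mk_inv]
  rw [(IsPGroup.isMulCommutative_of_card_eq_prime_sq h9).is_comm.comm (a : P ⧸ center P) (b : P ⧸ center P)]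
  group

/-- an element of a cyclic group killed by three is a power of a given element of order three -/
theorem mem_zpowers_of_pow_three {Z : Type*} [Group Z] [Finite Z] [IsCyclic Z] {t a : Z}
    (ht : orderOf t = 3) (ha : a ^ 3 = 1) : a ∈ zpowers t := by
  classical
  haveI := Fintype.ofFinite Z
  have hle := IsCyclic.card_pow_eq_one_le (α := Z) (n := 3) (by norm_num)
  let F : Finset Z := (Finset.range 3).image fun i => t ^ i
  have hF : F.card = 3 := by
    rw [Finset.card_image_of_injOn]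
    · simp
    · intro i hi j hj h
      simp only [Finset.coe_range, Set.mem_Iio] at hi hj
      exact pow_injOn_Iio_orderOf (by rw [ht]; exact hi) (by rw [ht]; exact hj) h
  have hsub : F ⊆ Finset.univ.filter fun z : Z => z ^ 3 = 1 := by
    intro z hz
    obtain ⟨i, _, rfl⟩ := Finset.mem_image.1 hz
    refine Finset.mem_filter.2 ⟨Finset.mem_univ _, ?_⟩
    rw [← pow_mul, mul_comm, pow_mul, ← ht, pow_orderOf_eq_one, one_pow]
  have he := Finset.eq_of_subset_of_card_le hsub (by rw [hF]; exact hle)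
  have hm : a ∈ F := he ▸ Finset.mem_filter.2 ⟨Finset.mem_univ _, ha⟩
  obtain ⟨i, _, rfl⟩ := Finset.mem_image.1 hm
  exact pow_mem (mem_zpowers _) _

end Fused

theorem exists_fused {G : Type*} [Group G] [Finite G] {x : G} (hx : orderOf x = 3)
    (hperf : ⁅(⊤ : Subgroup ↥(Subgroup.centralizer ({x} : Set G))), (⊤ : Subgroup ↥(Subgroup.centralizer ({x} : Set G)))⁆ = ⊤)
    (hZ : IsCyclic ↥(Subgroup.center ↥(Subgroup.centralizer ({x} : Set G))))
    (hZc : Nat.card ↥(Subgroup.center ↥(Subgroup.centralizer ({x} : Set G))) = 6)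
    (e : ↥(Subgroup.centralizer ({x} : Set G)) ⧸ Subgroup.center ↥(Subgroup.centralizer ({x} : Set G)) ≃* ↥Cfsg.Spor.M22)
    (S : Sylow 3 G) (g : G)
    (hng : ((Subgroup.center ↥(S : Subgroup G)).map (S : Subgroup G).subtype).map (MulAut.conj g).toMonoidHom ≤ (S : Subgroup G))
    (hne : ((Subgroup.center ↥(S : Subgroup G)).map (S : Subgroup G).subtype).map (MulAut.conj g).toMonoidHom ≠ ((Subgroup.center ↥(S : Subgroup G)).map (S : Subgroup G).subtype)) :
    ∃ y g₀ : G, y ∈ Subgroup.centralizer ({x} : Set G) ∧ orderOf y = 3 ∧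
      y ∉ Subgroup.zpowers x ∧ g₀ * x * g₀⁻¹ = y ∧
      ∀ a ∈ Subgroup.centralizer ({x} : Set G), orderOf a = 3 → a ∉ Subgroup.zpowers x →
        ∃ c ∈ Subgroup.centralizer ({x} : Set G), c * a * c⁻¹ = y := by
  classical
  haveI : Fact (Nat.Prime 3) := ⟨Nat.prime_three⟩
  haveI := hZ
  set C : Subgroup G := centralizer ({x} : Set G) with hC
  have memC : ∀ v : G, v ∈ C ↔ v * x = x * v := fun v => mem_centralizer_singleton_iff
  have hxC : x ∈ C := (memC x).2 rfl
  set xT : ↥C := ⟨x, hxC⟩ with hxT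
  have hxT3 : orderOf xT = 3 := by rw [← orderOf_coe, hxT]; exact hx
  have hxc : xT ∈ center ↥C := mem_center_iff.2 fun v => Subtype.ext ((memC (v : G)).1 v.2)
  -- the order of the centraliser
  have hcardC : Nat.card ↥C = 2661120 := by
    rw [card_eq_card_quotient_mul_card_subgroup (center ↥C), Nat.card_congr e.toEquiv, hZc,
      CfsgLib.MathieuOut.natCard_M22]
  obtain ⟨S₁⟩ : Nonempty (Sylow 3 ↥C) := inferInstance
  have hS27 : Nat.card ↥(S₁ : Subgroup ↥C) = 27 := by
    rw [S₁.card_eq_multiplicity, hcardC]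
    have : Nat.factorization 2661120 3 = 3 := by
      have hd : (2661120 : ℕ) = 3 ^ 3 * 98560 := by norm_num
      rw [hd, Nat.factorization_mul (by norm_num) (by norm_num), Finsupp.add_apply,
        Nat.Prime.factorization_pow Nat.prime_three, Finsupp.single_eq_same,
        Nat.factorization_eq_zero_of_not_dvd (by norm_num)]
    rw [this]
    norm_num
  obtain ⟨hZ3, hcomm⟩ := Fused.center_of_card_27 hS27
    (Fused.not_commutative_sylow hperf hxc hxT3 S₁)
  have hxS : xT ∈ (S₁ : Subgroup ↥C) := by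
    obtain ⟨Q, hQ⟩ := IsPGroup.exists_le_sylow (p := 3) (P := zpowers xT)
      (IsPGroup.of_card (n := 1) (by rw [Nat.card_zpowers, hxT3, pow_one]))
    obtain ⟨c, hc⟩ := MulAction.exists_smul_eq ↥C Q S₁
    have h1 : xT ∈ (Q : Subgroup ↥C) := hQ (mem_zpowers _)
    rw [← hc, Sylow.coe_subgroup_smul]
    refine mem_map.2 ⟨xT, h1, ?_⟩
    show MulAut.conj c xT = xT
    rw [MulAut.conj_apply, mem_center_iff.1 hxc c, mul_inv_cancel_right]
  set S0 : Subgroup G := (S₁ : Subgroup ↥C).map C.subtype with hS0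
  have hS0C : S0 ≤ C := map_subtype_le _
  have hxS0 : x ∈ S0 := ⟨xT, hxS, rfl⟩
  have hS0card : Nat.card ↥S0 = 27 := by rw [hS0, card_subtype, hS27]
  -- the centre of `S0`
  have hcen : ∀ v ∈ S0, (∀ w ∈ S0, w * v = v * w) → v ∈ zpowers x := by
    rintro - ⟨v, hv, rfl⟩ hw
    have hxc' : (⟨xT, hxS⟩ : ↥(S₁ : Subgroup ↥C)) ∈ center ↥(S₁ : Subgroup ↥C) :=
      mem_center_iff.2 fun w => Subtype.ext (mem_center_iff.1 hxc w)
    have hvc : (⟨v, hv⟩ : ↥(S₁ : Subgroup ↥C)) ∈ center ↥(S₁ : Subgroup ↥C) :=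
      mem_center_iff.2 fun w =>
        Subtype.ext (Subtype.ext (hw _ ⟨(w : ↥C), w.2, rfl⟩))
    have heq : zpowers (⟨xT, hxS⟩ : ↥(S₁ : Subgroup ↥C)) = center ↥(S₁ : Subgroup ↥C) := by
      refine eq_of_le_of_card_ge (zpowers_le.2 hxc') ?_
      rw [Nat.card_zpowers, hZ3, ← orderOf_coe]
      exact hxT3.ge
    obtain ⟨n, hn⟩ := mem_zpowers_iff.1 (heq ▸ hvc)
    refine mem_zpowers_iff.2 ⟨n, ?_⟩
    have := congrArg (fun w : ↥(S₁ : Subgroup ↥C) => ((w : ↥C) : G)) hn
    simpa using this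
  -- `S0` is a Sylow subgroup of `G`
  obtain ⟨P, hP⟩ := IsPGroup.exists_le_sylow (p := 3) (P := S0)
    (IsPGroup.of_card (n := 3) (by rw [hS0card]; norm_num))
  have hPC : (P : Subgroup G) ⊓ C = S0 := by
    refine (eq_of_le_of_card_ge (le_inf hP hS0C) ?_).symm
    obtain ⟨k, hk⟩ := IsPGroup.iff_card.1
      (P.isPGroup'.to_le (inf_le_left : (P : Subgroup G) ⊓ C ≤ P))
    have hd : 3 ^ k ∣ 2661120 := hk ▸ hcardC ▸ card_dvd_of_le inf_le_right
    have hk3 : k ≤ 3 := by
      by_contra h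
      have : (81 : ℕ) ∣ 2661120 := (pow_dvd_pow 3 (show 4 ≤ k by omega)).trans hd
      norm_num at this
    rw [hk, hS0card]
    calc 3 ^ k ≤ 3 ^ 3 := Nat.pow_le_pow_right (by norm_num) hk3
      _ = 27 := rfl
  have hPeq : (P : Subgroup G) = S0 := by
    haveI : Nontrivial ↥(P : Subgroup G) :=
      ⟨⟨x, hP hxS0⟩, 1, fun h => by
        have h1 : x = 1 := congrArg Subtype.val h
        rw [h1, orderOf_one] at hx
        norm_num at hx⟩
    obtain ⟨w, hw, hw1⟩ := (bot_or_exists_ne_one (center ↥(P : Subgroup G))).resolve_left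
      P.isPGroup'.bot_lt_center.ne'
    have hwcomm : ∀ v ∈ (P : Subgroup G), v * (w : G) = w * v := fun v hv =>
      congrArg Subtype.val (mem_center_iff.1 hw ⟨v, hv⟩)
    have hwS : (w : G) ∈ S0 := hPC ▸ ⟨w.2, (memC (w : G)).2 (hwcomm x (hP hxS0)).symm⟩
    have hwx : (w : G) ∈ zpowers x := hcen _ hwS fun v hv => hwcomm v (hP hv)
    have hxw : x ∈ zpowers (w : G) := by
      have he : zpowers (w : G) = zpowers x := by
        refine eq_of_le_of_card_ge (zpowers_le.2 hwx) ?_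
        rw [Nat.card_zpowers, Nat.card_zpowers, hx]
        rcases (Nat.dvd_prime Nat.prime_three).1
          (hx ▸ orderOf_dvd_of_mem_zpowers hwx) with h | h
        · exact absurd (Subtype.ext (orderOf_eq_one_iff.1 h)) hw1
        · omega
      exact he ▸ mem_zpowers _
    refine le_antisymm (fun v hv => hPC ▸ ⟨hv, ?_⟩) hP
    obtain ⟨n, rfl⟩ := mem_zpowers_iff.1 hxw
    exact (memC _).2 (Commute.zpow_right (show Commute v (w : G) from hwcomm v hv) n).eq
  -- the fused element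
  obtain ⟨h, hh⟩ := MulAction.exists_smul_eq G P S
  have hSP : (S : Subgroup G) = (P : Subgroup G).map (MulAut.conj h).toMonoidHom := by
    rw [← hh, Sylow.coe_subgroup_smul]
    rfl
  have hmemS : ∀ v : G, v ∈ (S : Subgroup G) ↔ h⁻¹ * v * h ∈ S0 := by
    intro v
    rw [hSP, mem_map, ← hPeq]
    constructor
    · rintro ⟨w, hw, rfl⟩
      simpa [MulAut.conj_apply, mul_assoc] using hw
    · intro hv
      exact ⟨_, hv, by simp [MulAut.conj_apply, mul_assoc]⟩
  set K : Subgroup G := (center ↥(S : Subgroup G)).map (S : Subgroup G).subtype with hK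
  have hK_le : ∀ v ∈ K, h⁻¹ * v * h ∈ zpowers x := by
    rintro - ⟨v, hv, rfl⟩
    refine hcen _ ((hmemS _).1 v.2) fun w hw => ?_
    have hwS : h * w * h⁻¹ ∈ (S : Subgroup G) := by
      rw [hmemS, show h⁻¹ * (h * w * h⁻¹) * h = w by group]; exact hw
    have h1 : h * w * h⁻¹ * (v : G) = (v : G) * (h * w * h⁻¹) :=
      congrArg Subtype.val (mem_center_iff.1 hv ⟨_, hwS⟩)
    show w * (h⁻¹ * (v : G) * h) = h⁻¹ * (v : G) * h * w
    calc w * (h⁻¹ * (v : G) * h) = h⁻¹ * (h * w * h⁻¹ * (v : G)) * h := by group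
      _ = h⁻¹ * ((v : G) * (h * w * h⁻¹)) * h := by rw [h1]
      _ = h⁻¹ * (v : G) * h * w := by group
  have hxS' : h * x * h⁻¹ ∈ (S : Subgroup G) := by
    rw [hmemS, show h⁻¹ * (h * x * h⁻¹) * h = x by group]; exact hxS0
  have hxK : h * x * h⁻¹ ∈ K := by
    refine ⟨⟨_, hxS'⟩, mem_center_iff.2 fun v => Subtype.ext ?_, rfl⟩
    have h1 := (memC _).1 (hS0C ((hmemS _).1 v.2))
    show (v : G) * (h * x * h⁻¹) = h * x * h⁻¹ * (v : G)
    calc (v : G) * (h * x * h⁻¹) = h * (h⁻¹ * (v : G) * h * x) * h⁻¹ := by group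
      _ = h * (x * (h⁻¹ * (v : G) * h)) * h⁻¹ := by rw [h1]
      _ = h * x * h⁻¹ * (v : G) := by group
  set g₀ : G := h⁻¹ * g * h with hg₀
  have hyS : g₀ * x * g₀⁻¹ ∈ S0 := by
    have h1 := (hmemS _).1 (hng (mem_map_of_mem _ hxK))
    rw [show g₀ * x * g₀⁻¹ = h⁻¹ * (g * (h * x * h⁻¹) * g⁻¹) * h by rw [hg₀]; group]
    exact h1
  set y : G := g₀ * x * g₀⁻¹ with hy
  have hy3 : orderOf y = 3 := by
    rw [hy, ← MulAut.conj_apply g₀ x, MulEquiv.orderOf_eq, hx]
  have hyx : y ∉ zpowers x := by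
    intro hmem
    refine hne (eq_of_le_of_card_ge ?_ ?_)
    · rintro - ⟨v, hv, rfl⟩
      obtain ⟨n, hn⟩ := mem_zpowers_iff.1 (hK_le v hv)
      obtain ⟨m, hm⟩ := mem_zpowers_iff.1 hmem
      have hv' : v = (h * x * h⁻¹) ^ n := by
        rw [conj_zpow, hn]; group
      have hgv : g * (h * x * h⁻¹) * g⁻¹ = (h * x * h⁻¹) ^ m := by
        rw [conj_zpow, hm, hy, hg₀]; group
      show g * v * g⁻¹ ∈ K
      rw [hv', ← conj_zpow, hgv]
      exact zpow_mem (zpow_mem hxK _) _
    · exact le_of_eq (Nat.card_congr (K.equivMapOfInjective _ (MulAut.conj g).injective).toEquiv)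
  have hyC : y ∈ C := hS0C hyS
  -- an element of `S0` moving `y` by a non-trivial power of `x`
  obtain ⟨s, hs, hsy⟩ : ∃ s ∈ S0, s * y ≠ y * s := by
    by_contra hcon
    push Not at hcon
    exact hyx (hcen y hyS hcon)
  have hk : s * y * s⁻¹ * y⁻¹ ∈ zpowers x := by
    obtain ⟨s', hs', rfl⟩ := hs
    obtain ⟨y', hy', hye⟩ := hyS
    refine hcen _ ?_ fun w hw => ?_
    · rw [← hye]
      exact ⟨s' * y' * s'⁻¹ * y'⁻¹,
        mul_mem (mul_mem (mul_mem hs' hy') (inv_mem hs')) (inv_mem hy'), by simp⟩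
    · obtain ⟨w', hw', rfl⟩ := hw
      rw [← hye]
      have h1 := mem_center_iff.1 (hcomm ⟨s', hs'⟩ ⟨y', hy'⟩) ⟨w', hw'⟩
      have h2 := congrArg (fun v : ↥(S₁ : Subgroup ↥C) => ((v : ↥C) : G)) h1
      simpa using h2
  set k : G := s * y * s⁻¹ * y⁻¹ with hkdef
  have hk3 : orderOf k = 3 := by
    rcases (Nat.dvd_prime Nat.prime_three).1 (hx ▸ orderOf_dvd_of_mem_zpowers hk) with h1 | h1
    · exfalso
      rw [orderOf_eq_one_iff, hkdef, mul_inv_eq_one, mul_inv_eq_iff_eq_mul] at h1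
      exact hsy h1
    · exact h1
  have hky : s * y * s⁻¹ = k * y := by rw [hkdef]; group
  have hks : Commute s k := by
    obtain ⟨n, hn⟩ := mem_zpowers_iff.1 hk
    rw [← hn]
    exact Commute.zpow_right ((memC s).1 (hS0C hs)) n
  have hiter : ∀ n : ℕ, s ^ n * y * (s ^ n)⁻¹ = k ^ n * y := by
    intro n
    induction n with
    | zero => simp
    | succ n ih =>
      calc s ^ (n + 1) * y * (s ^ (n + 1))⁻¹ = s * (s ^ n * y * (s ^ n)⁻¹) * s⁻¹ := by
            rw [pow_succ']; group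
        _ = s * (k ^ n * y) * s⁻¹ := by rw [ih]
        _ = (s * k ^ n * s⁻¹) * (s * y * s⁻¹) := by group
        _ = k ^ n * (k * y) := by rw [(hks.pow_right n).eq, mul_inv_cancel_right, hky]
        _ = k ^ (n + 1) * y := by rw [pow_succ]; exact (mul_assoc _ _ _).symm
  -- one class
  let pi : ↥C →* ↥Cfsg.Spor.M22 := e.toMonoidHom.comp (QuotientGroup.mk' (center ↥C))
  have hker : ∀ c : ↥C, pi c = 1 ↔ c ∈ center ↥C := fun c => by
    simp [pi]
  have hker3 : ∀ c : ↥C, c ∈ center ↥C → c ^ 3 = 1 → (c : G) ∈ zpowers x := by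
    intro c hc h3
    obtain ⟨n, hn⟩ := mem_zpowers_iff.1 (Fused.mem_zpowers_of_pow_three (t := (⟨xT, hxc⟩ : ↥(center ↥C)))
      (a := ⟨c, hc⟩) (by rw [← orderOf_coe]; exact hxT3) (Subtype.ext (by simpa using h3)))
    refine mem_zpowers_iff.2 ⟨n, ?_⟩
    have := congrArg (fun w : ↥(center ↥C) => ((w : ↥C) : G)) hn
    simpa using this
  have hord : ∀ c : ↥C, orderOf c = 3 → (c : G) ∉ zpowers x → orderOf (pi c) = 3 := by
    intro c hc hcn
    refine orderOf_eq_prime ?_ fun h1 => hcn ?_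
    · rw [← map_pow, ← hc, pow_orderOf_eq_one, map_one]
    · exact hker3 c ((hker c).1 h1) (hc ▸ pow_orderOf_eq_one c)
  refine ⟨y, g₀, hyC, hy3, hyx, rfl, fun a ha ha3 han => ?_⟩
  have h1 := hord ⟨a, ha⟩ (by rw [← orderOf_coe]; exact ha3) han
  have h2 := hord ⟨y, hyC⟩ (by rw [← orderOf_coe]; exact hy3) hyx
  obtain ⟨m, hm⟩ := isConj_iff.1 (JankoFour.ThreeClassCert.M22_three_conj h1 h2)
  obtain ⟨c, rfl⟩ : ∃ c, pi c = m := e.surjective.comp (QuotientGroup.mk'_surjective _) m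
  set d : ↥C := c * ⟨a, ha⟩ * c⁻¹ * ⟨y, hyC⟩⁻¹ with hd
  have hdc : d ∈ center ↥C := by
    rw [← hker, hd, map_mul, map_mul, map_mul, map_inv, map_inv, hm, mul_inv_cancel]
  have hca : c * ⟨a, ha⟩ * c⁻¹ = d * ⟨y, hyC⟩ := by rw [hd, inv_mul_cancel_right]
  have hd3 : d ^ 3 = 1 := by
    have hA : (⟨a, ha⟩ : ↥C) ^ 3 = 1 := Subtype.ext (by
      rw [coe_pow, coe_one, ← ha3]; exact pow_orderOf_eq_one a)
    have hY : (⟨y, hyC⟩ : ↥C) ^ 3 = 1 := Subtype.ext (by
      rw [coe_pow, coe_one, ← hy3]; exact pow_orderOf_eq_one y)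
    have h3 := congrArg (· ^ 3) hca
    simp only [conj_pow, hA, mul_one, mul_inv_cancel] at h3
    rw [Commute.mul_pow (mem_center_iff.1 hdc _).symm, hY, mul_one] at h3
    exact h3.symm
  have hdx : (d : G) ∈ zpowers x := hker3 d hdc hd3
  have hdk : (d : G) ∈ Submonoid.powers k := by
    rw [mem_powers_iff_mem_zpowers]
    have he : zpowers k = zpowers x := eq_of_le_of_card_ge (zpowers_le.2 hk)
      (by rw [Nat.card_zpowers, Nat.card_zpowers, hx, hk3])
    rw [he]; exact hdx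
  obtain ⟨n, hn⟩ := hdk
  refine ⟨(s ^ n)⁻¹ * (c : G), mul_mem (inv_mem (pow_mem (hS0C hs) _)) c.2, ?_⟩
  have hca' : (c : G) * a * (c : G)⁻¹ = (d : G) * y := by
    have := congrArg Subtype.val hca
    simpa using this
  calc (s ^ n)⁻¹ * (c : G) * a * ((s ^ n)⁻¹ * (c : G))⁻¹
      = (s ^ n)⁻¹ * ((c : G) * a * (c : G)⁻¹) * s ^ n := by group
    _ = (s ^ n)⁻¹ * (k ^ n * y) * s ^ n := by rw [hca']; simp only at hn; rw [hn]
    _ = y := by rw [← hiter n]; group

end CfsgLib.Spor.JankoFourChar2
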