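import Cfsg.Agent.Lib.Spor.JankoFourChar2.Action
import Cfsg.Agent.Lib.Coprime.Action2

/-!
The centraliser of an inner involution in the image of the centraliser of `z` normalises `⟨x⟩`.
-/

set_option autoImplicit false
set_option linter.style.haveILetI false
set_option linter.unusedSectionVars false

namespace CfsgLib.Spor.JankoFourChar2

open Cfsg CfsgLib.Spor Subgroup
open scoped Pointwise commutatorElement

namespace Ctx

variable {G : Type*} [Group G] [Finite G] (d : Ctx G)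

/-- the involution central in the centraliser of `y`, in the centraliser of `z` -/
abbrev zyH : ↥d.H := ⟨d.zy, d.C_le_H d.zy_mem⟩

/-- its action -/
noncomputable def Zy : MulAut d.V := d.act d.zyH

theorem zy_comm_y : d.zy * d.y = d.y * d.zy := by
  have h := congrArg (MulAut.conj d.g₀) (d.zcomm _ d.x_mem)
  simpa only [map_mul, MulAut.conj_apply, d.hg, Ctx.zy] using h

theorem zy_sq : d.zy * d.zy = 1 := by
  unfold Ctx.zy
  rw [← sq, conj_pow, sq, d.z_sq, mul_one, mul_inv_cancel]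

theorem Zy_sq : d.Zy * d.Zy = 1 := by
  rw [Ctx.Zy, ← map_mul, show d.zyH * d.zyH = 1 from Subtype.ext d.zy_sq, map_one]

theorem Zy_ne : d.Zy ≠ 1 := fun h => d.zy_notMem (d.act_eq_one_iff.1 h)

theorem comm_Zy_X : Commute d.Zy d.X :=
  Commute.map (show Commute d.zyH d.xH from Subtype.ext (d.mem_C.1 d.zy_mem)) d.act

theorem comm_Zy_Y : Commute d.Zy d.Y :=
  Commute.map (show Commute d.zyH d.yH from Subtype.ext d.zy_comm_y) d.act

theorem Zy_fix_of_Y {v : d.V} (h : d.Y v = v) : d.Zy v = v := by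
  induction v using QuotientGroup.induction_on with | H q => ?_
  have hc := d.comm_of_fixed (h := d.yH) d.y_pow_three (by decide) h
  refine d.act_mk_eq_iff.2 (Or.inl (mul_inv_eq_iff_eq_mul.2 ?_))
  set q' : G := d.g₀⁻¹ * q * d.g₀ with hq'
  have hconj : MulAut.conj d.g₀ q' = q := by rw [MulAut.conj_apply, hq']; group
  have hC : q' ∈ d.C := by
    rw [d.mem_C]
    apply (MulAut.conj d.g₀).injective
    rw [map_mul (MulAut.conj d.g₀) q' d.x, map_mul (MulAut.conj d.g₀) d.x q', hconj,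
      MulAut.conj_apply, d.hg]
    exact hc.symm
  have h2 := congrArg (MulAut.conj d.g₀) (d.zcomm _ hC)
  rw [map_mul (MulAut.conj d.g₀) d.z q', map_mul (MulAut.conj d.g₀) q' d.z, hconj, MulAut.conj_apply] at h2
  exact h2

/-- the commutator map of the involution -/
noncomputable def phi : d.V →* d.V :=
  MonoidHom.mk' (fun v => v * d.Zy v) fun a b => by rw [map_mul, mul_mul_mul_comm]

theorem phi_apply (v : d.V) : d.phi v = v * d.Zy v := rfl

theorem phi_phi (v : d.V) : d.phi (d.phi v) = 1 := by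
  rw [phi_apply, phi_apply, map_mul,
    show d.Zy (d.Zy v) = v from DFunLike.congr_fun d.Zy_sq v, mul_comm (d.Zy v) v]
  exact d.V_sq _

theorem phi_comm {f : MulAut d.V} (h : Commute f d.Zy) (v : d.V) : f (d.phi v) = d.phi (f v) := by
  rw [phi_apply, phi_apply, map_mul,
    show f (d.Zy v) = d.Zy (f v) from DFunLike.congr_fun h.eq v]

/-- the commutator space of the involution -/
noncomputable def W : Subgroup d.V := d.phi.range

theorem W_stable {f : MulAut d.V} (h : Commute f d.Zy) : ∀ v ∈ d.W, f v ∈ d.W := by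
  rintro - ⟨v, rfl⟩
  exact ⟨f v, (d.phi_comm h v).symm⟩

theorem W_inf_Fix_Y {w : d.V} (hw : w ∈ d.W) (hY : d.Y w = w) : w = 1 := by
  obtain ⟨v, rfl⟩ := hw
  have h1 := orb3_fixed d.V_sq hY
  rw [orb3, d.phi_comm d.comm_Zy_Y.symm, d.phi_comm d.comm_Zy_Y.symm, ← map_mul, ← map_mul] at h1
  rw [← h1, phi_apply]
  show orb3 d.Y v * d.Zy (orb3 d.Y v) = 1
  rw [d.Zy_fix_of_Y (map_orb3 d.Y_pow_three v)]
  exact d.V_sq _

theorem W_inf_Fix {f : MulAut d.V} (hf : f ^ 3 = 1) (hc : Commute f d.Zy) :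
    d.W ⊓ d.Fix f = (d.Fix f).map d.phi := by
  ext w
  constructor
  · rintro ⟨⟨v, rfl⟩, hw⟩
    have h1 := orb3_fixed d.V_sq (show f (d.phi v) = d.phi v from hw)
    rw [orb3, d.phi_comm hc, d.phi_comm hc, ← map_mul, ← map_mul] at h1
    exact ⟨_, map_orb3 hf v, h1⟩
  · rintro ⟨v, hv, rfl⟩
    exact ⟨⟨v, rfl⟩, (d.phi_comm hc v).trans (congrArg d.phi hv)⟩

theorem card_map_phi_le {S : Subgroup d.V} (hS : ∀ v ∈ S, d.phi v ∈ S) :
    Nat.card ↥(S.map d.phi) * Nat.card ↥(S.map d.phi) ≤ Nat.card ↥S := by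
  have h := ((d.phi.comp S.subtype).ker).card_mul_index
  rw [index_ker, MonoidHom.range_comp, range_subtype] at h
  refine le_trans (Nat.mul_le_mul_right _ ?_) h.le
  refine Nat.card_le_card_of_injective
    (fun w : ↥(S.map d.phi) => (⟨⟨(w : d.V), ?_⟩, ?_⟩ : ↥(d.phi.comp S.subtype).ker)) ?_
  · obtain ⟨v, hv, he⟩ := w.2
    exact he ▸ hS v hv
  · obtain ⟨v, -, he⟩ := w.2
    rw [MonoidHom.mem_ker]
    show d.phi (w : d.V) = 1
    rw [← he]
    exact d.phi_phi v
  · intro a b hab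
    exact Subtype.ext (congrArg (fun t => ((t.1 : ↥S) : d.V)) hab)

/-- an element inverting `X` and commuting with `Y` and with the involution -/
theorem exists_inverting_act : ∃ g : ↥d.H, d.act g * d.X * (d.act g)⁻¹ = d.X⁻¹ ∧
    Commute (d.act g) d.Y ∧ Commute (d.act g) d.Zy := by
  obtain ⟨g, hg, h1, h2, h3⟩ := d.exists_inverting
  refine ⟨⟨g, hg⟩, ?_, Commute.map (show Commute ⟨g, hg⟩ d.yH from Subtype.ext h2) d.act,
    Commute.map (show Commute ⟨g, hg⟩ d.zyH from Subtype.ext h3) d.act⟩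
  rw [Ctx.X, ← map_inv, ← map_inv, ← map_mul, ← map_mul]
  exact congrArg _ (Subtype.ext h1)

theorem comm_pow_mul (i : ℕ) : Commute (d.X ^ i * d.Y) d.Zy :=
  ((d.comm_Zy_X.symm.pow_left i).mul_left d.comm_Zy_Y.symm)

theorem pow_mul_pow_three (i : ℕ) : (d.X ^ i * d.Y) ^ 3 = 1 := by
  rw [(d.comm_XY.pow_left i).mul_pow, ← pow_mul, mul_comm i, pow_mul, d.X_pow_three, one_pow,
    d.Y_pow_three, one_mul]

/-- restriction to the commutator space -/
noncomputable def restr : ↥(centralizer ({d.Zy} : Set (MulAut d.V))) →* MulAut ↥d.W where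
  toFun f :=
    { toFun := fun w => ⟨(f : MulAut d.V) w,
        d.W_stable (mem_centralizer_singleton_iff.1 f.2) _ w.2⟩
      invFun := fun w => ⟨(f⁻¹ : ↥(centralizer ({d.Zy} : Set (MulAut d.V)))).1 w,
        d.W_stable (mem_centralizer_singleton_iff.1 (inv_mem f.2)) _ w.2⟩
      left_inv := fun w => Subtype.ext (MulEquiv.symm_apply_apply (f : MulAut d.V) _)
      right_inv := fun w => Subtype.ext (MulEquiv.apply_symm_apply (f : MulAut d.V) _)
      map_mul' := fun a b => Subtype.ext (map_mul (f : MulAut d.V) _ _) }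
  map_one' := by ext w; rfl
  map_mul' f g := by ext w; rfl

theorem restr_apply (f : ↥(centralizer ({d.Zy} : Set (MulAut d.V)))) (w : ↥d.W) :
    ((d.restr f w : ↥d.W) : d.V) = (f : MulAut d.V) w := rfl

/-- the fixed points of a restricted map -/
noncomputable def fixEquiv (f : ↥(centralizer ({d.Zy} : Set (MulAut d.V)))) :
    {w : ↥d.W // d.restr f w = w} ≃ ↥(d.W ⊓ d.Fix (f : MulAut d.V)) where
  toFun w := ⟨_, w.1.2, congrArg Subtype.val w.2⟩
  invFun w := ⟨⟨_, w.2.1⟩, Subtype.ext w.2.2⟩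
  left_inv w := rfl
  right_inv w := rfl

/-- `X` restricted -/
noncomputable abbrev Xc : ↥(centralizer ({d.Zy} : Set (MulAut d.V))) :=
  ⟨d.X, mem_centralizer_singleton_iff.2 d.comm_Zy_X.symm.eq⟩

/-- `Y` restricted -/
noncomputable abbrev Yc : ↥(centralizer ({d.Zy} : Set (MulAut d.V))) :=
  ⟨d.Y, mem_centralizer_singleton_iff.2 d.comm_Zy_Y.symm.eq⟩

theorem Xc_fpf (w : ↥d.W) (h : d.restr d.Xc w = w) : w = 1 :=
  Subtype.ext (d.X_fpf _ (congrArg Subtype.val h))

theorem Yc_fpf (w : ↥d.W) (h : d.restr d.Yc w = w) : w = 1 :=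
  Subtype.ext (d.W_inf_Fix_Y w.2 (congrArg Subtype.val h))

theorem restr_pow_three {f : ↥(centralizer ({d.Zy} : Set (MulAut d.V)))}
    (h : (f : MulAut d.V) ^ 3 = 1) : d.restr f ^ 3 = 1 := by
  rw [← map_pow, show f ^ 3 = 1 from Subtype.ext h, map_one]

theorem comm_restr : Commute (d.restr d.Xc) (d.restr d.Yc) :=
  Commute.map (show Commute d.Xc d.Yc from Subtype.ext d.comm_XY.eq) d.restr

theorem W_sq (w : ↥d.W) : w * w = 1 := Subtype.ext (d.V_sq _)

theorem card_W_data : Nat.card ↥d.W = 16 ∧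
    Nat.card ↥(d.W ⊓ d.Fix (d.X * d.Y)) = 4 ∧ Nat.card ↥(d.W ⊓ d.Fix (d.X ^ 2 * d.Y)) = 4 := by
  obtain ⟨g, hgX, hgY, hgZ⟩ := d.exists_inverting_act
  have hcA : Commute (d.X * d.Y) d.Zy := by simpa using d.comm_pow_mul 1
  have hA3 : (d.X * d.Y) ^ 3 = 1 := by simpa using d.pow_mul_pow_three 1
  have hsplit : Nat.card ↥d.W =
      1 * Nat.card ↥(d.W ⊓ d.Fix (d.X * d.Y)) * Nat.card ↥(d.W ⊓ d.Fix (d.X ^ 2 * d.Y)) := by
    rw [card_eq_fixed d.W_sq (d.restr_pow_three (f := d.Xc) d.X_pow_three)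
      (d.restr_pow_three (f := d.Yc) d.Y_pow_three) d.comm_restr d.Xc_fpf]
    refine congrArg₂ _ (congrArg₂ _ ?_ ?_) ?_
    · rw [Nat.card_eq_one_iff_unique]
      exact ⟨⟨fun a b => Subtype.ext ((d.Yc_fpf _ a.2).trans (d.Yc_fpf _ b.2).symm)⟩,
        ⟨⟨1, map_one _⟩⟩⟩
    · rw [← map_mul]
      exact Nat.card_congr (d.fixEquiv _)
    · rw [← map_pow, ← map_mul]
      exact Nat.card_congr (d.fixEquiv _)
  -- the inverting element exchanges the two pieces
  have hswap : (d.W ⊓ d.Fix (d.X * d.Y)).map (d.act g).toMonoidHom =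
      d.W ⊓ d.Fix (d.X ^ 2 * d.Y) := by
    have e : d.X ^ 2 * d.Y = d.act g * (d.X * d.Y) * (d.act g)⁻¹ := by
      rw [show d.act g * (d.X * d.Y) * (d.act g)⁻¹ =
        (d.act g * d.X * (d.act g)⁻¹) * (d.act g * d.Y * (d.act g)⁻¹) by group, hgX, hgY.eq,
        mul_inv_cancel_right, d.Xinv_eq]
    rw [e]
    ext v
    constructor
    · rintro ⟨u, ⟨hu, huF⟩, rfl⟩
      refine ⟨d.W_stable hgZ u hu, ?_⟩
      show (d.act g * (d.X * d.Y) * (d.act g)⁻¹) (d.act g u) = d.act g u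
      rw [MulAut.mul_apply, MulAut.mul_apply, MulAut.inv_apply_self]
      exact congrArg (d.act g) huF
    · rintro ⟨hv, hvF⟩
      refine ⟨(d.act g)⁻¹ v, ⟨d.W_stable hgZ.inv_left v hv, ?_⟩, MulAut.apply_inv_self _ _ v⟩
      have h := congrArg ((d.act g)⁻¹ : MulAut d.V) (show
        (d.act g * (d.X * d.Y) * (d.act g)⁻¹) v = v from hvF)
      rw [MulAut.mul_apply, MulAut.mul_apply, MulAut.inv_apply_self] at h
      exact h
  have heq : Nat.card ↥(d.W ⊓ d.Fix (d.X * d.Y)) = Nat.card ↥(d.W ⊓ d.Fix (d.X ^ 2 * d.Y)) := by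
    rw [← hswap]
    exact (card_map_of_injective (f := (d.act g).toMonoidHom) (d.act g).injective).symm
  set a := Nat.card ↥(d.W ⊓ d.Fix (d.X * d.Y)) with ha
  have hle : a * a ≤ 16 := by
    rw [ha, d.W_inf_Fix hA3 hcA]
    refine le_trans (d.card_map_phi_le fun v hv => ?_) (le_of_eq ?_)
    · exact (d.phi_comm hcA v).trans (congrArg d.phi hv)
    · simpa using d.card_Fix_pow_pow 1 (j := 1) (by norm_num)
  rw [← heq, one_mul] at hsplit
  have h4 : a ≤ 4 := by nlinarith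
  have hdvd : a ∣ 4096 := d.card_V ▸ card_subgroup_dvd_card _
  have hne1 : a ≠ 1 := by
    intro h1
    rw [h1] at hsplit
    have hb := eq_bot_of_card_eq _ hsplit
    refine d.Zy_ne ?_
    ext v
    have hv : d.phi v = 1 := mem_bot.1 (hb ▸ ⟨v, rfl⟩)
    rw [phi_apply] at hv
    rw [MulAut.one_apply]
    exact (eq_inv_of_mul_eq_one_right hv).trans (eq_inv_of_mul_eq_one_left (d.V_sq v)).symm
  have hne2 : a ≠ 2 := by
    intro h2
    haveI : Nontrivial ↥(d.W ⊓ d.Fix (d.X * d.Y)) :=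
      Finite.one_lt_card_iff_nontrivial.1 (by omega)
    obtain ⟨⟨v, hv⟩, hv1⟩ := exists_ne (1 : ↥(d.W ⊓ d.Fix (d.X * d.Y)))
    have hX : d.X v ∈ d.W ⊓ d.Fix (d.X * d.Y) :=
      ⟨d.W_stable d.comm_Zy_X.symm _ hv.1, by
        show (d.X * d.Y) (d.X v) = d.X v
        rw [← MulAut.mul_apply, mul_assoc, ← d.comm_XY.eq, MulAut.mul_apply]
        exact congrArg d.X hv.2⟩
    have huniq : ∀ p ∈ d.W ⊓ d.Fix (d.X * d.Y), p = 1 ∨ p = v := by
      intro p hp
      obtain ⟨b, -, hb⟩ := (Nat.card_eq_two_iff' (1 : ↥(d.W ⊓ d.Fix (d.X * d.Y)))).1 (ha ▸ h2)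
      by_cases hp1 : p = 1
      · exact Or.inl hp1
      · exact Or.inr (congrArg Subtype.val ((hb ⟨p, hp⟩ fun h => hp1 (congrArg Subtype.val h)).trans
          (hb ⟨v, hv⟩ hv1).symm))
    rcases huniq _ hX with h | h
    · exact hv1 (Subtype.ext ((map_eq_one_iff d.X d.X.injective).1 h))
    · exact hv1 (Subtype.ext (d.X_fpf v h))
  have h3 : a ≠ 3 := fun h => by rw [h] at hdvd; norm_num at hdvd
  have ha4 : a = 4 := by
    have : a ≠ 0 := Nat.card_pos.ne'
    omega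
  exact ⟨by rw [hsplit, ha4], ha4, heq ▸ ha4⟩

theorem card_Fix_Zy : Nat.card ↥(d.Fix d.Zy) = 256 := by
  have h := d.phi.ker.card_mul_index
  rw [index_ker, show Nat.card ↥d.phi.range = 16 from d.card_W_data.1, d.card_V] at h
  have he : d.Fix d.Zy = d.phi.ker := by
    ext v
    rw [MonoidHom.mem_ker, phi_apply, mem_Fix]
    exact ⟨fun h => by rw [h]; exact d.V_sq v, fun h => (eq_inv_of_mul_eq_one_right h).trans
      (eq_inv_of_mul_eq_one_left (d.V_sq v)).symm⟩
  rw [he]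
  omega

/-- the action of the centraliser of `x` -/
noncomputable def actC : ↥d.C →* MulAut d.V := d.act.comp (inclusion d.C_le_H)

theorem actC_eq_one {c : ↥d.C} (h : d.actC c = 1) : d.pi c = 1 := by
  have h1 : (c : G) ∈ zpowers d.z := d.Q_inf_C ▸ ⟨d.act_eq_one_iff.1 h, c.2⟩
  rcases d.mem_zpowers_z.1 h1 with h2 | h2
  · rw [show c = 1 from Subtype.ext h2, map_one]
  · rw [show c = ⟨d.z, d.zC⟩ from Subtype.ext h2, d.ker_z]

theorem pi_eq_of_actC {c c' : ↥d.C} (h : d.actC c = d.actC c') : d.pi c = d.pi c' := by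
  rw [← inv_mul_eq_one, ← map_inv, ← map_mul]
  exact d.actC_eq_one (by rw [map_mul, map_inv, h, inv_mul_cancel])

/-- the image of the involution in `M22` -/
noncomputable def T : ↥Spor.M22 := d.pi ⟨d.zy, d.zy_mem⟩

theorem T_data : d.T * d.T = 1 ∧ d.T ≠ 1 ∧ orderOf d.T = 2 := by
  haveI : Fact (Nat.Prime 2) := ⟨Nat.prime_two⟩
  have h1 : d.T * d.T = 1 := by
    rw [Ctx.T, ← map_mul, show (⟨d.zy, d.zy_mem⟩ : ↥d.C) * ⟨d.zy, d.zy_mem⟩ = 1 from
      Subtype.ext d.zy_sq, map_one]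
  have h2 : d.T ≠ 1 := by
    intro h
    rcases d.ker_two_elem (c := ⟨d.zy, d.zy_mem⟩) h (k := 1) (by
      rw [pow_one, sq]; exact d.zy_sq) with h2 | h2 <;> apply d.zy_notMem
    · rw [show d.zy = 1 from h2]; exact one_mem _
    · rw [show d.zy = d.z from h2]; exact d.z_mem_Q
  exact ⟨h1, h2, orderOf_eq_prime (by rw [sq]; exact h1) h2⟩

theorem card_ker_le : Nat.card ↥d.pi.ker ≤ 6 := by
  refine le_trans (Nat.card_le_card_of_surjective
    (fun p : Fin 3 × Fin 2 => (⟨(⟨d.x, d.x_mem⟩ : ↥d.C) ^ (p.1 : ℕ) * ⟨d.z, d.zC⟩ ^ (p.2 : ℕ), by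
      rw [MonoidHom.mem_ker, map_mul, map_pow, map_pow, d.ker_x, d.ker_z, one_pow, one_pow,
        one_mul]⟩ : ↥d.pi.ker)) ?_) (by simp)
  rintro ⟨c, hc⟩
  obtain ⟨i, j, hij⟩ := d.ker_mem c hc
  refine ⟨(⟨i % 3, Nat.mod_lt _ (by norm_num)⟩, ⟨j % 2, Nat.mod_lt _ (by norm_num)⟩),
    Subtype.ext (Subtype.ext ?_)⟩
  simp only [coe_mul, coe_pow, hij]
  rw [← pow_eq_pow_mod i d.x_pow_three, ← pow_eq_pow_mod j (by rw [sq]; exact d.z_sq)]

theorem not_dvd_inner : ¬ 27 ∣ Nat.card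
    ↥(d.actC.range ⊓ centralizer ({d.Zy} : Set (MulAut d.V))) := by
  intro h
  set L : Subgroup ↥d.C := (centralizer ({d.Zy} : Set (MulAut d.V))).comap d.actC with hL
  have hmap : L.map d.actC = d.actC.range ⊓ centralizer ({d.Zy} : Set (MulAut d.V)) := by
    rw [hL, map_comap_eq]
  rw [← hmap] at h
  have h1 : 27 ∣ Nat.card ↥L := h.trans (L.card_map_dvd d.actC)
  have h2 := ((d.pi.comp L.subtype).ker).card_mul_index
  rw [index_ker, MonoidHom.range_comp, range_subtype] at h2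
  have hle : L.map d.pi ≤ centralizer ({d.T} : Set ↥Spor.M22) := by
    rintro - ⟨c, hc, rfl⟩
    rw [mem_centralizer_singleton_iff, Ctx.T, ← map_mul, ← map_mul]
    exact d.pi_eq_of_actC (by rw [map_mul, map_mul]; exact mem_centralizer_singleton_iff.1 hc)
  have h384 : Nat.card ↥(L.map d.pi) ∣ 384 := by
    rw [← card_centralizer_invol d.T_data.2.2]
    exact card_dvd_of_le hle
  have hk : Nat.card ↥(d.pi.comp L.subtype).ker ≤ 6 :=
    le_trans (Nat.card_le_card_of_injective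
      (fun c : ↥(d.pi.comp L.subtype).ker => (⟨((c : ↥L) : ↥d.C), c.2⟩ : ↥d.pi.ker))
      fun a b hab => Subtype.ext (Subtype.ext (congrArg Subtype.val hab :))) d.card_ker_le
  rw [← h2] at h1
  obtain ⟨q, hq⟩ := h384
  have hd : 27 ∣ Nat.card ↥(d.pi.comp L.subtype).ker * 384 := by
    rw [hq, ← mul_assoc]; exact h1.mul_right q
  have h9 : 9 ∣ Nat.card ↥(d.pi.comp L.subtype).ker := by
    have : (9 : ℕ).Coprime 128 := by norm_num
    refine this.dvd_of_dvd_mul_right ?_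
    omega
  have := Nat.le_of_dvd Nat.card_pos h9
  omega

/-- the centraliser of the involution in the image -/
noncomputable def Xs : Subgroup (MulAut d.V) := d.act.range ⊓ centralizer ({d.Zy} : Set (MulAut d.V))

/-- the group generated by `X` and `Y` -/
noncomputable def A : Subgroup (MulAut d.V) := zpowers d.X ⊔ zpowers d.Y

theorem zpowers_X_le : zpowers d.X ≤ normalizer ((zpowers d.Y : Subgroup (MulAut d.V)) : Set (MulAut d.V)) := by
  rw [zpowers_le]
  refine mem_normalizer_fintype ?_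
  rintro v ⟨n, rfl⟩
  show d.X * d.Y ^ n * d.X⁻¹ ∈ zpowers d.Y
  rw [(d.comm_XY.zpow_right n).eq, mul_inv_cancel_right]
  exact ⟨n, rfl⟩

theorem Y_notMem : d.Y ∉ zpowers d.X := by
  intro h
  have h1 := d.card_Fix_Y
  rcases d.mem_zpowers_X.1 h with e | e | e <;> rw [e] at h1
  · rw [show d.Fix 1 = ⊤ from eq_top_iff.2 fun v _ => rfl, Subgroup.card_top, d.card_V] at h1
    norm_num at h1
  · rw [d.card_Fix_X] at h1
    norm_num at h1
  · have : d.Fix d.X⁻¹ = d.Fix d.X := by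
      ext v
      rw [mem_Fix, mem_Fix]
      constructor <;> intro h2
      · conv_lhs => rw [← h2, MulAut.apply_inv_self]
      · conv_lhs => rw [← h2, MulAut.inv_apply_self]
    rw [this, d.card_Fix_X] at h1
    norm_num at h1

theorem orderOf_X : orderOf d.X = 3 := by
  haveI : Fact (Nat.Prime 3) := ⟨Nat.prime_three⟩
  exact orderOf_eq_prime d.X_pow_three d.X_ne_one

theorem orderOf_Y : orderOf d.Y = 3 := by
  haveI : Fact (Nat.Prime 3) := ⟨Nat.prime_three⟩
  exact orderOf_eq_prime d.Y_pow_three fun h => d.Y_notMem (h ▸ one_mem _)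

theorem card_A : Nat.card ↥d.A = 9 := by
  haveI : Fact (Nat.Prime 3) := ⟨Nat.prime_three⟩
  rw [Ctx.A, CfsgLib.Coprime.card_sup_of_inf_eq_bot d.zpowers_X_le, Nat.card_zpowers,
    Nat.card_zpowers, d.orderOf_X, d.orderOf_Y]
  refine (eq_bot_iff_forall _).2 fun v hv => ?_
  by_contra hne
  have h1 : zpowers v = zpowers d.Y := eq_of_le_of_card_ge (zpowers_le.2 hv.2) (by
    rw [Nat.card_zpowers, Nat.card_zpowers, d.orderOf_Y, orderOf_eq_prime (p := 3) ?_ hne]
    obtain ⟨n, rfl⟩ := hv.2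
    show (d.Y ^ n) ^ 3 = 1
    rw [← zpow_natCast, zpow_comm, zpow_natCast, d.Y_pow_three, one_zpow])
  exact d.Y_notMem (zpowers_le.2 hv.1 (h1 ▸ mem_zpowers d.Y))

theorem mem_A {f : MulAut d.V} (hf : f ∈ d.A) : ∃ i j : ℕ, f = d.X ^ i * d.Y ^ j := by
  obtain ⟨a, ha, b, hb, rfl⟩ := (CfsgLib.Coprime.mem_sup_iff_of_le_normalizer d.zpowers_X_le).1 hf
  have h3 : ∀ {p : MulAut d.V}, orderOf p = 3 → ∀ q ∈ zpowers p, ∃ n : ℕ, q = p ^ n := by
    intro p hp q hq
    obtain ⟨n, hn⟩ := (isOfFinOrder_of_finite p).mem_powers_iff_mem_zpowers.2 hq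
    exact ⟨n, hn.symm⟩
  obtain ⟨i, rfl⟩ := h3 d.orderOf_X a ha
  obtain ⟨j, rfl⟩ := h3 d.orderOf_Y b hb
  exact ⟨i, j, rfl⟩

theorem A_le_Xs : d.A ≤ d.Xs := by
  refine sup_le (zpowers_le.2 ⟨⟨_, rfl⟩, ?_⟩) (zpowers_le.2 ⟨⟨_, rfl⟩, ?_⟩)
  · exact mem_centralizer_singleton_iff.2 d.comm_Zy_X.symm.eq
  · exact mem_centralizer_singleton_iff.2 d.comm_Zy_Y.symm.eq

theorem conj_X_cases {p : MulAut d.V} (h : p * d.X * p⁻¹ ∈ d.A) : p ∈ d.M0 := by
  obtain ⟨i, j, hij⟩ := d.mem_A h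
  by_cases hj : 3 ∣ j
  · obtain ⟨m, rfl⟩ := hj
    rw [pow_mul, d.Y_pow_three, one_pow, mul_one] at hij
    rw [d.mem_M0_iff]
    rcases d.mem_zpowers_X.1 (hij ▸ pow_mem (mem_zpowers d.X) i) with e | e | e
    · exact absurd (conj_eq_one_iff.1 e) d.X_ne_one
    · exact Or.inl e
    · exact Or.inr e
  · exfalso
    have h1 := d.card_Fix_pow_pow i hj
    rw [← hij, d.card_Fix_conj, d.card_Fix_X] at h1
    norm_num at h1

theorem not_dvd_Xs : ¬ 27 ∣ Nat.card ↥d.Xs := by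
  haveI : Fact (Nat.Prime 3) := ⟨Nat.prime_three⟩
  intro h
  obtain ⟨K, hK, hAK⟩ := Sylow.exists_subgroup_card_pow_succ (p := 3) (n := 2)
    (G := ↥d.Xs) (H := d.A.subgroupOf d.Xs) h
    (by rw [Nat.card_congr (subgroupOfEquivOfLe d.A_le_Xs).toEquiv, d.card_A]; norm_num)
  have hidx : ((d.A.subgroupOf d.Xs).subgroupOf K).index = 3 := by
    have h1 := ((d.A.subgroupOf d.Xs).subgroupOf K).card_mul_index
    rw [Nat.card_congr (subgroupOfEquivOfLe hAK).toEquiv,
      Nat.card_congr (subgroupOfEquivOfLe d.A_le_Xs).toEquiv, d.card_A, hK] at h1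
    norm_num at h1
    omega
  have hKp : IsPGroup 3 ↥K := IsPGroup.of_card hK
  haveI hn : ((d.A.subgroupOf d.Xs).subgroupOf K).Normal := by
    refine normal_of_index_eq_minFac_card ?_
    rw [hidx, hK]
    norm_num
  refine d.not_dvd_inner ?_
  have hle : K.map d.Xs.subtype ≤ d.actC.range ⊓ centralizer ({d.Zy} : Set (MulAut d.V)) := by
    rintro - ⟨p, hp, rfl⟩
    refine ⟨?_, p.2.2⟩
    set q : MulAut d.V := (p : MulAut d.V) with hq
    have hconj : q * d.X * q⁻¹ ∈ d.A := by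
      have h1 := hn.conj_mem ⟨⟨d.X, d.A_le_Xs (mem_sup_left (mem_zpowers _))⟩,
        hAK (mem_sup_left (mem_zpowers _) : d.X ∈ d.A)⟩ (mem_sup_left (mem_zpowers _)) ⟨p, hp⟩
      exact h1
    have hcomm : Commute d.X q := by
      rcases d.mem_M0_iff.1 (d.conj_X_cases hconj) with e | e
      · exact (mul_inv_eq_iff_eq_mul.1 e).symm
      · exfalso
        obtain ⟨k, hk⟩ := hKp ⟨p, hp⟩
        have hk' : q ^ 3 ^ k = 1 := congrArg (fun t : ↥K => ((t : ↥d.Xs) : MulAut d.V)) hk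
        have hodd : ∀ m : ℕ, q ^ (2 * m + 1) * d.X * (q ^ (2 * m + 1))⁻¹ = d.X⁻¹ := by
          intro m
          induction m with
          | zero => simpa using e
          | succ m ih =>
            calc q ^ (2 * (m + 1) + 1) * d.X * (q ^ (2 * (m + 1) + 1))⁻¹
                = q * (q * (q ^ (2 * m + 1) * d.X * (q ^ (2 * m + 1))⁻¹) * q⁻¹) * q⁻¹ := by
                  rw [show 2 * (m + 1) + 1 = 2 + (2 * m + 1) by ring, pow_add, sq]; group
              _ = d.X⁻¹ := by rw [ih, ← conj_inv, e, inv_inv, e]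
        obtain ⟨m, hm⟩ : Odd (3 ^ k) := Odd.pow (by decide)
        have h2 := hodd m
        rw [← hm, hk', one_mul, inv_one, mul_one] at h2
        have h3 : d.X ^ 2 = 1 := by rw [sq]; nth_rw 1 [h2]; exact inv_mul_cancel _
        have h4 := orderOf_dvd_of_pow_eq_one h3
        rw [d.orderOf_X] at h4
        norm_num at h4
    obtain ⟨hh, hhe⟩ := p.2.1
    obtain ⟨c, hc, hce⟩ := d.exists_mem_C_of_comm (h := hh) (by rw [hhe]; exact hcomm)
    exact ⟨⟨c, hc⟩, hce.trans hhe⟩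
  have h27 : Nat.card ↥(K.map d.Xs.subtype) = 27 := by
    rw [card_map_of_injective d.Xs.subtype_injective, hK]; norm_num
  exact h27 ▸ card_dvd_of_le hle

theorem eq_one_of_cube {K : Type*} [Group K] [Finite K] {N : Subgroup K}
    (h3 : ¬ 3 ∣ Nat.card ↥N) {n : K} (hn : n ∈ N) (h : n ^ 3 = 1) : n = 1 := by
  have h1 : (⟨n, hn⟩ : ↥N) ^ 3 = 1 := Subtype.ext h
  have h2 := pow_gcd_eq_one.2 ⟨h1, pow_card_eq_one' (x := (⟨n, hn⟩ : ↥N))⟩
  rw [Nat.Coprime.gcd_eq_one ((Nat.prime_three.coprime_iff_not_dvd).2 h3), pow_one] at h2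
  exact congrArg Subtype.val h2

theorem Xs_le_M0 : d.Xs ≤ d.M0 := by
  haveI : Fact (Nat.Prime 3) := ⟨Nat.prime_three⟩
  obtain ⟨hW16, h1, h2⟩ := d.card_W_data
  set ρ : ↥d.Xs →* MulAut ↥d.W := d.restr.comp (inclusion inf_le_right) with hρ
  have hρval : ∀ (f : ↥d.Xs) (w : ↥d.W), ((ρ f w : ↥d.W) : d.V) = (f : MulAut d.V) w :=
    fun _ _ => rfl
  set N1 : Subgroup (MulAut d.V) := ρ.ker.map d.Xs.subtype with hN1
  -- a power product acting trivially is trivial
  have hker : ∀ f ∈ d.A, (∀ w ∈ d.W, f w = w) → f = 1 := by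
    intro f hf hfix
    obtain ⟨i, j, rfl⟩ := d.mem_A hf
    rw [pow_eq_pow_mod i d.X_pow_three, pow_eq_pow_mod j d.Y_pow_three] at hfix ⊢
    have key : ∀ (f : MulAut d.V), (∀ w ∈ d.W, f w = w) →
        (∀ w, f w = w → w ∈ d.W → w = 1) → False := by
      intro f ha hb
      have : d.W = ⊥ := (eq_bot_iff_forall _).2 fun w hw => hb w (ha w hw) hw
      rw [this, card_bot] at hW16
      norm_num at hW16
    have key2 : ∀ (f : MulAut d.V), (∀ w ∈ d.W, f w = w) →
        Nat.card ↥(d.W ⊓ d.Fix f) = 4 → False := by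
      intro f ha hb
      rw [inf_eq_left.2 fun w hw => d.mem_Fix.2 (ha w hw), hW16] at hb
      norm_num at hb
    have hsq : ∀ {f : MulAut d.V}, f ^ 3 = 1 → (∀ w ∈ d.W, (f ^ 2) w = w) →
        ∀ w ∈ d.W, f w = w := by
      intro f hf3 ha w hw
      calc f w = f ((f ^ 2) w) := by rw [ha w hw]
        _ = w := by rw [← MulAut.mul_apply, ← pow_succ', hf3, MulAut.one_apply]
    have : i % 3 = 0 ∨ i % 3 = 1 ∨ i % 3 = 2 := by omega
    have : j % 3 = 0 ∨ j % 3 = 1 ∨ j % 3 = 2 := by omega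
    have hXY : (d.X ^ 2 * d.Y) ^ 2 = d.X * d.Y ^ 2 := by
      rw [(d.comm_XY.pow_left 2).mul_pow, ← pow_mul, pow_eq_pow_mod (2 * 2) d.X_pow_three, pow_one]
    rcases ‹i % 3 = 0 ∨ _› with hi | hi | hi <;> rcases ‹j % 3 = 0 ∨ _› with hj | hj | hj <;>
      rw [hi, hj] at hfix ⊢ <;> (try simp only [pow_zero, pow_one, one_mul, mul_one] at hfix ⊢) <;>
      exfalso
    · exact key _ hfix fun w hw hwW => d.W_inf_Fix_Y hwW hw
    · exact key _ (hsq d.Y_pow_three hfix) fun w hw hwW => d.W_inf_Fix_Y hwW hw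
    · exact key _ hfix fun w hw _ => d.X_fpf w hw
    · exact key2 _ hfix h1
    · exact key2 _ (hsq (d.pow_mul_pow_three 2) (by rw [hXY]; exact hfix)) h2
    · exact key _ (hsq d.X_pow_three hfix) fun w hw _ => d.X_fpf w hw
    · exact key2 _ hfix h2
    · refine key2 _ (hsq (by simpa using d.pow_mul_pow_three 1) ?_) h1
      rw [d.comm_XY.mul_pow]; exact hfix
  have hAN : d.A ⊓ N1 = ⊥ := by
    refine (eq_bot_iff_forall _).2 fun f hf => ?_
    obtain ⟨p, hp, rfl⟩ := hf.2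
    refine hker _ hf.1 fun w hw => ?_
    have h := congrArg Subtype.val (DFunLike.congr_fun (MonoidHom.mem_ker.1 hp) ⟨w, hw⟩)
    rw [hρval] at h
    exact h
  have hN1le : N1 ≤ d.Xs := map_subtype_le _
  have hnorm : d.Xs ≤ normalizer (N1 : Set (MulAut d.V)) := by
    refine le_trans ?_ (le_normalizer_map d.Xs.subtype)
    rw [normalizer_eq_top ρ.ker, ← MonoidHom.range_eq_map, range_subtype]
  have h3 : ¬ 3 ∣ Nat.card ↥N1 := by
    intro h
    refine d.not_dvd_Xs (dvd_trans ?_ (card_dvd_of_le (sup_le d.A_le_Xs hN1le)))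
    rw [CfsgLib.Coprime.card_sup_of_inf_eq_bot (d.A_le_Xs.trans hnorm) hAN, d.card_A]
    exact mul_dvd_mul_left 9 h
  have hcop : (Nat.card ↥d.A).Coprime (Nat.card ↥N1) := by
    rw [d.card_A, show 9 = 3 ^ 2 from rfl]
    exact Nat.Coprime.pow_left 2 ((Nat.prime_three.coprime_iff_not_dvd).2 h3)
  have hNM : N1 ≤ d.M0 := by
    have hcommA : ∀ a ∈ d.A, ∀ b ∈ d.A, a * b = b * a := by
      intro a ha b hb
      obtain ⟨i, j, rfl⟩ := d.mem_A ha
      obtain ⟨k, l, rfl⟩ := d.mem_A hb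
      exact (((Commute.refl d.X).pow_pow i k).mul_right (d.comm_XY.pow_pow i l)).mul_left
        ((d.comm_XY.symm.pow_pow j k).mul_right ((Commute.refl d.Y).pow_pow j l))
    haveI : IsMulCommutative ↥d.A := ⟨⟨fun a b => Subtype.ext (hcommA _ a.2 _ b.2)⟩⟩
    refine CfsgLib.Coprime.le_of_centralizer_le_of_not_isCyclic (A := d.A) ?_
      (d.A_le_Xs.trans hnorm) hcop ?_
    · intro hc
      obtain ⟨⟨g, hg⟩, hgen⟩ := hc.exists_generator
      have h9 := orderOf_eq_card_of_forall_mem_zpowers hgen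
      have h3' : (⟨g, hg⟩ : ↥d.A) ^ 3 = 1 := by
        obtain ⟨i, j, rfl⟩ := d.mem_A hg
        refine Subtype.ext ?_
        rw [coe_pow, coe_one, (d.comm_XY.pow_pow i j).mul_pow, ← pow_mul, ← pow_mul, mul_comm i,
          mul_comm j, pow_mul, pow_mul, d.X_pow_three, d.Y_pow_three, one_pow, one_pow, one_mul]
      have := Nat.le_of_dvd (by norm_num) (orderOf_dvd_of_pow_eq_one h3')
      rw [h9, d.card_A] at this
      norm_num at this
    · intro a ha hane f hf
      obtain ⟨i, j, rfl⟩ := d.mem_A ha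
      obtain ⟨h, rfl⟩ := (hN1le hf.1).1
      have hc : Commute (d.X ^ i * d.Y ^ j) (d.act h) :=
        (mem_centralizer_singleton_iff.1 hf.2).symm
      by_cases hj : 3 ∣ j
      · obtain ⟨m, rfl⟩ := hj
        rw [pow_mul, d.Y_pow_three, one_pow, mul_one] at hane hc
        rw [pow_eq_pow_mod i d.X_pow_three] at hane hc
        have : i % 3 = 0 ∨ i % 3 = 1 ∨ i % 3 = 2 := by omega
        refine d.act_mem_M0_of_comm ?_
        rcases this with e | e | e <;> rw [e] at hane hc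
        · exact absurd (pow_zero _) hane
        · rwa [pow_one] at hc
        · have := hc.pow_left 2
          rwa [← pow_mul, pow_eq_pow_mod (2 * 2) d.X_pow_three, pow_one] at this
      · obtain ⟨h1, h2, h3⟩ := d.pow_pow_data i hj
        refine d.mem_M0_of_comm_three (a := d.xH ^ i * d.yH ^ j) (by simpa using h1)
          (by simpa using h2) (by simpa using h3) ?_
        rw [Ctx.X, Ctx.Y, ← map_pow, ← map_pow, ← map_mul] at hc
        exact hc
  -- the kernel commutes with `X`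
  have hNX : ∀ n ∈ N1, Commute n d.X := by
    intro n hn
    have hX : d.X ∈ d.Xs := d.A_le_Xs (mem_sup_left (mem_zpowers _))
    have h4 : n * (d.X * n⁻¹ * d.X⁻¹) ∈ d.A ⊓ N1 := by
      refine ⟨?_, mul_mem hn ((mem_normalizer_iff.1 (hnorm hX) _).1 (inv_mem hn))⟩
      refine mem_sup_left ?_
      rw [show n * (d.X * n⁻¹ * d.X⁻¹) = n * d.X * n⁻¹ * d.X⁻¹ by group]
      refine mul_mem ?_ (inv_mem (mem_zpowers _))
      rcases d.mem_M0_iff.1 (hNM hn) with e | e <;> rw [e]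
      · exact mem_zpowers _
      · exact inv_mem (mem_zpowers _)
    rw [hAN, mem_bot] at h4
    exact mul_inv_eq_iff_eq_mul.1 (mul_inv_eq_one.1 (by rw [← h4]; group))
  intro f hf
  set xs : ↥d.Xs := ⟨d.X, d.A_le_Xs (mem_sup_left (mem_zpowers _))⟩ with hxs
  set ys : ↥d.Xs := ⟨d.Y, d.A_le_Xs (mem_sup_right (mem_zpowers _))⟩ with hys
  have hN1mem : ∀ p : ↥d.Xs, ρ p = 1 → (p : MulAut d.V) ∈ N1 := fun p hp =>
    mem_map_of_mem _ (MonoidHom.mem_ker.2 hp)
  obtain ⟨g, rfl⟩ : ∃ g : ↥d.Xs, (g : MulAut d.V) = f := ⟨⟨f, hf⟩, rfl⟩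
  have hX2 : ∀ p : ↥d.Xs, (p : MulAut d.V) * d.X * (p : MulAut d.V)⁻¹ = d.X ∨
      (p : MulAut d.V) * d.X * (p : MulAut d.V)⁻¹ = d.X⁻¹ →
      ρ (p * xs * p⁻¹) = ρ xs ∨ ρ (p * xs * p⁻¹) = (ρ xs) ^ 2 := by
    rintro p (e | e)
    · exact Or.inl (congrArg ρ (Subtype.ext e))
    · refine Or.inr ?_
      rw [← map_pow]
      exact congrArg ρ (Subtype.ext (e.trans d.Xinv_eq))
  have hxs3 : (ρ xs) ^ 3 = 1 := by
    rw [← map_pow, show xs ^ 3 = 1 from Subtype.ext d.X_pow_three, map_one]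
  have hys3 : (ρ ys) ^ 3 = 1 := by
    rw [← map_pow, show ys ^ 3 = 1 from Subtype.ext d.Y_pow_three, map_one]
  have hne_of : ∀ p : ↥d.Xs, (p : MulAut d.V) ∈ d.A → (p : MulAut d.V) ≠ 1 → ρ p ≠ 1 :=
    fun p hp hne h => hne (hker _ hp fun w hw => by
      have h' := congrArg Subtype.val (DFunLike.congr_fun h ⟨w, hw⟩)
      rw [hρval] at h'
      exact h')
  have hAxy : ∀ n : ℕ, d.X ^ n * d.Y ∈ d.A ∧ d.X ^ n * d.Y ≠ 1 := fun n =>
    ⟨mul_mem (pow_mem (mem_sup_left (mem_zpowers _)) _) (mem_sup_right (mem_zpowers _)),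
      fun h => d.Y_notMem (by
        rw [eq_inv_of_mul_eq_one_right h]; exact inv_mem (pow_mem (mem_zpowers _) _))⟩
  have hiso := isolated (V := ↥d.W) hW16 d.W_sq ρ (x := xs) (y := ys) hxs3
    (fun w h => Subtype.ext (d.X_fpf _ (congrArg Subtype.val h))) hys3
    (fun w h => Subtype.ext (d.W_inf_Fix_Y w.2 (congrArg Subtype.val h)))
    (Commute.map (show Commute xs ys from Subtype.ext d.comm_XY.eq) ρ)
    (fun h => hne_of (xs ^ 2 * ys) (hAxy 2).1 (hAxy 2).2 (by
      rw [map_mul, map_pow, h, ← pow_succ]; exact hxs3))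
    (fun h => hne_of (xs ^ 1 * ys) (hAxy 1).1 (hAxy 1).2 (by
      rw [map_mul, map_pow, h, pow_one, ← pow_succ']; exact hxs3))
    ?_ ?_ g
  · -- conclusion
    rw [d.mem_M0_iff]
    rcases hiso with e | e
    · left
      rw [← inv_mul_eq_one, ← map_inv, ← map_mul] at e
      have hn := hN1mem _ e
      have hc := hNX _ hn
      set n : MulAut d.V := ((((g * xs * g⁻¹)⁻¹ * xs) : ↥d.Xs) : MulAut d.V) with hndef
      have hv : (g : MulAut d.V) * d.X * (g : MulAut d.V)⁻¹ = d.X * n⁻¹ := by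
        simp only [hndef, hxs, coe_mul, coe_inv]; group
      have h3n : n⁻¹ ^ 3 = 1 := by
        have h5 := congrArg (· ^ 3) hv
        simp only [conj_pow, d.X_pow_three, mul_one, mul_inv_cancel,
          hc.inv_left.symm.mul_pow, one_mul] at h5
        exact h5.symm
      rw [hv, eq_one_of_cube h3 (inv_mem hn) h3n, mul_one]
    · right
      rw [← map_pow, ← inv_mul_eq_one, ← map_inv, ← map_mul] at e
      have hn := hN1mem _ e
      have hc := hNX _ hn
      set n : MulAut d.V := ((((g * xs * g⁻¹)⁻¹ * xs ^ 2) : ↥d.Xs) : MulAut d.V) with hndef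
      have hv : (g : MulAut d.V) * d.X * (g : MulAut d.V)⁻¹ = d.X ^ 2 * n⁻¹ := by
        simp only [hndef, hxs, coe_mul, coe_inv, coe_pow]; group
      have h3n : n⁻¹ ^ 3 = 1 := by
        have h5 := congrArg (· ^ 3) hv
        simp only [conj_pow, d.X_pow_three, mul_one, mul_inv_cancel,
          (hc.inv_left.symm.pow_left 2).mul_pow, ← pow_mul] at h5
        rw [show (2 * 3) = 3 * 2 from rfl, pow_mul, d.X_pow_three, one_pow, one_mul] at h5
        exact h5.symm
      rw [hv, eq_one_of_cube h3 (inv_mem hn) h3n, mul_one, d.Xinv_eq]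
  · -- isolation
    intro p hp
    refine hX2 p ?_
    set X' : MulAut d.V := (p : MulAut d.V) * d.X * (p : MulAut d.V)⁻¹ with hX'
    set n : MulAut d.V := ((xs * (p * xs * p⁻¹) * xs⁻¹ * (p * xs * p⁻¹)⁻¹ : ↥d.Xs) : MulAut d.V)
      with hndef
    have hn : n ∈ N1 := hN1mem _ (by
      rw [map_mul, map_mul, map_mul, map_inv, map_inv, hp.eq]; group)
    have hv : X' * d.X * X'⁻¹ = n⁻¹ * d.X := by
      simp only [hndef, hxs, hX', coe_mul, coe_inv]; group
    have h3n : n⁻¹ ^ 3 = 1 := by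
      have h5 := congrArg (· ^ 3) hv
      simp only [conj_pow, d.X_pow_three, mul_one, mul_inv_cancel,
        (hNX _ hn).inv_left.mul_pow] at h5
      exact h5.symm
    rw [eq_one_of_cube h3 (inv_mem hn) h3n, one_mul] at hv
    obtain ⟨k, hk⟩ := p.2.1
    have hXk : X' = d.act (k * d.xH * k⁻¹) := by rw [hX', ← hk, map_mul, map_mul, map_inv]; rfl
    have hcomm : Commute d.X X' := (mul_inv_eq_iff_eq_mul.1 hv).symm
    obtain ⟨c, hc, hce⟩ := d.exists_mem_C_of_comm (h := k * d.xH * k⁻¹) (hXk ▸ hcomm)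
    rw [← hXk] at hce
    have hX3 : X' ^ 3 = 1 := by rw [hX', conj_pow, d.X_pow_three, mul_one, mul_inv_cancel]
    have hc3Q : ((c ^ 3 : ↥d.H) : G) ∈ d.Q := d.act_eq_one_iff.1 (by rw [map_pow, hce, hX3])
    have hc4 : d.act (c ^ 4) = X' := by rw [map_pow, hce, pow_succ, hX3, one_mul]
    have hc3z : ((c : G) ^ 3) ∈ zpowers d.z := d.Q_inf_C ▸ ⟨by simpa using hc3Q, pow_mem hc 3⟩
    have h12 : ((c ^ 4 : ↥d.H) : G) ^ 3 = 1 := by
      rw [coe_pow, ← pow_mul, show 4 * 3 = 3 * 4 from rfl, pow_mul]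
      rcases d.mem_zpowers_z.1 hc3z with e | e <;> rw [e]
      · exact one_pow _
      · rw [show 4 = 2 * 2 from rfl, pow_mul, show d.z ^ 2 = 1 from (sq _).trans d.z_sq, one_pow]
    by_cases hm : ((c ^ 4 : ↥d.H) : G) ∈ zpowers d.x
    · obtain ⟨i, hi⟩ := mem_zpowers_iff.1 hm
      have hmem : X' ∈ zpowers d.X := ⟨i, by
        show d.X ^ i = X'
        rw [← hc4, Ctx.X, ← map_zpow]
        exact congrArg _ (Subtype.ext (by simpa using hi))⟩
      rcases d.mem_zpowers_X.1 hmem with e | e | e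
      · exact absurd (conj_eq_one_iff.1 e) d.X_ne_one
      · exact Or.inl e
      · exact Or.inr e
    · exfalso
      have h5 := d.card_Fix_three (a := c ^ 4) (by simpa using pow_mem hc 4)
        (orderOf_eq_prime h12 fun h => hm (h ▸ one_mem _)) hm
      rw [hc4, hX', d.card_Fix_conj, d.card_Fix_X] at h5
      norm_num at h5
  · -- the centraliser of `Y` on the commutator space
    intro p hp
    refine hX2 p ?_
    have hYX : d.Y ∈ d.Xs := ys.2
    have hYn : zpowers d.Y ≤ normalizer (N1 : Set (MulAut d.V)) := zpowers_le.2 (hnorm hYX)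
    obtain ⟨q, hq, hqn⟩ := CfsgLib.Coprime.exists_centralizing_in_coset (A := zpowers d.Y) (N := N1)
      (k := (p : MulAut d.V)) hYn
      (Nat.Coprime.coprime_dvd_left (card_dvd_of_le (le_sup_right : zpowers d.Y ≤ d.A)) hcop)
      (Or.inl inferInstance) (by
        intro a ha
        obtain ⟨n, rfl⟩ := ha
        refine hN1mem (p⁻¹ * (ys ^ n * p * (ys ^ n)⁻¹)) ?_
        simp only [map_mul, map_inv, map_zpow]
        rw [← (hp.zpow_right n).eq, mul_inv_cancel_right, inv_mul_cancel])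
    obtain ⟨k, hk⟩ : q ∈ d.act.range := by
      have h6 : q ∈ d.Xs := by
        have := mul_mem p.2 (hN1le hqn)
        rwa [mul_inv_cancel_left] at this
      exact h6.1
    have hqM : q ∈ d.M0 := by
      rw [← hk]
      refine d.mem_M0_of_comm_three (a := d.yH) d.hy d.hy3 d.hyx ?_
      rw [hk]
      exact (mem_centralizer_iff.1 hq) _ (mem_zpowers _)
    have hpM : (p : MulAut d.V) ∈ d.M0 := by
      have := mul_mem hqM (inv_mem (hNM hqn))
      rwa [mul_inv_rev, inv_inv, mul_inv_cancel_left] at this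
    exact d.mem_M0_iff.1 hpM

end Ctx

end CfsgLib.Spor.JankoFourChar2
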