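import Cfsg.Agent.Lib.Spor.McLInvol.M22
import Cfsg.Agent.Lib.Spor.MathieuDegreeBound
import Cfsg.Agent.Lib.Spor.JankoFour.ThreeLocalCert

/-!
The centraliser of an involution of `M22` with its largest normal two-subgroup of order 64, and the
bound on the subgroups of odd order of `M22`.
-/

set_option autoImplicit false
set_option maxRecDepth 100000
set_option linter.style.haveILetI false

namespace CfsgLib.Spor.JankoFourChar2

open Cfsg CfsgLib.Spor CfsgLib.MathieuOut
open scoped Pointwise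
open CfsgLib.Spor.McLInvol (mCode mCode_inj compP_mCode mCode_one exists_mCode okCode cz sylEls)

attribute [local irreducible] compP packL normP

/-- the code of the identity -/
def onePC : ℕ := packL (List.range 24)

/-- an element of order three commuting with the involution -/
def cwCode : ℕ := 956820589115844507477188893951134112

/-- a two-element inverting it -/
def cgCode : ℕ := 983553042649537266979977019204733184

/-- the largest normal two-subgroup of the centraliser -/
def uEls : List ℕ := [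
  984818244535754528103549039458486304, 983559493361839570066624664967418912, 984806227379088838201018984694921248,
  983540135237665879549348711827096608, 974338656214362718975024378963690560, 983556734225721270408659688667254880,
  984810545863915030200161621005872224, 983541033092477334639642879912365152, 984794871716320323419113380006383712,
  980635116092604026358934254788873344, 982062253446977559283173177126401184, 967740442038070316078047040301863168,
  976541793272145524224165256002710784, 966316884125651324823030022216880416, 972585098812262587711849628614283552,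
  978288180344178655415768347585978720, 976539006901119804582877792120867232, 967732770601138460095365148658898336,
  958157650582824167042245626756192704, 972608035865708950995068739041659392, 966299849372061425927814308339959296,
  969868602686873633068742715037598240, 960666252078690145234912720196163168, 962320813022503292100522067620308608,
  959343326376155661073924564280087200, 959331455310918617637209142647803552, 956824702826004317775029190041176768,
  956808910070693464114942713217596096, 980640926248002075592112268430685248, 974354924177718639376384898240684160,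
  978282342953872779974593552529589408, 972606873324069660266858221833557280, 966308590582614138204344209238407456,
  982045958248714403185781424872656224, 960660375112988823536816486460532160, 966313107132022750653115527930883584,
  972588611118836511960222069831290368, 962335813335260127790470774733297184, 958142623035159873971084226343682656,
  969874452417667350244023627681421952, 956820953066829646206050076978779808, 956805370529212230203420958276667040,
  959342191068970862954211818923011776, 959322686865458153119800541081948864, 974336661780504757971548251681347648,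
  980630467585422634163083513467851904, 982037836775830376910252337998963872, 967720767226109242815655424065714432,
  976519634995310010377651987885245696, 978262971442166900185566151043105120, 976531017892532980730453128571538848,
  967719842136843848086823638903574944, 958162153002203800911481213076211136, 969892516750752144528514641187971616,
  960668338130988135990259037416918624, 962346470062421989669128212077655680, 980618081724428894460204924049440832,
  974328197597494611461899790684595328, 978271462859631097014213372839056544, 982050249871278461503565319692802400,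
  960683326103029910158377568892985792, 962331509324834118210031452784559648, 958169297618277724934631798251927136,
  969885399369132713005775436903911040]

/-- two elements and their commutators with the element of order three -/
def uPair : ℕ × ℕ × ℕ × ℕ := (983559493361839570066624664967418912, 983541033092477334639642879912365152, 974338656214362718975024378963690560, 967732770601138460095365148658898336)

/-- the checks on the data -/
def frameCheck : Bool :=
  okCode cwCode && okCode cgCode && uEls.all okCode && Nat.beq uEls.length 64 &&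
  McLInvol.distinctB uEls && uEls.any (Nat.beq onePC) &&
  (uEls.all fun a => uEls.all fun b => uEls.any (Nat.beq (compP a b))) &&
  (uEls.all fun a => Nat.beq (compP a cz) (compP cz a) && sylEls.any (Nat.beq a)) &&
  Nat.beq (compP cwCode cz) (compP cz cwCode) && Nat.beq (compP cgCode cz) (compP cz cgCode) &&
  !(Nat.beq cwCode onePC) && Nat.beq (compP cwCode (compP cwCode cwCode)) onePC &&
  sylEls.any (Nat.beq cgCode) && !(uEls.any (Nat.beq cgCode)) &&
  Nat.beq (compP cgCode cwCode) (compP (compP cwCode cwCode) cgCode) &&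
  (uEls.all fun a => uEls.any fun b => Nat.beq (compP cwCode a) (compP b cwCode)) &&
  (uEls.all fun a => uEls.any fun b => Nat.beq (compP cgCode a) (compP b cgCode)) &&
  Nat.beq (uEls.filter fun a => Nat.beq (compP a cwCode) (compP cwCode a)).length 4 &&
  uEls.any (Nat.beq uPair.1) && uEls.any (Nat.beq uPair.2.1) &&
  uEls.any (Nat.beq uPair.2.2.1) && uEls.any (Nat.beq uPair.2.2.2) &&
  Nat.beq (compP uPair.2.1 (compP cwCode uPair.1)) (compP uPair.1 cwCode) &&
  Nat.beq (compP uPair.2.2.2 (compP cwCode uPair.2.2.1)) (compP uPair.2.2.1 cwCode) &&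
  !(Nat.beq (compP uPair.2.1 uPair.2.2.2) (compP uPair.2.2.2 uPair.2.1))

theorem frameCheck_ok : frameCheck = true := by decide +kernel

theorem pow_mem_of_mul_closed {S : Set ↥Spor.M22} (h1 : (1 : ↥Spor.M22) ∈ S)
    (hm : ∀ a ∈ S, ∀ b ∈ S, a * b ∈ S) {a : ↥Spor.M22} (ha : a ∈ S) : ∀ n : ℕ, a ^ n ∈ S := by
  intro n
  induction n with
  | zero => rw [pow_zero]; exact h1
  | succ n ih => rw [pow_succ]; exact hm _ ih _ ha

/-- the frame in the centraliser of an involution containing a given element of order three -/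
structure Frame (t w : ↥Spor.M22) : Type where
  /-- the largest normal two-subgroup of the centraliser -/
  U : Subgroup ↥Spor.M22
  /-- an element inverting the element of order three -/
  g : ↥Spor.M22
  le : U ≤ Subgroup.centralizer ({t} : Set ↥Spor.M22)
  normal : Subgroup.centralizer ({t} : Set ↥Spor.M22) ≤ Subgroup.normalizer (U : Set ↥Spor.M22)
  card_U : Nat.card ↥U = 64
  g_comm : g * t = t * g
  g_inv : g * w * g⁻¹ = w⁻¹
  fixed : Nat.card ↥(U ⊓ Subgroup.centralizer ({w} : Set ↥Spor.M22)) = 4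
  pair : ∃ u₁ ∈ U, ∃ u₂ ∈ U, u₁ * w * u₁⁻¹ * w⁻¹ * (u₂ * w * u₂⁻¹ * w⁻¹) ≠
    u₂ * w * u₂⁻¹ * w⁻¹ * (u₁ * w * u₁⁻¹ * w⁻¹)
  two_le : ∀ R : Subgroup ↥Spor.M22, R ≤ Subgroup.centralizer ({t} : Set ↥Spor.M22) →
    Subgroup.centralizer ({t} : Set ↥Spor.M22) ≤ Subgroup.normalizer (R : Set ↥Spor.M22) →
    IsPGroup 2 ↥R → R ≤ U
  conj : ∀ h ∈ Subgroup.centralizer ({t} : Set ↥Spor.M22),
    ∃ u ∈ U, h * w * h⁻¹ = u * w ∨ h * w * h⁻¹ = u * w⁻¹

theorem exists_codes : ∃ z w g : ↥Spor.M22, mCode z = cz ∧ mCode w = cwCode ∧ mCode g = cgCode := by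
  have h := frameCheck_ok
  simp only [frameCheck, Bool.and_eq_true] at h
  obtain ⟨⟨⟨⟨⟨⟨⟨⟨⟨⟨⟨⟨⟨⟨⟨⟨⟨⟨⟨⟨⟨⟨⟨⟨hw, hg⟩, -⟩, -⟩, -⟩, -⟩, -⟩, -⟩, -⟩, -⟩, -⟩, -⟩, -⟩, -⟩, -⟩, -⟩, -⟩, -⟩, -⟩, -⟩, -⟩, -⟩, -⟩, -⟩, -⟩ := h
  obtain ⟨z, hz⟩ := exists_mCode McLInvol.codes_ok.1
  obtain ⟨w, hw'⟩ := exists_mCode hw
  obtain ⟨g, hg'⟩ := exists_mCode hg
  exact ⟨z, w, g, hz, hw', hg'⟩

theorem frame_of_codes {z w g : ↥Spor.M22} (hz : mCode z = cz) (hw : mCode w = cwCode)
    (hg : mCode g = cgCode) :
    orderOf w = 3 ∧ Nat.card ↥(Subgroup.centralizer ({z} : Set ↥Spor.M22)) = 384 ∧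
      Nonempty (Frame z w) := by
  classical
  haveI : Fact (Nat.Prime 3) := ⟨Nat.prime_three⟩
  haveI : Fact (Nat.Prime 2) := ⟨Nat.prime_two⟩
  have h := frameCheck_ok
  simp only [frameCheck, Bool.and_eq_true, List.all_eq_true, List.any_eq_true, Nat.beq_eq,
    Bool.not_eq_true'] at h
  obtain ⟨⟨⟨⟨⟨⟨⟨⟨⟨⟨⟨⟨⟨⟨⟨⟨⟨⟨⟨⟨⟨⟨⟨⟨-, -⟩, hok⟩, hlen⟩, hnd⟩, h1⟩, hmul⟩, hUc⟩, hwc⟩, hgc⟩, hw1⟩, hw3⟩, hgS⟩, hgU⟩, hgw⟩, hwU⟩, hgnU⟩, hfix⟩, hu1⟩, hd1⟩, hu2⟩, hd2⟩, he1⟩, he2⟩, hne⟩ := h
  have hone : mCode (1 : ↥Spor.M22) = onePC := mCode_one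
  have hmem1 : mCode (1 : ↥Spor.M22) ∈ uEls := by
    obtain ⟨a, ha, e⟩ := h1; rw [hone, e]; exact ha
  have hclosed : ∀ a ∈ {σ : ↥Spor.M22 | mCode σ ∈ uEls}, ∀ b ∈ {σ : ↥Spor.M22 | mCode σ ∈ uEls},
      a * b ∈ {σ : ↥Spor.M22 | mCode σ ∈ uEls} := by
    intro a ha b hb
    obtain ⟨c, hc, e⟩ := hmul _ ha _ hb
    rw [compP_mCode] at e
    show mCode (a * b) ∈ uEls
    rw [e]; exact hc
  let U : Subgroup ↥Spor.M22 :=
    { carrier := {σ | mCode σ ∈ uEls}
      one_mem' := hmem1
      mul_mem' := fun {a b} ha hb => hclosed a ha b hb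
      inv_mem' := fun {a} ha => by
        show a⁻¹ ∈ {σ : ↥Spor.M22 | mCode σ ∈ uEls}
        rw [show a⁻¹ = a ^ (orderOf a - 1) from inv_eq_of_mul_eq_one_right (by
          rw [← pow_succ', Nat.sub_add_cancel (orderOf_pos a), pow_orderOf_eq_one])]
        exact pow_mem_of_mul_closed hmem1 hclosed ha _ }
  have hcard : ∀ (l : List ℕ) (hl : l.Nodup) (hlo : ∀ a ∈ l, okCode a = true) (K : Subgroup ↥Spor.M22),
      (∀ σ, σ ∈ K ↔ mCode σ ∈ l) → Nat.card ↥K = l.length := by
    intro l hl hlo K hK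
    have hb : Function.Bijective fun σ : K =>
        (⟨mCode σ.1, List.mem_toFinset.2 ((hK _).1 σ.2)⟩ : l.toFinset) := by
      refine ⟨fun σ τ e => Subtype.ext (mCode_inj (congrArg Subtype.val e)), ?_⟩
      rintro ⟨a, ha⟩
      obtain ⟨σ, rfl⟩ := exists_mCode (hlo _ (List.mem_toFinset.1 ha))
      exact ⟨⟨σ, (hK _).2 (List.mem_toFinset.1 ha)⟩, rfl⟩
    rw [Nat.card_congr (Equiv.ofBijective _ hb), Nat.card_eq_fintype_card, Fintype.card_coe,
      List.toFinset_card_of_nodup hl]
  have hndU : uEls.Nodup := McLInvol.nodup_of_distinctB hnd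
  have cU : Nat.card ↥U = 64 := (hcard _ hndU hok U fun σ => Iff.rfl).trans hlen
  have hcomm : ∀ {a b : ↥Spor.M22}, compP (mCode a) (mCode b) = compP (mCode b) (mCode a) →
      a * b = b * a := fun {a b} e => mCode_inj (by rw [← compP_mCode, ← compP_mCode, e])
  have hUle : U ≤ Subgroup.centralizer ({z} : Set ↥Spor.M22) := fun σ hσ =>
    Subgroup.mem_centralizer_singleton_iff.2 (hcomm (by rw [hz]; exact (hUc _ hσ).1))
  have hwC : w * z = z * w := hcomm (by rw [hw, hz]; exact hwc)
  have hgC : g * z = z * g := hcomm (by rw [hg, hz]; exact hgc)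
  have ow : orderOf w = 3 := by
    refine orderOf_eq_prime (mCode_inj ?_) fun e => ?_
    · rw [pow_succ, pow_succ, pow_one, mul_assoc, ← compP_mCode, ← compP_mCode, hw, hw3, hone]
    · rw [e, hone] at hw
      simp [← hw] at hw1
  have hgmem : g ∈ McLInvol.sylM := by
    obtain ⟨a, ha, e⟩ := hgS
    rw [McLInvol.mem_sylM, hg, e]; exact ha
  have hgnot : g ∉ U := fun hm => by
    have h0 : (mCode g).beq cgCode = true := by rw [hg]; simp
    simpa [h0, hg] using List.any_eq_false.1 hgU (mCode g) hm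
  have hUS : U ≤ McLInvol.sylM := fun σ hσ => by
    obtain ⟨a, ha, e⟩ := (hUc _ hσ).2
    rw [McLInvol.mem_sylM, e]; exact ha
  have hgo : ∃ k, orderOf g = 2 ^ k := by
    have hd : orderOf g ∣ 2 ^ 7 := by
      have := Subgroup.orderOf_dvd_natCard McLInvol.sylM hgmem
      rwa [McLInvol.card_sylM] at this
    obtain ⟨k, -, hk⟩ := (Nat.dvd_prime_pow Nat.prime_two).1 hd
    exact ⟨k, hk⟩
  have ginv : g * w * g⁻¹ = w⁻¹ := by
    have e : g * w = w * w * g := mCode_inj (by
      rw [← compP_mCode, ← compP_mCode, ← compP_mCode, hg, hw, hgw])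
    rw [e, mul_inv_cancel_right, eq_inv_iff_mul_eq_one, ← pow_two, ← pow_succ]
    rw [show 2 + 1 = orderOf w from ow.symm]
    exact pow_orderOf_eq_one w
  have big : ∀ K : Subgroup ↥Spor.M22, U ≤ K → w ∈ K → g ∈ K → 384 ∣ Nat.card ↥K := by
    intro K hUK hwK hgK
    have h128 : 128 ∣ Nat.card ↥K := by
      have hle : U ⊔ Subgroup.zpowers g ≤ McLInvol.sylM := sup_le hUS (Subgroup.zpowers_le.2 hgmem)
      have hd : Nat.card ↥(U ⊔ Subgroup.zpowers g) ∣ 2 ^ 7 := by
        have := Subgroup.card_dvd_of_le hle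
        rwa [McLInvol.card_sylM] at this
      obtain ⟨k, hk, hk'⟩ := (Nat.dvd_prime_pow Nat.prime_two).1 hd
      have hlt : 64 < Nat.card ↥(U ⊔ Subgroup.zpowers g) := by
        rw [← cU]
        refine lt_of_le_of_ne (Subgroup.card_le_of_le le_sup_left) fun e => hgnot ?_
        rw [Subgroup.eq_of_le_of_card_ge (le_sup_left : U ≤ U ⊔ Subgroup.zpowers g) e.ge]
        exact le_sup_right (α := Subgroup ↥Spor.M22) (Subgroup.mem_zpowers g)
      have h7 : k = 7 := by
        by_contra hne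
        rw [hk'] at hlt
        have := Nat.pow_le_pow_right (show 0 < 2 by norm_num) (show k ≤ 6 by omega)
        omega
      rw [h7] at hk'
      have := Subgroup.card_dvd_of_le (sup_le hUK (Subgroup.zpowers_le.2 hgK))
      rw [hk'] at this
      exact this
    have h3 : 3 ∣ Nat.card ↥K := ow ▸ Subgroup.orderOf_dvd_natCard K hwK
    exact Nat.Coprime.mul_dvd_of_dvd_of_dvd (by norm_num) h128 h3
  have hC : Nat.card ↥(Subgroup.centralizer ({z} : Set ↥Spor.M22)) = 384 :=
    le_antisymm (McLInvol.card_centralizer_le hz) (Nat.le_of_dvd Nat.card_pos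
      (big _ hUle (Subgroup.mem_centralizer_singleton_iff.2 hwC)
        (Subgroup.mem_centralizer_singleton_iff.2 hgC)))
  have whole : ∀ K : Subgroup ↥Spor.M22, U ≤ K → w ∈ K → g ∈ K →
      Subgroup.centralizer ({z} : Set ↥Spor.M22) ≤ K := by
    intro K hUK hwK hgK
    have hd := big (K ⊓ Subgroup.centralizer ({z} : Set ↥Spor.M22)) (le_inf hUK hUle)
      ⟨hwK, Subgroup.mem_centralizer_singleton_iff.2 hwC⟩
      ⟨hgK, Subgroup.mem_centralizer_singleton_iff.2 hgC⟩
    have he := Subgroup.eq_of_le_of_card_ge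
      (inf_le_right : K ⊓ Subgroup.centralizer ({z} : Set ↥Spor.M22) ≤ _)
      (by rw [hC]; exact Nat.le_of_dvd Nat.card_pos hd)
    exact inf_eq_right.1 he
  have norm_of : ∀ (c : ↥Spor.M22) (cc : ℕ), mCode c = cc →
      (∀ a ∈ uEls, ∃ b ∈ uEls, compP cc a = compP b cc) →
      c ∈ Subgroup.normalizer (U : Set ↥Spor.M22) := by
    intro c cc hc hall
    have hsub : ∀ a ∈ U, c * a * c⁻¹ ∈ U := by
      intro a ha
      obtain ⟨b, hb, e⟩ := hall _ ha
      obtain ⟨β, hβ⟩ := exists_mCode (hok _ hb)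
      have e' : c * a = β * c := mCode_inj (by rw [← compP_mCode, ← compP_mCode, hc, hβ, e])
      rw [e', mul_inv_cancel_right]
      show mCode β ∈ uEls
      rw [hβ]; exact hb
    rw [Subgroup.mem_normalizer_iff]
    refine fun a => ⟨hsub a, fun ha => ?_⟩
    have hfin : Function.Surjective fun x : ↥U => (⟨c * x * c⁻¹, hsub x x.2⟩ : ↥U) :=
      Finite.injective_iff_surjective.1 fun x y e => Subtype.ext (by
        simpa using congrArg Subtype.val e)
    obtain ⟨x, hx⟩ := hfin ⟨_, ha⟩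
    have : (x : ↥Spor.M22) = a := by simpa using congrArg Subtype.val hx
    exact this ▸ x.2
  have hnU : Subgroup.centralizer ({z} : Set ↥Spor.M22) ≤ Subgroup.normalizer (U : Set ↥Spor.M22) :=
    whole _ Subgroup.le_normalizer (norm_of w _ hw hwU) (norm_of g _ hg hgnU)
  have hnK : Subgroup.centralizer ({z} : Set ↥Spor.M22) ≤
      Subgroup.normalizer ((U ⊔ Subgroup.zpowers w : Subgroup ↥Spor.M22) : Set ↥Spor.M22) := by
    refine whole _ (le_sup_left.trans Subgroup.le_normalizer)
      (Subgroup.le_normalizer (le_sup_right (α := Subgroup ↥Spor.M22) (Subgroup.mem_zpowers w))) ?_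
    rw [Subgroup.mem_normalizer_iff_map_conj_eq, Subgroup.map_sup,
      Subgroup.mem_normalizer_iff_map_conj_eq.1 (norm_of g _ hg hgnU), MonoidHom.map_zpowers]
    show U ⊔ Subgroup.zpowers (g * w * g⁻¹) = _
    rw [ginv, Subgroup.zpowers_inv]
  have hU2 : IsPGroup 2 ↥U := IsPGroup.of_card (n := 6) (cU.trans (by norm_num))
  have d384 : ∀ K : Subgroup ↥Spor.M22, K ≤ Subgroup.centralizer ({z} : Set ↥Spor.M22) →
      IsPGroup 2 ↥K → Nat.card ↥K ∣ 128 := by
    intro K hK hp
    obtain ⟨k, hk⟩ := IsPGroup.iff_card.1 hp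
    have h2 : 2 ^ k ∣ 384 := by rw [← hk, ← hC]; exact Subgroup.card_dvd_of_le hK
    rw [hk, show (128 : ℕ) = 2 ^ 7 by norm_num]
    refine pow_dvd_pow 2 ?_
    by_contra hlt
    have := (pow_dvd_pow 2 (show 8 ≤ k by omega)).trans h2
    norm_num at this
  refine ⟨ow, hC, ⟨⟨U, g, hUle, hnU, cU, hgC, ginv, ?_, ?_, ?_, ?_⟩⟩⟩
  · rw [hcard _ (hndU.filter (p := fun a => Nat.beq (compP a cwCode) (compP cwCode a)))
      (fun a ha => hok a (List.mem_of_mem_filter ha)) _ fun σ => ?_, hfix]
    rw [Subgroup.mem_inf, Subgroup.mem_centralizer_singleton_iff, List.mem_filter, Nat.beq_eq,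
      ← hw, compP_mCode, compP_mCode]
    exact and_congr Iff.rfl ⟨congrArg mCode, fun e => mCode_inj e⟩
  · obtain ⟨a, ha, ea⟩ := hu1
    obtain ⟨c, hc, ec⟩ := hd1
    obtain ⟨b, hb, eb⟩ := hu2
    obtain ⟨d, hd, ed⟩ := hd2
    obtain ⟨u₁, hu₁⟩ := exists_mCode (hok _ ha)
    obtain ⟨u₂, hu₂⟩ := exists_mCode (hok _ hb)
    obtain ⟨v₁, hv₁⟩ := exists_mCode (hok _ hc)
    obtain ⟨v₂, hv₂⟩ := exists_mCode (hok _ hd)
    have e1 : v₁ * (w * u₁) = u₁ * w := mCode_inj (by
      rw [← compP_mCode, ← compP_mCode, ← compP_mCode, hv₁, hu₁, hw, ← ec, ← ea, he1])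
    have e2 : v₂ * (w * u₂) = u₂ * w := mCode_inj (by
      rw [← compP_mCode, ← compP_mCode, ← compP_mCode, hv₂, hu₂, hw, ← ed, ← eb, he2])
    refine ⟨u₁, by show mCode u₁ ∈ uEls; rw [hu₁]; exact ha, u₂,
      by show mCode u₂ ∈ uEls; rw [hu₂]; exact hb, ?_⟩
    rw [← e1, ← e2]
    intro e
    have e' : v₁ * v₂ = v₂ * v₁ := by
      calc v₁ * v₂ = v₁ * (w * u₁) * u₁⁻¹ * w⁻¹ * (v₂ * (w * u₂) * u₂⁻¹ * w⁻¹) := by group
        _ = _ := e
        _ = v₂ * v₁ := by group
    have e'' := congrArg mCode e'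
    rw [← compP_mCode, ← compP_mCode, hv₁, hv₂, ← ec, ← ed] at e''
    simp [e''] at hne
  · intro R hR hRn hR2
    by_contra hnot
    have hT2 : IsPGroup 2 ↥(R ⊔ U) := IsPGroup.to_sup_of_normal_left' hR2 hU2 (hUle.trans hRn)
    have hTle : R ⊔ U ≤ Subgroup.centralizer ({z} : Set ↥Spor.M22) := sup_le hR hUle
    have hTn : Subgroup.centralizer ({z} : Set ↥Spor.M22) ≤
        Subgroup.normalizer ((R ⊔ U : Subgroup ↥Spor.M22) : Set ↥Spor.M22) := fun c hc => by
      rw [Subgroup.mem_normalizer_iff_map_conj_eq, Subgroup.map_sup,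
        Subgroup.mem_normalizer_iff_map_conj_eq.1 (hRn hc),
        Subgroup.mem_normalizer_iff_map_conj_eq.1 (hnU hc)]
    have hgz2 : IsPGroup 2 ↥(Subgroup.zpowers g) := by
      obtain ⟨k, hk⟩ := hgo
      exact IsPGroup.of_card (n := k) (by rw [Nat.card_zpowers, hk])
    have hgC' : g ∈ Subgroup.centralizer ({z} : Set ↥Spor.M22) :=
      Subgroup.mem_centralizer_singleton_iff.2 hgC
    have hT' : IsPGroup 2 ↥((R ⊔ U) ⊔ Subgroup.zpowers g) :=
      IsPGroup.to_sup_of_normal_left' hT2 hgz2 (Subgroup.zpowers_le.2 (hTn hgC'))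
    have h1 := d384 _ hTle hT2
    have hlt : 64 < Nat.card ↥(R ⊔ U) := by
      rw [← cU]
      refine lt_of_le_of_ne (Subgroup.card_le_of_le le_sup_right) fun e => hnot ?_
      rw [Subgroup.eq_of_le_of_card_ge (le_sup_right : U ≤ R ⊔ U) e.ge]
      exact le_sup_left
    have h128 : Nat.card ↥(R ⊔ U) = 128 := by
      obtain ⟨k, hk, hk'⟩ := (Nat.dvd_prime_pow Nat.prime_two).1
        (show Nat.card ↥(R ⊔ U) ∣ 2 ^ 7 from h1)
      have : ¬ k ≤ 6 := fun h6 => by
        have := Nat.pow_le_pow_right (show 0 < 2 by norm_num) h6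
        omega
      rw [hk', show k = 7 by omega]; norm_num
    have hgT : g ∈ R ⊔ U := by
      rw [Subgroup.eq_of_le_of_card_ge (le_sup_left : R ⊔ U ≤ (R ⊔ U) ⊔ Subgroup.zpowers g)
        (h128 ▸ Nat.le_of_dvd (by norm_num)
          (d384 _ (sup_le hTle (Subgroup.zpowers_le.2 hgC')) hT'))]
      exact le_sup_right (α := Subgroup ↥Spor.M22) (Subgroup.mem_zpowers g)
    have hm : w * g * w⁻¹ * g⁻¹ ∈ R ⊔ U := mul_mem
      ((Subgroup.mem_normalizer_iff.1 (hTn (Subgroup.mem_centralizer_singleton_iff.2 hwC)) g).1 hgT)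
      (inv_mem hgT)
    have e : w * g * w⁻¹ * g⁻¹ = w ^ 2 := by
      have : g * w⁻¹ * g⁻¹ = w := by rw [← conj_inv, ginv, inv_inv]
      calc w * g * w⁻¹ * g⁻¹ = w * (g * w⁻¹ * g⁻¹) := by group
        _ = w ^ 2 := by rw [this, pow_two]
    rw [e] at hm
    have hd := Subgroup.orderOf_dvd_natCard _ hm
    rw [h128, orderOf_pow, ow] at hd
    norm_num at hd
  · intro c hc
    have hm : c * w * c⁻¹ ∈ U ⊔ Subgroup.zpowers w :=
      (Subgroup.mem_normalizer_iff.1 (hnK hc) w).1
        (le_sup_right (α := Subgroup ↥Spor.M22) (Subgroup.mem_zpowers w))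
    obtain ⟨u, hu, v, hv, e⟩ := Set.mem_mul.1 (show c * w * c⁻¹ ∈
        (U : Set ↥Spor.M22) * (Subgroup.zpowers w : Set ↥Spor.M22) by
      rw [← Subgroup.coe_mul_of_right_le_normalizer_left U _
        (Subgroup.zpowers_le.2 (norm_of w _ hw hwU))]
      exact hm)
    refine ⟨u, hu, ?_⟩
    obtain ⟨n, rfl⟩ := Subgroup.mem_zpowers_iff.1 hv
    rw [← zpow_mod_orderOf, ow] at e
    have h3 : n % 3 = 0 ∨ n % 3 = 1 ∨ n % 3 = 2 := by omega
    rcases h3 with h3 | h3 | h3 <;> rw [show ((3 : ℕ) : ℤ) = 3 from rfl, h3] at e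
    · exfalso
      rw [zpow_zero, mul_one] at e
      have hd := Subgroup.orderOf_dvd_natCard U (x := c * w * c⁻¹) (e ▸ hu)
      rw [cU, show orderOf (c * w * c⁻¹) = 3 from
        ((SemiconjBy.conj_mk c w).orderOf_eq c).symm.trans ow] at hd
      norm_num at hd
    · left; rw [← e, zpow_one]
    · right
      rw [← e, show w⁻¹ = w ^ (2 : ℤ) by
        rw [inv_eq_iff_mul_eq_one, show w * w ^ (2 : ℤ) = w ^ 3 by group, ← ow, pow_orderOf_eq_one]]

/-- Frames are carried by automorphisms. -/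
def Frame.map {t w : ↥Spor.M22} (F : Frame t w) (φ : ↥Spor.M22 ≃* ↥Spor.M22) :
    Frame (φ t) (φ w) where
  U := F.U.map φ.toMonoidHom
  g := φ F.g
  le := by
    rintro _ ⟨u, hu, rfl⟩
    refine Subgroup.mem_centralizer_singleton_iff.2 ?_
    show φ u * φ t = φ t * φ u
    rw [← map_mul, ← map_mul, Subgroup.mem_centralizer_singleton_iff.1 (F.le hu)]
  normal := by
    intro c hc
    obtain ⟨a, rfl⟩ := φ.surjective c
    have ha : a ∈ Subgroup.centralizer ({t} : Set ↥Spor.M22) :=
      Subgroup.mem_centralizer_singleton_iff.2 (φ.injective (by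
        rw [map_mul, map_mul, Subgroup.mem_centralizer_singleton_iff.1 hc]))
    rw [Subgroup.mem_normalizer_iff_map_conj_eq, Subgroup.map_map]
    conv_rhs => rw [← Subgroup.mem_normalizer_iff_map_conj_eq.1 (F.normal ha), Subgroup.map_map]
    exact congrArg (F.U.map ·) (MonoidHom.ext fun u => by simp)
  card_U := by
    rw [← F.card_U]
    exact (Nat.card_congr (F.U.equivMapOfInjective φ.toMonoidHom φ.injective).toEquiv).symm
  g_comm := by rw [← map_mul, ← map_mul, F.g_comm]
  g_inv := by rw [← map_inv, ← map_mul, ← map_mul, ← map_inv, F.g_inv]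
  fixed := by
    have e : F.U.map φ.toMonoidHom ⊓ Subgroup.centralizer ({φ w} : Set ↥Spor.M22) =
        (F.U ⊓ Subgroup.centralizer ({w} : Set ↥Spor.M22)).map φ.toMonoidHom := by
      ext x
      obtain ⟨a, rfl⟩ := φ.surjective x
      simp only [Subgroup.mem_inf, Subgroup.mem_map_equiv, MulEquiv.symm_apply_apply,
        Subgroup.mem_centralizer_singleton_iff, ← map_mul, EmbeddingLike.apply_eq_iff_eq]
    rw [e, ← F.fixed]
    exact (Nat.card_congr (Subgroup.equivMapOfInjective _ φ.toMonoidHom φ.injective).toEquiv).symm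
  pair := by
    obtain ⟨u₁, h₁, u₂, h₂, hne⟩ := F.pair
    refine ⟨φ u₁, ⟨u₁, h₁, rfl⟩, φ u₂, ⟨u₂, h₂, rfl⟩, fun e => hne (φ.injective ?_)⟩
    simpa only [map_mul, map_inv] using e
  two_le := by
    intro R hR hRn hR2 x hx
    obtain ⟨a, rfl⟩ := φ.surjective x
    refine ⟨a, ?_, rfl⟩
    refine F.two_le (R.comap φ.toMonoidHom) (fun b hb => ?_) (fun b hb => ?_) ?_ hx
    · refine Subgroup.mem_centralizer_singleton_iff.2 (φ.injective ?_)
      rw [map_mul, map_mul]
      exact Subgroup.mem_centralizer_singleton_iff.1 (hR hb)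
    · rw [Subgroup.mem_normalizer_iff]
      intro u
      simp only [Subgroup.mem_comap, MulEquiv.coe_toMonoidHom, map_mul, map_inv]
      refine Subgroup.mem_normalizer_iff.1 (hRn (Subgroup.mem_centralizer_singleton_iff.2 ?_)) _
      rw [← map_mul, ← map_mul, Subgroup.mem_centralizer_singleton_iff.1 hb]
    · exact hR2.comap_of_injective φ.toMonoidHom φ.injective
  conj := by
    intro c hc
    obtain ⟨a, rfl⟩ := φ.surjective c
    obtain ⟨u, hu, h⟩ := F.conj a (Subgroup.mem_centralizer_singleton_iff.2 (φ.injective (by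
      rw [map_mul, map_mul, Subgroup.mem_centralizer_singleton_iff.1 hc])))
    refine ⟨φ u, ⟨u, hu, rfl⟩, ?_⟩
    rw [← map_inv, ← map_inv, ← map_mul, ← map_mul, ← map_mul, ← map_mul]
    rcases h with h | h
    · exact Or.inl (congrArg φ h)
    · exact Or.inr (congrArg φ h)

theorem mul_self_of_orderOf_two {H : Type*} [Monoid H] {t : H} (ht : orderOf t = 2) :
    t * t = 1 ∧ t ≠ 1 :=
  ⟨by rw [← pow_two, ← ht, pow_orderOf_eq_one], fun e => by simp [e] at ht⟩

/-- the centraliser of an involution of `M22` has order 384 -/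
theorem card_centralizer_invol {t : ↥Spor.M22} (ht : orderOf t = 2) :
    Nat.card ↥(Subgroup.centralizer ({t} : Set ↥Spor.M22)) = 384 := by
  obtain ⟨z, w, g, hz, hw, hg⟩ := exists_codes
  obtain ⟨-, hC, -⟩ := frame_of_codes hz hw hg
  obtain ⟨hzz, hz1⟩ := McLInvol.z_props hz
  obtain ⟨htt, ht1⟩ := mul_self_of_orderOf_two ht
  obtain ⟨c, hc⟩ := isConj_iff.1 (JankoFour.ThreeLocalCert.M22_invol_conj hzz hz1 htt ht1)
  rw [← hC]
  refine Nat.card_congr ((MulAut.conj c⁻¹).toEquiv.subtypeEquiv fun a => ?_)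
  simp only [MulEquiv.toEquiv_eq_coe, MulEquiv.coe_toEquiv, MulAut.conj_apply, inv_inv,
    Subgroup.mem_centralizer_singleton_iff, ← hc]
  constructor
  · intro h
    calc c⁻¹ * a * c * z = c⁻¹ * (a * (c * z * c⁻¹)) * c := by group
      _ = _ := by rw [h]; group
  · intro h
    calc a * (c * z * c⁻¹) = c * (c⁻¹ * a * c * z) * c⁻¹ := by group
      _ = _ := by rw [h]; group

/-- the frame of an involution and a commuting element of order three -/
theorem exists_frame {t w : ↥Spor.M22} (ht : orderOf t = 2) (hw : orderOf w = 3)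
    (hc : w * t = t * w) : Nonempty (Frame t w) := by
  classical
  haveI : Fact (Nat.Prime 3) := ⟨Nat.prime_three⟩
  obtain ⟨z, w₀, g₀, hz, hw₀, hg₀⟩ := exists_codes
  obtain ⟨ow₀, hC, ⟨F⟩⟩ := frame_of_codes hz hw₀ hg₀
  obtain ⟨hzz, hz1⟩ := McLInvol.z_props hz
  obtain ⟨htt, ht1⟩ := mul_self_of_orderOf_two ht
  obtain ⟨c, hct⟩ := isConj_iff.1 (JankoFour.ThreeLocalCert.M22_invol_conj hzz hz1 htt ht1)
  set C := Subgroup.centralizer ({z} : Set ↥Spor.M22) with hCdef
  have hwmem : c⁻¹ * w * c ∈ C := by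
    rw [hCdef, Subgroup.mem_centralizer_singleton_iff]
    calc c⁻¹ * w * c * z = c⁻¹ * (w * (c * z * c⁻¹)) * c := by group
      _ = _ := by rw [hct, hc, ← hct]; group
  have ow₁ : orderOf (c⁻¹ * w * c) = 3 := by
    rw [← hw]
    simpa using (orderOf_injective (MulAut.conj c⁻¹).toMonoidHom (MulAut.conj c⁻¹).injective w)
  have hw₀mem : w₀ ∈ C := by
    obtain ⟨u, hu, -⟩ := F.pair
    have h := frameCheck_ok
    simp only [frameCheck, Bool.and_eq_true, Nat.beq_eq] at h
    exact Subgroup.mem_centralizer_singleton_iff.2 (mCode_inj (by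
      rw [← compP_mCode, ← compP_mCode, hw₀, hz]; exact h.1.1.1.1.1.1.1.1.1.1.1.1.1.1.1.1.2))
  let S : ∀ x : ↥C, orderOf x = 3 → Sylow 3 ↥C := fun x hx =>
    (IsPGroup.of_card (n := 1) (by rw [Nat.card_zpowers, hx, pow_one]) :
      IsPGroup 3 (Subgroup.zpowers x)).toSylow (by
      have h1 := (Subgroup.zpowers x).card_mul_index
      rw [Nat.card_zpowers, hx, hC] at h1
      omega)
  have o0 : orderOf (⟨w₀, hw₀mem⟩ : ↥C) = 3 := (Subgroup.orderOf_mk _ _).trans ow₀
  have o1 : orderOf (⟨_, hwmem⟩ : ↥C) = 3 := (Subgroup.orderOf_mk _ _).trans ow₁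
  obtain ⟨d, hd⟩ := MulAction.exists_smul_eq ↥C (S _ o0) (S _ o1)
  have hmem : MulAut.conj d • (⟨w₀, hw₀mem⟩ : ↥C) ∈ (d • S _ o0 : Sylow 3 ↥C) :=
    Subgroup.smul_mem_pointwise_smul _ _ _ (Subgroup.mem_zpowers _)
  rw [hd] at hmem
  obtain ⟨n, hn⟩ := Subgroup.mem_zpowers_iff.1 (show MulAut.conj d • (⟨w₀, hw₀mem⟩ : ↥C) ∈
    Subgroup.zpowers (⟨_, hwmem⟩ : ↥C) from hmem)
  have hn' : (c⁻¹ * w * c) ^ n = (d : ↥Spor.M22) * w₀ * (d : ↥Spor.M22)⁻¹ :=
    (congrArg Subtype.val hn).trans rfl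
  rw [← zpow_mod_orderOf, ow₁] at hn'
  have h3 : n % 3 = 0 ∨ n % 3 = 1 ∨ n % 3 = 2 := by omega
  have key : ∀ e : ↥Spor.M22, e * z = z * e → e * w₀ * e⁻¹ = c⁻¹ * w * c →
      Nonempty (Frame t w) := by
    intro e he hew
    have h1 : MulAut.conj (c * e) z = t := by
      rw [MulAut.conj_apply, mul_inv_rev]
      calc c * e * z * (e⁻¹ * c⁻¹) = c * (e * z * e⁻¹) * c⁻¹ := by group
        _ = t := by rw [he, mul_inv_cancel_right, hct]
    have h2 : MulAut.conj (c * e) w₀ = w := by
      rw [MulAut.conj_apply, mul_inv_rev]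
      calc c * e * w₀ * (e⁻¹ * c⁻¹) = c * (e * w₀ * e⁻¹) * c⁻¹ := by group
        _ = w := by rw [hew]; group
    exact ⟨h1 ▸ h2 ▸ F.map (MulAut.conj (c * e))⟩
  have hdz : (d : ↥Spor.M22) * z = z * d := Subgroup.mem_centralizer_singleton_iff.1 d.2
  rcases h3 with h3 | h3 | h3 <;> rw [show ((3 : ℕ) : ℤ) = 3 from rfl, h3] at hn'
  · rw [zpow_zero, eq_comm, conj_eq_one_iff] at hn'
    rw [hn', orderOf_one] at ow₀
    omega
  · exact key d hdz (by rw [← hn', zpow_one])
  · refine key ((d : ↥Spor.M22) * F.g) ?_ ?_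
    · rw [mul_assoc, F.g_comm, ← mul_assoc, hdz, mul_assoc]
    · rw [show (d : ↥Spor.M22) * F.g * w₀ * ((d : ↥Spor.M22) * F.g)⁻¹ =
        d * (F.g * w₀ * F.g⁻¹) * (d : ↥Spor.M22)⁻¹ by group, F.g_inv, ← conj_inv, ← hn',
        inv_eq_iff_mul_eq_one, zpow_two, ← pow_two, ← pow_succ, show 2 + 1 = 3 from rfl, ← ow₁,
        pow_orderOf_eq_one]

/-- the order of the normaliser of a subgroup of order `p` divides `d` -/
theorem natCard_dvd_of_self {p d : ℕ} [hp : Fact p.Prime] (hpN : ¬ p ^ 2 ∣ 443520) (hpdvd : p ∣ 443520)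
    {A : ↥Spor.M22} (hA : orderOf A = p)
    (hd : Nat.card ↥(Subgroup.normalizer ((Subgroup.zpowers A : Subgroup ↥Spor.M22) : Set ↥Spor.M22))
      ∣ d) (P : Subgroup ↥Spor.M22) (hP : Nat.card ↥P = p) :
    Nat.card ↥(Subgroup.normalizer (P : Set ↥Spor.M22)) ∣ d := by
  have mk : ∀ Q : Subgroup ↥Spor.M22, Nat.card ↥Q = p →
      ∃ S : Sylow p ↥Spor.M22, (S : Subgroup ↥Spor.M22) = Q := by
    intro Q hQ
    refine ⟨(IsPGroup.of_card (n := 1) (by rw [hQ, pow_one]) : IsPGroup p Q).toSylow ?_, rfl⟩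
    have h1 := Q.card_mul_index
    rw [hQ, natCard_M22] at h1
    intro hd'
    exact hpN (by rw [← h1, pow_two]; exact mul_dvd_mul_left p hd')
  obtain ⟨S, hS⟩ := mk P hP
  obtain ⟨T, hT⟩ := mk (Subgroup.zpowers A) (by rw [Nat.card_zpowers, hA])
  obtain ⟨g, hg⟩ := MulAction.exists_smul_eq ↥Spor.M22 T S
  have hs : (S : Subgroup ↥Spor.M22) = MulAut.conj g • (T : Subgroup ↥Spor.M22) := by
    rw [← hg]; rfl
  rw [← hS, hs, CfsgLib.Coprime.conj_smul_eq_map, ← Subgroup.map_equiv_normalizer_eq,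
    Subgroup.card_map_of_injective (MulAut.conj g).injective, hT]
  exact hd

theorem card_normalizer_zpowers_dvd {H : Type*} [Group H] [Finite H] {A : H} {p : ℕ}
    [hp : Fact p.Prime] (hA : orderOf A = p)
    (hC : Nat.card ↥(Subgroup.centralizer ({A} : Set H)) = p) :
    Nat.card ↥(Subgroup.normalizer ((Subgroup.zpowers A : Subgroup H) : Set H)) ∣ p * (p - 1) := by
  set N := Subgroup.normalizer ((Subgroup.zpowers A : Subgroup H) : Set H)
  have hk := (Subgroup.normalizerMonoidHom (Subgroup.zpowers A)).ker.card_mul_index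
  rw [Subgroup.index_ker] at hk
  rw [← hk]
  refine mul_dvd_mul ?_ ?_
  · have e : (Subgroup.normalizerMonoidHom (Subgroup.zpowers A)).ker.map N.subtype ≤
        Subgroup.centralizer ({A} : Set H) := by
      rintro _ ⟨n, hn, rfl⟩
      rw [SetLike.mem_coe, Subgroup.normalizerMonoidHom_ker, Subgroup.mem_subgroupOf] at hn
      exact Subgroup.mem_centralizer_singleton_iff.2
        (Subgroup.mem_centralizer_iff.1 hn A (Subgroup.mem_zpowers A)).symm
    have := Subgroup.card_dvd_of_le e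
    rwa [hC, Subgroup.card_map_of_injective N.subtype_injective] at this
  · refine (Subgroup.card_subgroup_dvd_card _).trans ?_
    rw [IsCyclic.card_mulAut, Nat.card_zpowers, hA, Nat.totient_prime hp.out]

/-- the divisors of the odd part -/
def oddBound (d : ℕ) : Bool :=
  decide (d ≤ 192) || [(11, 110), (5, 20)].any fun pb : ℕ × ℕ => decide (pb.1 ∣ d) &&
    (List.range (d + 1)).all fun n =>
      !(Nat.beq (d % n) 0) || decide (n % pb.1 ≠ 1) || decide (¬ d / n ∣ pb.2)

theorem oddBound_ok :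
    ((List.range 3466).all fun d => !(Nat.beq (3465 % d) 0) || oddBound d) = true := by
  decide +kernel

/-- a subgroup of odd order of `M22` has order at most 192 -/
theorem card_le_of_odd {D : Subgroup ↥Spor.M22} (hD : Odd (Nat.card ↥D)) :
    Nat.card ↥D ≤ 192 := by
  haveI : Fact (Nat.Prime 11) := ⟨by norm_num⟩
  haveI : Fact (Nat.Prime 5) := ⟨by norm_num⟩
  obtain ⟨A, B, C, hA, -, hC, cA, -, cC, -⟩ := m22_data
  have hdvd : Nat.card ↥D ∣ 3465 := by
    have h1 := Subgroup.card_subgroup_dvd_card D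
    rw [natCard_M22, show 443520 = 2 ^ 7 * 3465 by norm_num] at h1
    exact ((Nat.coprime_two_right.2 hD).pow_right 7).dvd_of_dvd_mul_left h1
  have h : oddBound (Nat.card ↥D) = true := by
    have := List.all_eq_true.1 oddBound_ok (Nat.card ↥D) (List.mem_range.2
      (Nat.lt_succ_of_le (Nat.le_of_dvd (by norm_num) hdvd)))
    simpa [Nat.mod_eq_zero_of_dvd hdvd] using this
  rw [oddBound, Bool.or_eq_true] at h
  rcases h with h | h
  · simpa using h
  exfalso
  have key : ∀ (p b : ℕ) [Fact p.Prime], ¬ p ^ 2 ∣ 443520 → p ∣ 443520 → p ∣ Nat.card ↥D →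
      (∀ P : Subgroup ↥Spor.M22, Nat.card ↥P = p →
        Nat.card ↥(Subgroup.normalizer (P : Set ↥Spor.M22)) ∣ b) →
      ∃ n ∈ (Nat.card ↥D).divisors, n % p = 1 ∧ Nat.card ↥D / n ∣ b := by
    intro p b _ hp2 _ hpd hN
    obtain ⟨P⟩ := (inferInstance : Nonempty (Sylow p ↥D))
    have hcP : Nat.card ↥(P : Subgroup ↥D) = p := by
      obtain ⟨k, hk⟩ := IsPGroup.iff_card.1 P.isPGroup'
      have h1 : p ∣ Nat.card ↥(P : Subgroup ↥D) := P.dvd_card_of_dvd_card hpd
      have h2 : Nat.card ↥(P : Subgroup ↥D) ∣ 443520 :=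
        (Subgroup.card_subgroup_dvd_card _).trans (natCard_M22 ▸ Subgroup.card_subgroup_dvd_card D)
      rw [hk] at h1 h2 ⊢
      have hk1 : k < 2 := by
        by_contra hk2
        exact hp2 ((pow_dvd_pow p (by omega)).trans h2)
      interval_cases k
      · exact absurd (Nat.dvd_one.1 (by simpa using h1)) (Fact.out : p.Prime).ne_one
      · rw [pow_one]
    have hn1 := card_sylow_modEq_one p ↥D
    rw [Nat.ModEq, Nat.one_mod_eq_one.2 (Fact.out : p.Prime).ne_one] at hn1
    have he : Nat.card (Sylow p ↥D) *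
        Nat.card ↥(Subgroup.normalizer ((P : Subgroup ↥D) : Set ↥D)) = Nat.card ↥D := by
      rw [Sylow.card_eq_index_normalizer P, mul_comm]
      exact Subgroup.card_mul_index _
    refine ⟨Nat.card (Sylow p ↥D), Nat.mem_divisors.2 ⟨⟨_, he.symm⟩, Nat.card_pos.ne'⟩, hn1, ?_⟩
    rw [← he, Nat.mul_div_cancel_left _ Nat.card_pos]
    have hmap : ((Subgroup.normalizer ((P : Subgroup ↥D) : Set ↥D)).map D.subtype) ≤
        Subgroup.normalizer (((P : Subgroup ↥D).map D.subtype : Subgroup ↥Spor.M22) :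
          Set ↥Spor.M22) := Subgroup.le_normalizer_map _
    have := Subgroup.card_dvd_of_le hmap
    rw [Subgroup.card_map_of_injective D.subtype_injective] at this
    exact this.trans (hN _ (by rw [Subgroup.card_map_of_injective D.subtype_injective, hcP]))
  simp only [List.any_eq_true, List.mem_cons, List.not_mem_nil, or_false, Bool.and_eq_true,
    decide_eq_true_eq, List.all_eq_true, List.mem_range, Bool.or_eq_true, Bool.not_eq_true'] at h
  obtain ⟨pb, hpb, hpd, hall⟩ := h
  rcases hpb with rfl | rfl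
  · obtain ⟨n, hn, h1, h2⟩ := key 11 110 (by norm_num) (by norm_num) hpd fun P hP =>
      natCard_dvd_of_self (by norm_num) (by norm_num) hA
        (card_normalizer_zpowers_dvd hA cA) P hP
    rw [Nat.mem_divisors] at hn
    rcases hall n (Nat.lt_succ_of_le (Nat.le_of_dvd Nat.card_pos hn.1)) with (h | h) | h
    · simp [Nat.mod_eq_zero_of_dvd hn.1] at h
    · exact h h1
    · exact h h2
  · obtain ⟨n, hn, h1, h2⟩ := key 5 20 (by norm_num) (by norm_num) hpd fun P hP =>
      natCard_dvd_of_self (by norm_num) (by norm_num) hC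
        (card_normalizer_zpowers_dvd hC cC) P hP
    rw [Nat.mem_divisors] at hn
    rcases hall n (Nat.lt_succ_of_le (Nat.le_of_dvd Nat.card_pos hn.1)) with (h | h) | h
    · simp [Nat.mod_eq_zero_of_dvd hn.1] at h
    · exact h h1
    · exact h h2

end CfsgLib.Spor.JankoFourChar2
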