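import Cfsg.Agent.Lib.Spor.JankoFourChar2.Invol
import Cfsg.Agent.Lib.Spor.JankoFourChar2.Count
import Cfsg.Agent.Lib.Spor.JankoFour.ThreeLocalCert

/-!
The subgroup generated by `x` and the two-core is normal in the centraliser of `z`.
-/

set_option autoImplicit false
set_option linter.style.haveILetI false
set_option linter.unusedSectionVars false

namespace CfsgLib.Spor.JankoFourChar2

open Cfsg CfsgLib.Spor Subgroup
open scoped Pointwise commutatorElement

namespace Ctx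

variable {G : Type*} [Group G] [Finite G] (d : Ctx G)

theorem actC_commute_X (c : ↥d.C) : Commute d.X (d.actC c) :=
  Commute.map (show Commute d.xH (inclusion d.C_le_H c) from
    Subtype.ext (d.mem_C.1 c.2).symm) d.act

theorem Zy_eq : d.Zy = d.actC ⟨d.zy, d.zy_mem⟩ := rfl

/-- an involution of the image commuting with `X` is conjugate to the inner involution -/
theorem exists_inner {u : MulAut d.V} (hu : u ∈ d.act.range) (hu2 : u * u = 1) (hu1 : u ≠ 1)
    (hc : Commute d.X u) : ∃ c : ↥d.C, u = d.actC c * d.Zy * (d.actC c)⁻¹ := by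
  obtain ⟨h, rfl⟩ := hu
  obtain ⟨cH, hcC, hce⟩ := d.exists_mem_C_of_comm hc
  set c0 : ↥d.C := ⟨cH, hcC⟩ with hc0
  have hact : d.actC c0 = d.act h := hce
  have hsq : d.pi c0 * d.pi c0 = 1 := by
    rw [← map_mul]
    exact d.actC_eq_one (by rw [map_mul, hact, hu2])
  have hpow : ∀ k : ↥d.C, d.pi k = 1 → d.actC k ∈ zpowers d.X := by
    intro k hk
    obtain ⟨i, j, hij⟩ := d.ker_mem k hk
    have : k = (⟨d.x, d.x_mem⟩ : ↥d.C) ^ i * (⟨d.z, d.zC⟩ : ↥d.C) ^ j :=
      Subtype.ext (by simpa using hij)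
    rw [this, map_mul, map_pow, map_pow, show d.actC ⟨d.z, d.zC⟩ = 1 from
      d.act_eq_one_iff.2 d.z_mem_Q, one_pow, mul_one]
    exact pow_mem (mem_zpowers d.X) i
  have h1 : d.pi c0 ≠ 1 := by
    intro hk
    apply hu1
    rw [← hact] at hu2 ⊢
    rcases d.mem_zpowers_X.1 (hpow c0 hk) with e | e | e
    · exact e
    · exfalso
      rw [e, ← sq] at hu2
      have h4 := orderOf_dvd_of_pow_eq_one hu2
      rw [d.orderOf_X] at h4
      norm_num at h4
    · exfalso
      rw [e, ← sq, inv_pow, inv_eq_one] at hu2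
      have h4 := orderOf_dvd_of_pow_eq_one hu2
      rw [d.orderOf_X] at h4
      norm_num at h4
  obtain ⟨g, hg⟩ := isConj_iff.1
    (JankoFour.ThreeLocalCert.M22_invol_conj d.T_data.1 d.T_data.2.1 hsq h1)
  obtain ⟨c, rfl⟩ := d.surj g
  refine ⟨c, ?_⟩
  set k : ↥d.C := (c * ⟨d.zy, d.zy_mem⟩ * c⁻¹)⁻¹ * c0 with hk
  have hk1 : d.pi k = 1 := by
    rw [hk, map_mul, map_inv, map_mul, map_mul, map_inv, show d.pi ⟨d.zy, d.zy_mem⟩ = d.T from rfl,
      hg, inv_mul_cancel]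
  have hkX := hpow k hk1
  set S := d.actC c * d.Zy * (d.actC c)⁻¹ with hS
  have he : d.act h = S * d.actC k := by
    rw [← hact, hk, map_mul, map_inv, map_mul, map_mul, map_inv, ← d.Zy_eq, ← hS, mul_inv_cancel_left]
  have hSX : Commute d.X S :=
    ((d.actC_commute_X c).mul_right d.comm_Zy_X.symm).mul_right (d.actC_commute_X c).inv_right
  have hS2 : S * S = 1 := by
    rw [hS, show d.actC c * d.Zy * (d.actC c)⁻¹ * (d.actC c * d.Zy * (d.actC c)⁻¹) =
      d.actC c * (d.Zy * d.Zy) * (d.actC c)⁻¹ by group, d.Zy_sq, mul_one, mul_inv_cancel]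
  rcases d.mem_zpowers_X.1 hkX with e | e | e
  · rw [he, e, mul_one]
  all_goals
    exfalso
    rw [he, e] at hu2
  · rw [show S * d.X * (S * d.X) = S * (d.X * S) * d.X by group, hSX.eq, ← mul_assoc, hS2, one_mul,
      ← sq] at hu2
    have h4 := orderOf_dvd_of_pow_eq_one hu2
    rw [d.orderOf_X] at h4
    norm_num at h4
  · rw [show S * d.X⁻¹ * (S * d.X⁻¹) = S * (d.X⁻¹ * S) * d.X⁻¹ by group, hSX.inv_left.eq,
      ← mul_assoc, hS2, one_mul, ← sq, inv_pow, inv_eq_one] at hu2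
    have h4 := orderOf_dvd_of_pow_eq_one hu2
    rw [d.orderOf_X] at h4
    norm_num at h4

/-- an outer element fixes at most 64 vectors -/
theorem card_Fix_le_of_invert {u : MulAut d.V} (h : u * d.X * u⁻¹ = d.X⁻¹) :
    Nat.card ↥(d.Fix u) ≤ 64 := by
  have h2 : Nat.card ↥(d.Fix u) * Nat.card ↥(d.Fix u) ≤ 4096 := by
    rw [← Nat.card_prod, ← d.card_V]
    refine Nat.card_le_card_of_injective
      (fun p : ↥(d.Fix u) × ↥(d.Fix u) => (p.1 : d.V) * d.X p.2) ?_
    rintro ⟨⟨a, ha⟩, ⟨b, hb⟩⟩ ⟨⟨a', ha'⟩, ⟨b', hb'⟩⟩ he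
    have e1 : d.X (b' * b⁻¹) = a'⁻¹ * a := by
      have he' : a * d.X b = a' * d.X b' := he
      rw [map_mul, map_inv, show d.X b' = a'⁻¹ * (a * d.X b) from eq_inv_mul_iff_mul_eq.2 he'.symm,
        ← mul_assoc, mul_inv_cancel_right]
    have e2 : u (d.X (b' * b⁻¹)) = d.X (b' * b⁻¹) := by
      rw [e1]; exact mul_mem (inv_mem ha') ha
    have hX : d.X⁻¹ (b' * b⁻¹) = d.X (b' * b⁻¹) := by
      rw [← e2, ← h, MulAut.mul_apply, MulAut.mul_apply]
      have hb2 : u (b' * b⁻¹) = b' * b⁻¹ := mul_mem hb' (inv_mem hb)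
      conv_lhs => rw [← hb2, MulAut.inv_apply_self]
    have e3 : b' * b⁻¹ = 1 := by
      refine d.X_fpf _ ?_
      have h5 := congrArg d.X hX
      rw [MulAut.apply_inv_self] at h5
      calc d.X (b' * b⁻¹) = d.X (d.X (d.X (b' * b⁻¹))) := by rw [← h5]
        _ = b' * b⁻¹ := by
          rw [← MulAut.mul_apply, ← MulAut.mul_apply, ← sq, ← pow_succ, d.X_pow_three,
            MulAut.one_apply]
    rw [mul_inv_eq_one] at e3
    subst e3
    have ha2 : a = a' := mul_right_cancel (show a * d.X b' = a' * d.X b' from he)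
    subst ha2
    rfl
  by_contra hcon
  have := Nat.mul_le_mul (Nat.succ_le_of_lt (not_le.1 hcon)) (Nat.succ_le_of_lt (not_le.1 hcon))
  omega

/-- the centraliser of the image of `C` has index at most two in the normaliser of `⟨X⟩` -/
theorem card_le_two_mul {K : Subgroup (MulAut d.V)} (hK : K ≤ d.M0) :
    Nat.card ↥K ≤ 2 * Nat.card ↥(K ⊓ centralizer ({d.X} : Set (MulAut d.V))) := by
  classical
  set K0 := K ⊓ centralizer ({d.X} : Set (MulAut d.V)) with hK0
  by_cases hall : ∀ k ∈ K, Commute d.X k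
  · have : K0 = K := inf_eq_left.2 fun k hk => mem_centralizer_singleton_iff.2 (hall k hk).eq.symm
    rw [this]
    omega
  push Not at hall
  obtain ⟨e, he, hne⟩ := hall
  have heX : e * d.X * e⁻¹ = d.X⁻¹ := by
    refine (d.mem_M0_iff.1 (hK he)).resolve_left fun h => hne ?_
    exact (mul_inv_eq_iff_eq_mul.1 h).symm
  have hcases : ∀ k ∈ K, ¬ Commute d.X k → k * e ∈ K0 := by
    intro k hk hkn
    refine ⟨mul_mem hk he, mem_centralizer_singleton_iff.2 ?_⟩
    have hkX : k * d.X * k⁻¹ = d.X⁻¹ := by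
      refine (d.mem_M0_iff.1 (hK hk)).resolve_left fun h => hkn ?_
      exact (mul_inv_eq_iff_eq_mul.1 h).symm
    refine mul_inv_eq_iff_eq_mul.1 ?_
    rw [show k * e * d.X * (k * e)⁻¹ = k * (e * d.X * e⁻¹) * k⁻¹ by group, heX, ← conj_inv, hkX,
      inv_inv]
  calc Nat.card ↥K ≤ Nat.card (↥K0 × Bool) := Nat.card_le_card_of_injective
        (fun k : ↥K => if hc : Commute d.X (k : MulAut d.V) then
            ((⟨k, k.2, mem_centralizer_singleton_iff.2 hc.eq.symm⟩, false) : ↥K0 × Bool)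
          else (⟨_, hcases k k.2 hc⟩, true)) (by
        intro a b hab
        simp only at hab
        have h1 := congrArg (fun t : ↥K0 × Bool => ((t.1 : ↥K0) : MulAut d.V)) hab
        have h2 := congrArg Prod.snd hab
        split_ifs at h1 h2 with ha hb hb
        · exact Subtype.ext h1
        · exact Subtype.ext (mul_right_cancel h1))
    _ = 2 * Nat.card ↥K0 := by rw [Nat.card_prod, Nat.card_eq_fintype_card (α := Bool), Fintype.card_bool, mul_comm]

/-- a subgroup of the image of `C` of odd order has order at most 576 -/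
theorem card_le_of_odd_inner {D : Subgroup (MulAut d.V)} (hD : D ≤ d.actC.range)
    (ho : Odd (Nat.card ↥D)) : Nat.card ↥D ≤ 576 := by
  set L : Subgroup ↥d.C := D.comap d.actC with hL
  have hzker : (⟨d.z, d.zC⟩ : ↥d.C) ∈ L := by
    rw [hL, mem_comap, show d.actC ⟨d.z, d.zC⟩ = 1 from d.act_eq_one_iff.2 d.z_mem_Q]
    exact one_mem _
  have h1 := ((d.actC.comp L.subtype).ker).card_mul_index
  rw [index_ker, MonoidHom.range_comp, range_subtype, hL, map_comap_eq_self hD, ← hL] at h1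
  have h2 := ((d.pi.comp L.subtype).ker).card_mul_index
  rw [index_ker, MonoidHom.range_comp, range_subtype] at h2
  have hk2 : Nat.card ↥(d.actC.comp L.subtype).ker ≤ 2 := by
    rw [← d.zpowers_z_card]
    refine Nat.card_le_card_of_injective (fun c : ↥(d.actC.comp L.subtype).ker =>
      (⟨(((c : ↥L) : ↥d.C) : G), ?_⟩ : ↥(zpowers d.z))) ?_
    · rw [← d.Q_inf_C]
      exact ⟨d.act_eq_one_iff.1 c.2, ((c : ↥L) : ↥d.C).2⟩
    · intro a b hab
      exact Subtype.ext (Subtype.ext (Subtype.ext (congrArg Subtype.val hab :)))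
  have hk1 : 2 ∣ Nat.card ↥(d.pi.comp L.subtype).ker := by
    have ho2 : orderOf (⟨⟨_, hzker⟩, d.ker_z d.zC⟩ : ↥(d.pi.comp L.subtype).ker) = 2 := by
      rw [← orderOf_coe, ← orderOf_coe, ← orderOf_coe]; exact d.hz
    rw [← ho2]
    exact orderOf_dvd_natCard _
  have hk6 : Nat.card ↥(d.pi.comp L.subtype).ker ≤ 6 :=
    le_trans (Nat.card_le_card_of_injective
      (fun c : ↥(d.pi.comp L.subtype).ker => (⟨((c : ↥L) : ↥d.C), c.2⟩ : ↥d.pi.ker))
      fun a b hab => Subtype.ext (Subtype.ext (congrArg Subtype.val hab :))) d.card_ker_le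
  obtain ⟨m, hm⟩ := hk1
  have hcase : Nat.card ↥(d.actC.comp L.subtype).ker = 1 ∨
      Nat.card ↥(d.actC.comp L.subtype).ker = 2 := by
    have := Nat.card_pos (α := ↥(d.actC.comp L.subtype).ker)
    omega
  have heven : 2 ∣ Nat.card ↥L := ⟨m * Nat.card ↥(L.map d.pi), by rw [← h2, hm, mul_assoc]⟩
  have hL2 : Nat.card ↥L = 2 * Nat.card ↥D := by
    rcases hcase with e | e <;> rw [e] at h1
    · rw [one_mul] at h1
      rw [← h1] at heven
      exact absurd heven (fun h => (Nat.not_even_iff_odd.2 ho) (even_iff_two_dvd.2 h))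
    · exact h1.symm
  rw [hm, hL2, mul_assoc] at h2
  have hmD : m * Nat.card ↥(L.map d.pi) = Nat.card ↥D := Nat.eq_of_mul_eq_mul_left two_pos h2
  have hodd : Odd (Nat.card ↥(L.map d.pi)) :=
    Odd.of_dvd_nat ho (Dvd.intro_left _ hmD)
  have h192 := card_le_of_odd hodd
  calc Nat.card ↥D = m * Nat.card ↥(L.map d.pi) := hmD.symm
    _ ≤ 3 * 192 := Nat.mul_le_mul (by omega) h192
    _ = 576 := rfl

/-- the class of the inner involution under the image of `C` has at least 1155 elements -/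
theorem card_inner_class :
    1155 ≤ Nat.card {k : MulAut d.V // ∃ c : ↥d.C, k = d.actC c * d.Zy * (d.actC c)⁻¹} := by
  have hidx : Nat.card (↥Spor.M22 ⧸ centralizer ({d.T} : Set ↥Spor.M22)) = 1155 := by
    have h1 := card_eq_card_quotient_mul_card_subgroup
      (centralizer ({d.T} : Set ↥Spor.M22))
    rw [CfsgLib.MathieuOut.natCard_M22, card_centralizer_invol d.T_data.2.2] at h1
    omega
  rw [← hidx]
  choose s hs using d.surj
  refine Nat.card_le_card_of_injective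
    (fun q : ↥Spor.M22 ⧸ centralizer ({d.T} : Set ↥Spor.M22) =>
      (⟨_, s q.out, rfl⟩ :
        {k : MulAut d.V // ∃ c : ↥d.C, k = d.actC c * d.Zy * (d.actC c)⁻¹})) ?_
  intro q q' h
  have h0 : d.actC (s q.out * ⟨d.zy, d.zy_mem⟩ * (s q.out)⁻¹) =
      d.actC (s q'.out * ⟨d.zy, d.zy_mem⟩ * (s q'.out)⁻¹) := by
    simp only [map_mul, map_inv, ← d.Zy_eq]
    exact congrArg Subtype.val h
  have h1 := d.pi_eq_of_actC h0
  simp only [map_mul, map_inv, hs, show d.pi ⟨d.zy, d.zy_mem⟩ = d.T from rfl] at h1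
  rw [← QuotientGroup.out_eq' q, ← QuotientGroup.out_eq' q']
  refine QuotientGroup.eq.2 (mem_centralizer_singleton_iff.2 ?_)
  calc q.out⁻¹ * q'.out * d.T = q.out⁻¹ * (q'.out * d.T * q'.out⁻¹) * q'.out := by group
    _ = q.out⁻¹ * (q.out * d.T * q.out⁻¹) * q'.out := by rw [h1]
    _ = d.T * (q.out⁻¹ * q'.out) := by group


/-- the subgroup generated by `x` and the two-core is normal -/
theorem range_le_M0 : d.act.range ≤ d.M0 := by
  classical
  haveI : Fact (Nat.Prime 2) := ⟨Nat.prime_two⟩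
  by_contra hne
  let K : Subgroup (MulAut d.V) := d.act.range
  let M : Subgroup ↥K := d.M0.subgroupOf K
  have hM : M ≠ ⊤ := fun h => hne fun f hf => by
    have h' : (⟨f, hf⟩ : ↥K) ∈ M := by rw [h]; exact mem_top _
    exact mem_subgroupOf.1 h'
  let zk : ↥K := ⟨d.Zy, d.zyH, rfl⟩
  let I : Set ↥K := {k | ∃ g : ↥K, k = g * zk * g⁻¹}
  have hconj : ∀ g : ↥K, ∀ k ∈ I, g * k * g⁻¹ ∈ I := by
    rintro g - ⟨g', rfl⟩
    exact ⟨g * g', by group⟩
  have hsq : ∀ k ∈ I, k * k = 1 := by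
    rintro - ⟨g, rfl⟩
    rw [show g * zk * g⁻¹ * (g * zk * g⁻¹) = g * (zk * zk) * g⁻¹ by group,
      show zk * zk = 1 from Subtype.ext d.Zy_sq, mul_one, mul_inv_cancel]
  have hfix : ∀ k ∈ I, Nat.card ↥(d.Fix (k : MulAut d.V)) = 256 := by
    rintro - ⟨g, rfl⟩
    rw [Subgroup.coe_mul, Subgroup.coe_mul, Subgroup.coe_inv, d.card_Fix_conj, d.card_Fix_Zy]
  have hI1 : ∀ k ∈ I, (k : MulAut d.V) ≠ 1 := by
    intro k hk h
    have h1 := hfix k hk
    rw [h, show d.Fix 1 = ⊤ from eq_top_iff.2 fun v _ => rfl, Subgroup.card_top, d.card_V] at h1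
    norm_num at h1
  have hIC : ∀ k ∈ I, k ∈ M → Commute d.X (k : MulAut d.V) := by
    intro k hk hkM
    rcases d.mem_M0_iff.1 (mem_subgroupOf.1 hkM) with e | e
    · exact (mul_inv_eq_iff_eq_mul.1 e).symm
    · exfalso
      have h1 := d.card_Fix_le_of_invert e
      rw [hfix k hk] at h1
      omega
  have hinner : ∀ k ∈ I, k ∈ M → ∃ c : ↥d.C,
      (k : MulAut d.V) = d.actC c * d.Zy * (d.actC c)⁻¹ := fun k hk hkM =>
    d.exists_inner k.2 (congrArg Subtype.val (hsq k hk)) (hI1 k hk) (hIC k hk hkM)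
  have hCK : ∀ c : ↥d.C, d.actC c ∈ K := fun c => ⟨_, rfl⟩
  have hCM : ∀ c : ↥d.C, d.actC c ∈ d.M0 := fun c => d.act_mem_M0_of_comm (d.actC_commute_X c)
  have hZM : d.Zy ∈ d.M0 := d.mem_M0_iff.2 (Or.inl (by rw [d.comm_Zy_X.eq, mul_inv_cancel_right]))
  have hone : ∀ k ∈ I, k ∈ M → ∀ g : ↥K, g * k * g⁻¹ ∈ M → g ∈ M := by
    intro k hk hkM g hgM
    obtain ⟨c, hc⟩ := hinner k hk hkM
    obtain ⟨c', hc'⟩ := hinner _ (hconj g k hk) hgM
    rw [Subgroup.coe_mul, Subgroup.coe_mul, Subgroup.coe_inv, hc] at hc'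
    have h1 : (d.actC c')⁻¹ * (g : MulAut d.V) * d.actC c ∈ d.Xs := by
      refine ⟨?_, mem_centralizer_singleton_iff.2 ?_⟩
      · show (d.actC c')⁻¹ * (g : MulAut d.V) * d.actC c ∈ K
        exact mul_mem (mul_mem (inv_mem (hCK c')) g.2) (hCK c)
      calc (d.actC c')⁻¹ * (g : MulAut d.V) * d.actC c * d.Zy
          = (d.actC c')⁻¹ * ((g : MulAut d.V) * (d.actC c * d.Zy * (d.actC c)⁻¹) *
              (g : MulAut d.V)⁻¹) * (g : MulAut d.V) * d.actC c := by group
        _ = d.Zy * ((d.actC c')⁻¹ * (g : MulAut d.V) * d.actC c) := by rw [hc']; group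
    rw [mem_subgroupOf]
    have h2 := mul_mem (mul_mem (hCM c') (d.Xs_le_M0 h1)) (inv_mem (hCM c))
    rwa [show d.actC c' * ((d.actC c')⁻¹ * (g : MulAut d.V) * d.actC c) * (d.actC c)⁻¹ =
      (g : MulAut d.V) by group] at h2
  obtain ⟨g, -, hdis, hcard⟩ := exists_large_meet_conj hM hconj hsq
    ⟨zk, ⟨1, by rw [one_mul, inv_one, mul_one]⟩, mem_subgroupOf.2 hZM⟩ hone
  -- the class of the inner involution inside the normaliser
  have h1155 : 1155 ≤ Nat.card {k : ↥K // k ∈ I ∧ k ∈ M} := by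
    refine le_trans d.card_inner_class (Nat.card_le_card_of_injective
      (fun k => (⟨⟨k.1, ?_⟩, ?_, ?_⟩ : {k : ↥K // k ∈ I ∧ k ∈ M})) ?_)
    · obtain ⟨c, hc⟩ := k.2
      rw [hc]
      exact mul_mem (mul_mem (hCK c) (zk.2 : d.Zy ∈ K)) (inv_mem (hCK c))
    · obtain ⟨c, hc⟩ := k.2
      exact ⟨⟨d.actC c, hCK c⟩, Subtype.ext (by rw [Subgroup.coe_mul, Subgroup.coe_mul, Subgroup.coe_inv]; exact hc)⟩
    · obtain ⟨c, hc⟩ := k.2
      refine mem_subgroupOf.2 ?_
      show k.1 ∈ d.M0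
      rw [hc]
      exact mul_mem (mul_mem (hCM c) hZM) (inv_mem (hCM c))
    · intro a b h
      exact Subtype.ext (congrArg (fun t => ((t.1 : ↥K) : MulAut d.V)) h)
  set DK : Subgroup ↥K := M ⊓ M.map (MulAut.conj g).toMonoidHom with hDK
  set D : Subgroup (MulAut d.V) := DK.map K.subtype with hD
  have hDM : D ≤ d.M0 := by
    rintro - ⟨k, hk, rfl⟩
    exact mem_subgroupOf.1 hk.1
  have hDcard : Nat.card ↥D = Nat.card ↥DK := card_map_of_injective K.subtype_injective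
  set D0 := D ⊓ centralizer ({d.X} : Set (MulAut d.V)) with hD0
  have hD0C : D0 ≤ d.actC.range := by
    rintro f ⟨⟨k, hk, rfl⟩, hfX⟩
    obtain ⟨hh, hhe⟩ := k.2
    obtain ⟨c, hc, hce⟩ := d.exists_mem_C_of_comm (h := hh) (by
      rw [hhe]; exact (mem_centralizer_singleton_iff.1 hfX).symm)
    exact ⟨⟨c, hc⟩, hce.trans hhe⟩
  have hodd : Odd (Nat.card ↥D0) := by
    by_contra hev
    obtain ⟨⟨u, hu⟩, hu2⟩ := exists_prime_orderOf_dvd_card' (G := ↥D0) 2
      (even_iff_two_dvd.1 (Nat.not_odd_iff_even.1 hev))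
    obtain ⟨k, hk, rfl⟩ := hu.1
    have hu' : (k : MulAut d.V) * k = 1 ∧ (k : MulAut d.V) ≠ 1 := by
      rw [← orderOf_coe] at hu2
      refine ⟨?_, fun h => ?_⟩
      · rw [← sq, ← hu2]; exact pow_orderOf_eq_one _
      · change orderOf (k : MulAut d.V) = 2 at hu2
        rw [h, orderOf_one] at hu2
        norm_num at hu2
    obtain ⟨c, hc⟩ := d.exists_inner k.2 hu'.1 hu'.2 (mem_centralizer_singleton_iff.1 hu.2).symm
    refine hdis k ⟨⟨_, hCK c⟩, Subtype.ext hc⟩ hk.1 hk.2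
  have h1 := d.card_le_of_odd_inner hD0C hodd
  have h2 := d.card_le_two_mul hDM
  rw [← hD0, hDcard] at h2
  omega

/-- every conjugate of `x` in the centraliser of `z` is `x` or its inverse modulo the two-core -/
theorem exists_conj_eq {h : G} (hh : h ∈ d.H) :
    ∃ q ∈ d.Q, h * d.x * h⁻¹ = q * d.x ∨ h * d.x * h⁻¹ = q * d.x⁻¹ := by
  rcases d.mem_M0_iff.1 (d.range_le_M0 ⟨⟨h, hh⟩, rfl⟩) with e | e
  · rw [Ctx.X, ← map_inv, ← map_mul, ← map_mul, d.act_eq_iff] at e
    refine ⟨h * d.x * h⁻¹ * d.x⁻¹, ?_, Or.inl (by group)⟩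
    have h1 := (mem_normalizer_iff.1 (d.C_le_normalizer d.x_mem) _).1 (inv_mem e)
    simp only [coe_mul, coe_inv] at h1
    convert h1 using 1
    group
  · rw [Ctx.X, ← map_inv, ← map_inv, ← map_mul, ← map_mul, d.act_eq_iff] at e
    refine ⟨h * d.x * h⁻¹ * d.x, ?_, Or.inr (by group)⟩
    have h1 := (mem_normalizer_iff.1 (d.C_le_normalizer (inv_mem d.x_mem)) _).1 (inv_mem e)
    simp only [coe_mul, coe_inv] at h1
    convert h1 using 1
    group

end Ctx

end CfsgLib.Spor.JankoFourChar2
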