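import Cfsg.Agent.Lib.Spor.JankoFourChar2.Structure
import Cfsg.Agent.Lib.Coprime.Action

/-!
If the image of `x` generates a normal subgroup of the centraliser of `z` modulo its two-core, the
group is of Janko-four type.
-/

set_option autoImplicit false
set_option linter.style.haveILetI false
set_option linter.unusedSectionVars false

namespace CfsgLib.Spor.JankoFourChar2

open Cfsg CfsgLib.Spor Subgroup
open scoped Pointwise

namespace Ctx

variable {G : Type*} [Group G] [Finite G] (d : Ctx G)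

/-- the subgroup generated by `x` -/
abbrev P : Subgroup G := zpowers d.x

/-- the two-core extended by `x` -/
abbrev N : Subgroup G := d.P ⊔ d.Q

/-- the normaliser of `⟨x⟩` in the centraliser of `z` -/
abbrev L : Subgroup G := d.H ⊓ normalizer (d.P : Set G)

theorem card_P : Nat.card ↥d.P = 3 := by rw [Nat.card_zpowers, d.hx]

theorem centralizer_P : centralizer (d.P : Set G) = d.C := by
  show centralizer ((zpowers d.x : Subgroup G) : Set G) = centralizer ({d.x} : Set G)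
  rw [zpowers_eq_closure, centralizer_closure]

theorem P_le_normalizer_Q : d.P ≤ normalizer (d.Q : Set G) :=
  zpowers_le.2 (d.C_le_normalizer d.x_mem)

theorem coprime_QP : (Nat.card ↥d.Q).Coprime (Nat.card ↥d.P) := by
  rw [d.card_Q, d.card_P]
  exact Nat.Coprime.pow_left _ (by norm_num)

theorem Q_inf_P : d.Q ⊓ d.P = ⊥ := CfsgLib.Coprime.inf_eq_bot_of_coprime d.coprime_QP

theorem card_N : Nat.card ↥d.N = 3 * Nat.card ↥d.Q := by
  rw [CfsgLib.Coprime.card_sup_of_inf_eq_bot d.P_le_normalizer_Q (inf_comm d.Q d.P ▸ d.Q_inf_P),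
    d.card_P]

theorem N_le_H : d.N ≤ d.H := sup_le (zpowers_le.2 (d.C_le_H d.x_mem)) d.Q_le_H

theorem H_le_normalizer_N
    (hn : ∀ h ∈ d.H, ∃ q ∈ d.Q, h * d.x * h⁻¹ = q * d.x ∨ h * d.x * h⁻¹ = q * d.x⁻¹) :
    d.H ≤ normalizer (d.N : Set G) := by
  intro h hh
  refine mem_normalizer_fintype ?_
  intro v hv
  have hle : d.N ≤ d.N.comap (MulAut.conj h).toMonoidHom := by
    refine sup_le (zpowers_le.2 ?_) ?_
    · show h * d.x * h⁻¹ ∈ d.N
      obtain ⟨q, hq, e | e⟩ := hn h hh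
      · rw [e]; exact mul_mem (mem_sup_right hq) (mem_sup_left (mem_zpowers _))
      · rw [e]; exact mul_mem (mem_sup_right hq) (mem_sup_left (inv_mem (mem_zpowers _)))
    · intro q hq
      exact mem_sup_right ((mem_normalizer_iff.1 (d.H_le_normalizer hh) q).1 hq)
  exact hle hv

/-- `H = Q · N_H(⟨x⟩)` -/
theorem exists_mul_L
    (hn : ∀ h ∈ d.H, ∃ q ∈ d.Q, h * d.x * h⁻¹ = q * d.x ∨ h * d.x * h⁻¹ = q * d.x⁻¹)
    {h : G} (hh : h ∈ d.H) : ∃ q ∈ d.Q, ∃ l ∈ d.L, h = q * l := by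
  have hle : MulAut.conj h • d.P ≤ d.Q ⊔ d.P := by
    rw [sup_comm]
    intro v hv
    obtain ⟨u, hu, rfl⟩ := hv
    exact (mem_normalizer_iff.1 (d.H_le_normalizer_N hn hh) u).1 (mem_sup_left hu)
  obtain ⟨q, hq, he⟩ := CfsgLib.Coprime.sz_conj_rel d.P_le_normalizer_Q
    (hle.trans (sup_le le_normalizer d.P_le_normalizer_Q))
    d.coprime_QP (CfsgLib.Coprime.card_conj_smul h d.P) hle
    (Or.inr inferInstance)
  refine ⟨q, hq, q⁻¹ * h, mem_inf.2 ⟨mul_mem (inv_mem (d.Q_le_H hq)) hh, ?_⟩, by group⟩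
  refine CfsgLib.Coprime.mem_normalizer_iff_conj_smul.2 ?_
  rw [map_mul, mul_smul, ← he, ← mul_smul, ← map_mul, inv_mul_cancel, map_one, one_smul]

theorem C_le_L : d.C ≤ d.L := by
  refine le_inf d.C_le_H ?_
  rw [← d.centralizer_P]
  exact Subgroup.centralizer_le_normalizer (d.P : Set G)

theorem L_le_normalizer_C : d.L ≤ normalizer (d.C : Set G) := by
  refine inf_le_right.trans ?_
  rw [← d.centralizer_P]
  exact Ctx.normalizer_le_normalizer_centralizer d.P

theorem conj_x_of_mem_L {l : G} (hl : l ∈ d.L) :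
    l * d.x * l⁻¹ = d.x ∨ l * d.x * l⁻¹ = d.x⁻¹ := by
  classical
  have h : l * d.x * l⁻¹ ∈ zpowers d.x :=
    (mem_normalizer_iff.1 hl.2 d.x).1 (mem_zpowers _)
  obtain ⟨n, hn, hne⟩ := (mem_zpowers_iff_mem_range_orderOf.1 h : _) |> Finset.mem_image.1
  rw [d.hx, Finset.mem_range] at hn
  rcases (by omega : n = 0 ∨ n = 1 ∨ n = 2) with rfl | rfl | rfl
  · have h1 : d.x = 1 := by
      rw [pow_zero] at hne
      exact conj_eq_one_iff.1 hne.symm
    have := d.hx
    rw [h1, orderOf_one] at this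
    norm_num at this
  · left; rw [← hne, pow_one]
  · right
    rw [← hne, eq_inv_iff_mul_eq_one, ← pow_succ]
    exact d.x_pow_three

/-- the centraliser of `x` as a subgroup of `L` -/
abbrev CL : Subgroup ↥d.L := d.C.subgroupOf d.L

theorem index_CL : d.CL.index = 2 := by
  obtain ⟨g, hgH, hgx, -, -⟩ := d.exists_inverting
  have hgC : g ∉ d.C := by
    intro h
    have h1 : g * d.x * g⁻¹ = d.x := by rw [d.mem_C.1 h, mul_inv_cancel_right]
    rw [hgx] at h1
    have h2 : d.x ^ 2 = 1 := by rw [pow_two]; exact inv_eq_iff_mul_eq_one.1 h1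
    have h3 := orderOf_dvd_of_pow_eq_one h2
    rw [d.hx] at h3
    norm_num at h3
  have hgN : g ∈ normalizer (d.P : Set G) := by
    refine mem_normalizer_fintype ?_
    intro v hv
    obtain ⟨n, rfl⟩ := hv
    show g * d.x ^ n * g⁻¹ ∈ zpowers d.x
    rw [← conj_zpow, hgx]
    exact zpow_mem (inv_mem (mem_zpowers _)) n
  refine index_eq_two_iff.2 ⟨⟨g, hgH, hgN⟩, fun b => ?_⟩
  have hb := d.conj_x_of_mem_L b.2
  have key : ∀ l : G, l ∈ d.C ↔ l * d.x * l⁻¹ = d.x := fun l => by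
    rw [d.mem_C]; exact (mul_inv_eq_iff_eq_mul).symm
  rcases hb with hb | hb
  · refine Or.inr ⟨mem_subgroupOf.2 ((key _).2 hb), fun h => hgC ?_⟩
    exact (mul_mem_cancel_left ((key (b : G)).2 hb)).1 (mem_subgroupOf.1 h)
  · refine Or.inl ⟨mem_subgroupOf.2 ((key _).2 ?_), fun h => ?_⟩
    · show (b : G) * g * d.x * ((b : G) * g)⁻¹ = d.x
      rw [show (b : G) * g * d.x * ((b : G) * g)⁻¹ = b * (g * d.x * g⁻¹) * (b : G)⁻¹ by group, hgx,
        show (b : G) * d.x⁻¹ * (b : G)⁻¹ = ((b : G) * d.x * (b : G)⁻¹)⁻¹ by group, hb, inv_inv]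
    · have h1 := (key _).1 (mem_subgroupOf.1 h)
      rw [hb] at h1
      have h2 : d.x ^ 2 = 1 := by rw [pow_two]; exact inv_eq_iff_mul_eq_one.1 h1
      have h3 := orderOf_dvd_of_pow_eq_one h2
      rw [d.hx] at h3
      norm_num at h3

theorem ker_eq_center : d.pi.ker = center ↥d.C := by
  refine le_antisymm (fun c hc => mem_center_iff.2 fun v => ?_) fun c hc => ?_
  · exact Subtype.ext (d.ker_comm ((MonoidHom.mem_ker).1 hc) v.2).symm
  · rw [MonoidHom.mem_ker, ← mem_bot, ← CfsgLib.Spor.LargeFi.J4.center_M22, mem_center_iff]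
    intro m
    obtain ⟨v, rfl⟩ := d.surj m
    rw [← map_mul, ← map_mul, mem_center_iff.1 hc v]

/-- the action of `L` on the centraliser of `x` -/
def actL : ↥d.L →* MulAut ↥d.C :=
  (normalizerMonoidHom d.C).comp (inclusion d.L_le_normalizer_C)

theorem actL_apply (l : ↥d.L) (c : ↥d.C) : ((d.actL l c : ↥d.C) : G) = l * c * (l : G)⁻¹ := rfl

theorem map_ker (φ : MulAut ↥d.C) : d.pi.ker.map (φ : ↥d.C →* ↥d.C) = d.pi.ker := by
  rw [d.ker_eq_center]
  exact characteristic_iff_map_eq.1 Subgroup.centerCharacteristic φ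

/-- automorphisms of the centraliser of `x` act on its quotient `M22` -/
noncomputable def descend : MulAut ↥d.C →* MulAut ↥Spor.M22 where
  toFun φ := ((QuotientGroup.quotientKerEquivOfSurjective d.pi d.surj).symm.trans
    (QuotientGroup.congr _ _ φ (d.map_ker φ))).trans
    (QuotientGroup.quotientKerEquivOfSurjective d.pi d.surj)
  map_one' := by
    refine MulEquiv.ext fun m => ?_
    obtain ⟨q, rfl⟩ := (QuotientGroup.quotientKerEquivOfSurjective d.pi d.surj).surjective m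
    simp only [MulEquiv.trans_apply, MulEquiv.symm_apply_apply, MulAut.one_apply]
    induction q using QuotientGroup.induction_on
    rfl
  map_mul' φ ψ := by
    refine MulEquiv.ext fun m => ?_
    obtain ⟨q, rfl⟩ := (QuotientGroup.quotientKerEquivOfSurjective d.pi d.surj).surjective m
    simp only [MulEquiv.trans_apply, MulEquiv.symm_apply_apply, MulAut.mul_apply]
    induction q using QuotientGroup.induction_on
    rfl

theorem descend_apply (φ : MulAut ↥d.C) (c : ↥d.C) : d.descend φ (d.pi c) = d.pi (φ c) := by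
  have h : ∀ v, QuotientGroup.quotientKerEquivOfSurjective d.pi d.surj (QuotientGroup.mk v) = d.pi v :=
    fun v => rfl
  rw [← h c]
  show QuotientGroup.quotientKerEquivOfSurjective d.pi d.surj (QuotientGroup.congr _ _ φ (d.map_ker φ)
    ((QuotientGroup.quotientKerEquivOfSurjective d.pi d.surj).symm _)) = _
  rw [MulEquiv.symm_apply_apply]
  rfl

/-- the action of `L` on `M22` -/
noncomputable def toAut : ↥d.L →* MulAut ↥Spor.M22 := d.descend.comp d.actL

theorem toAut_apply (l : ↥d.L) (c : ↥d.C) : d.toAut l (d.pi c) = d.pi (d.actL l c) :=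
  d.descend_apply _ c

theorem mem_ker_toAut {l : ↥d.L} :
    l ∈ d.toAut.ker ↔ ∃ h : (l : G) ∈ d.C, d.pi ⟨l, h⟩ = 1 := by
  constructor
  · intro hl
    rw [MonoidHom.mem_ker] at hl
    -- `c ↦ c⁻¹ (l c l⁻¹)` is a homomorphism of a perfect group into its centre
    have hc : ∀ c : ↥d.C, d.pi (c⁻¹ * d.actL l c) = 1 := by
      intro c
      rw [map_mul, map_inv, ← d.toAut_apply, hl, MulAut.one_apply, inv_mul_cancel]
    let f : ↥d.C →* ↥(center ↥d.C) :=
      { toFun := fun c => ⟨c⁻¹ * d.actL l c, by rw [← d.ker_eq_center, MonoidHom.mem_ker]; exact hc c⟩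
        map_one' := Subtype.ext (by simp)
        map_mul' := fun u v => Subtype.ext (by
          show (u * v)⁻¹ * d.actL l (u * v) = u⁻¹ * d.actL l u * (v⁻¹ * d.actL l v)
          have hcen : u⁻¹ * d.actL l u ∈ center ↥d.C := by
            rw [← d.ker_eq_center, MonoidHom.mem_ker]; exact hc u
          rw [map_mul, mul_inv_rev,
            show v⁻¹ * u⁻¹ * (d.actL l u * d.actL l v) = v⁻¹ * (u⁻¹ * d.actL l u) * d.actL l v by group,
            mem_center_iff.1 hcen v⁻¹, mul_assoc]) }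
    have hf : f.ker = ⊤ := by
      rw [eq_top_iff, ← d.perf, commutator_le]
      intro u _ v _
      rw [MonoidHom.mem_ker, map_commutatorElement, commutatorElement_eq_one_iff_mul_comm]
      exact Subtype.ext (mem_center_iff.1 (f v).2 _)
    have hfix : ∀ c : ↥d.C, d.actL l c = c := fun c => by
      have hc' : c ∈ f.ker := by rw [hf]; exact mem_top c
      have hf1 : f c = 1 := (MonoidHom.mem_ker).1 hc'
      have h : c⁻¹ * d.actL l c = 1 := congrArg Subtype.val hf1
      exact (inv_mul_eq_one.1 h).symm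
    have hcomm : ∀ c : ↥d.C, (l : G) * c = c * l := fun c => by
      have h := congrArg Subtype.val (hfix c)
      rw [d.actL_apply] at h
      exact mul_inv_eq_iff_eq_mul.1 h
    have hlC : (l : G) ∈ d.C := d.mem_C.2 (hcomm ⟨d.x, d.x_mem⟩)
    refine ⟨hlC, ?_⟩
    rw [← MonoidHom.mem_ker, d.ker_eq_center, mem_center_iff]
    exact fun v => Subtype.ext (hcomm v).symm
  · rintro ⟨h, hl⟩
    rw [MonoidHom.mem_ker]
    refine MulEquiv.ext fun m => ?_
    obtain ⟨c, rfl⟩ := d.surj m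
    rw [d.toAut_apply, MulAut.one_apply]
    congr 1
    refine Subtype.ext ?_
    rw [d.actL_apply, d.ker_comm hl c.2, mul_inv_cancel_right]

theorem card_ker_toAut : Nat.card ↥d.toAut.ker = Nat.card ↥d.pi.ker := by
  refine Nat.card_congr
    { toFun := fun l => ⟨⟨((l : ↥d.L) : G), (d.mem_ker_toAut.1 l.2).choose⟩,
        (MonoidHom.mem_ker).2 (d.mem_ker_toAut.1 l.2).choose_spec⟩
      invFun := fun c => ⟨⟨((c : ↥d.C) : G), d.C_le_L (c : ↥d.C).2⟩,
        d.mem_ker_toAut.2 ⟨(c : ↥d.C).2, (MonoidHom.mem_ker).1 c.2⟩⟩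
      left_inv := fun l => rfl
      right_inv := fun c => rfl }

theorem toAut_surjective : Function.Surjective d.toAut := by
  haveI : Finite (MulAut ↥Spor.M22) := Nat.finite_of_card_ne_zero (by
    rw [CfsgLib.Spor.JankoFour.ThreeClass.natCard_mulAut_M22]; norm_num)
  have h1 : Nat.card ↥d.L = Nat.card ↥d.C * 2 := by
    rw [← d.CL.card_mul_index, d.index_CL,
      Nat.card_congr (subgroupOfEquivOfLe d.C_le_L).toEquiv]
  have h2 : Nat.card ↥d.C = Nat.card ↥d.pi.ker * 443520 := by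
    rw [← d.pi.ker.card_mul_index, index_ker, MonoidHom.range_eq_top.2 d.surj, Subgroup.card_top,
      CfsgLib.MathieuOut.natCard_M22]
  have h3 := d.toAut.ker.card_mul_index
  rw [index_ker, d.card_ker_toAut, h1, h2, mul_assoc] at h3
  have h4 : Nat.card ↥d.toAut.range = 887040 := Nat.eq_of_mul_eq_mul_left Nat.card_pos h3
  refine MonoidHom.range_eq_top.1 (eq_top_of_card_eq _ ?_)
  rw [h4, CfsgLib.Spor.JankoFour.ThreeClass.natCard_mulAut_M22]

theorem mem_N_of_mem_L {l : ↥d.L} : (l : G) ∈ d.N ↔ l ∈ d.toAut.ker := by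
  rw [d.mem_ker_toAut]
  constructor
  · intro h
    obtain ⟨p, hp, q, hq, hpq⟩ := (CfsgLib.Coprime.mem_sup_iff_of_le_normalizer d.P_le_normalizer_Q).1 h
    have hpL : p ∈ d.L := d.C_le_L (zpowers_le.2 d.x_mem hp)
    have hqL : q ∈ d.L := by
      rw [show q = p⁻¹ * (l : G) by rw [← hpq]; group]
      exact mul_mem (inv_mem hpL) l.2
    have hqC : q ∈ d.C := by
      have hxn : q * d.x * q⁻¹ * d.x⁻¹ ∈ d.Q ⊓ d.P := by
        refine mem_inf.2 ⟨?_, mul_mem ((mem_normalizer_iff.1 hqL.2 d.x).1 (mem_zpowers _))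
          (inv_mem (mem_zpowers _))⟩
        rw [show q * d.x * q⁻¹ * d.x⁻¹ = q * (d.x * q⁻¹ * d.x⁻¹) by group]
        exact mul_mem hq ((mem_normalizer_iff.1 (d.C_le_normalizer d.x_mem) _).1 (inv_mem hq))
      rw [d.Q_inf_P, mem_bot, mul_inv_eq_one] at hxn
      exact d.mem_C.2 (mul_inv_eq_iff_eq_mul.1 hxn)
    refine ⟨hpq ▸ mul_mem (zpowers_le.2 d.x_mem hp) hqC, ?_⟩
    have hqz : q ∈ zpowers d.z := d.Q_inf_C ▸ ⟨hq, hqC⟩
    have e : (⟨(l : G), hpq ▸ mul_mem (zpowers_le.2 d.x_mem hp) hqC⟩ : ↥d.C) =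
        ⟨p, zpowers_le.2 d.x_mem hp⟩ * ⟨q, hqC⟩ := Subtype.ext hpq.symm
    rw [e, map_mul]
    obtain ⟨i, rfl⟩ := hp
    obtain ⟨j, rfl⟩ := hqz
    have e1 : (⟨d.x ^ i, zpowers_le.2 d.x_mem ⟨i, rfl⟩⟩ : ↥d.C) = ⟨d.x, d.x_mem⟩ ^ i :=
      Subtype.ext (by simp)
    have e2 : (⟨d.z ^ j, hqC⟩ : ↥d.C) = ⟨d.z, d.zC⟩ ^ j := Subtype.ext (by simp)
    rw [e1, e2, map_zpow, map_zpow, d.ker_x, d.ker_z, one_zpow, one_zpow, one_mul]
  · rintro ⟨h, hl⟩
    obtain ⟨i, j, he⟩ := d.ker_mem _ hl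
    rw [show (l : G) = d.x ^ i * d.z ^ j from he]
    exact mul_mem (mem_sup_left (pow_mem (mem_zpowers _) _))
      (mem_sup_right (pow_mem d.z_mem_Q _))

/-- the recognition, given the normality of `⟨x⟩` modulo the two-core -/
theorem isOfJankoFourType
    (hn : ∀ h ∈ d.H, ∃ q ∈ d.Q, h * d.x * h⁻¹ = q * d.x ∨ h * d.x * h⁻¹ = q * d.x⁻¹) :
    Cfsg.IsOfJankoFourType G := by
  haveI hNn : (d.N.subgroupOf d.H).Normal :=
    normal_subgroupOf_of_le_normalizer (d.H_le_normalizer_N hn)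
  let ψ : ↥d.L →* ↥d.H ⧸ d.N.subgroupOf d.H :=
    (QuotientGroup.mk' _).comp (inclusion (inf_le_left : d.L ≤ d.H))
  have hψ : Function.Surjective ψ := by
    intro a
    obtain ⟨h, rfl⟩ := QuotientGroup.mk_surjective a
    obtain ⟨q, hq, l, hl, he⟩ := d.exists_mul_L hn h.2
    refine ⟨⟨l, hl⟩, ?_⟩
    show ((inclusion (inf_le_left : d.L ≤ d.H) ⟨l, hl⟩ : ↥d.H) : ↥d.H ⧸ d.N.subgroupOf d.H) = ↑h
    rw [QuotientGroup.eq, mem_subgroupOf]
    show (l : G)⁻¹ * (h : G) ∈ d.N
    rw [he, ← mul_assoc]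
    have := (mem_normalizer_iff.1 (d.H_le_normalizer_N hn (inv_mem hl.1)) q).1 (mem_sup_right hq)
    simpa using this
  have hker : ψ.ker = d.toAut.ker := by
    ext l
    rw [← d.mem_N_of_mem_L, MonoidHom.mem_ker]
    exact (QuotientGroup.eq_one_iff _).trans mem_subgroupOf
  obtain ⟨g, hgH, hgx, -, -⟩ := d.exists_inverting
  refine ⟨d.z, d.P, d.hz, d.isExtraspecial, d.card_Q, d.char2,
    ⟨d.N, le_sup_right, d.N_le_H, d.H_le_normalizer_N hn, d.card_N, ⟨hNn, ⟨?_⟩⟩, le_sup_left⟩,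
    d.card_P, ?_, ?_, ?_⟩
  · exact (QuotientGroup.quotientKerEquivOfSurjective ψ hψ).symm.trans
      ((QuotientGroup.quotientMulEquivOfEq hker).trans
        (QuotientGroup.quotientKerEquivOfSurjective d.toAut d.toAut_surjective))
  · rw [d.centralizer_P]; exact d.Q_inf_C
  · rw [d.centralizer_P, inf_eq_right.2 d.C_le_H]
    intro h
    have hmem : g ∈ d.C := by
      rw [← h]
      refine ⟨hgH, mem_normalizer_fintype fun v hv => ?_⟩
      obtain ⟨n, rfl⟩ := hv
      show g * d.x ^ n * g⁻¹ ∈ zpowers d.x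
      rw [← conj_zpow, hgx]
      exact zpow_mem (inv_mem (mem_zpowers _)) n
    rw [d.mem_C] at hmem
    rw [hmem, mul_inv_cancel_right] at hgx
    have h2 : d.x ^ 2 = 1 := by rw [pow_two]; exact eq_inv_iff_mul_eq_one.1 hgx
    have h3 := orderOf_dvd_of_pow_eq_one h2
    rw [d.hx] at h3
    norm_num at h3
  · rw [d.centralizer_P, inf_eq_right.2 d.C_le_H]
    have h := congrArg (Subgroup.map d.C.subtype) d.perf
    rw [map_commutator, ← MonoidHom.range_eq_map, range_subtype] at h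
    rw [h]
    exact zpowers_le.2 d.x_mem

end Ctx

end CfsgLib.Spor.JankoFourChar2
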