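import Cfsg.Agent.Lib.Spor.JankoFourChar2.Mathieu
import Cfsg.Agent.Lib.Spor.LargeJ4.M22Facts
import Cfsg.Agent.Lib.Spor.JankoFour.ThreeClass
import Cfsg.Agent.Lib.Base.Cores
import Cfsg.Agent.Lib.PGroups.Basic
import Cfsg.Prelude.Def_JankoFourType

/-!
A group with an element of order three whose centraliser is `6.M22`, fused into that centraliser:
the two-core of the centraliser of the central involution has order `2 ^ 13`.
-/

set_option autoImplicit false
set_option linter.style.haveILetI false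
set_option linter.unusedSectionVars false

namespace CfsgLib.Spor.JankoFourChar2

open Cfsg CfsgLib.Spor Subgroup
open scoped Pointwise commutatorElement

variable {G : Type*} [Group G]

/-- the data: an element of order three, the involution in the centre of its centraliser, a fused
element of order three inside the centraliser, and the map onto `M22` -/
structure Ctx (G : Type*) [Group G] where
  /-- the element of order three -/
  x : G
  /-- the central involution -/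
  z : G
  /-- a conjugate of `x` in its centraliser -/
  y : G
  /-- the conjugating element -/
  g₀ : G
  /-- the map onto `M22` -/
  pi : ↥(centralizer ({x} : Set G)) →* ↥Spor.M22
  hx : orderOf x = 3
  hz : orderOf z = 2
  zC : z ∈ centralizer ({x} : Set G)
  zcomm : ∀ c ∈ centralizer ({x} : Set G), z * c = c * z
  hy : y ∈ centralizer ({x} : Set G)
  hy3 : orderOf y = 3
  hyx : y ∉ zpowers x
  hg : g₀ * x * g₀⁻¹ = y
  conjy : ∀ a ∈ centralizer ({x} : Set G), orderOf a = 3 → a ∉ zpowers x →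
    ∃ c ∈ centralizer ({x} : Set G), c * a * c⁻¹ = y
  surj : Function.Surjective pi
  ker_mem : ∀ c, pi c = 1 → ∃ i j : ℕ, (c : G) = x ^ i * z ^ j
  ker_x : ∀ h : x ∈ centralizer ({x} : Set G), pi ⟨x, h⟩ = 1
  ker_z : ∀ h : z ∈ centralizer ({x} : Set G), pi ⟨z, h⟩ = 1
  perf : ⁅(⊤ : Subgroup ↥(centralizer ({x} : Set G))), (⊤ : Subgroup ↥(centralizer ({x} : Set G)))⁆ = ⊤
  char2 : centralizer ({z} : Set G) ⊓ centralizer (twoCoreOfCentralizer z : Set G) ≤
    twoCoreOfCentralizer z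
  formula : ∀ W : Subgroup G, IsPGroup 2 ↥W → centralizer ({x} : Set G) ≤ normalizer (W : Set G) →
    z ∈ W → Nat.card ↥(W ⊓ centralizer ({x} : Set G)) = 2 →
    8 * Nat.card ↥W = 2 * (Nat.card ↥(W ⊓ centralizer ({y} : Set G)) *
      Nat.card ↥(W ⊓ centralizer ({x * y} : Set G)) *
      Nat.card ↥(W ⊓ centralizer ({x ^ 2 * y} : Set G)))

namespace Ctx

variable (d : Ctx G)

/-- the centraliser of `x` -/
abbrev C : Subgroup G := centralizer ({d.x} : Set G)

/-- the centraliser of `z` -/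
abbrev H : Subgroup G := centralizer ({d.z} : Set G)

/-- the two-core of the centraliser of `z` -/
abbrev Q : Subgroup G := twoCoreOfCentralizer d.z

/-- the involution central in the centraliser of `y` -/
def zy : G := d.g₀ * d.z * d.g₀⁻¹

/-- the pullback of `x` along the conjugation -/
def u : G := d.g₀⁻¹ * d.x * d.g₀

/-- the pullback of `z` along the conjugation -/
def z' : G := d.g₀⁻¹ * d.z * d.g₀

theorem mem_C {g : G} : g ∈ d.C ↔ g * d.x = d.x * g := mem_centralizer_singleton_iff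

theorem x_mem : d.x ∈ d.C := d.mem_C.2 rfl

theorem x_pow_three : d.x ^ 3 = 1 := by rw [← d.hx]; exact pow_orderOf_eq_one _

theorem z_sq : d.z * d.z = 1 := by rw [← sq, ← d.hz]; exact pow_orderOf_eq_one _

theorem z_ne : d.z ≠ 1 := by
  intro h
  have := d.hz
  rw [h, orderOf_one] at this
  norm_num at this

theorem C_le_H : d.C ≤ d.H := fun c hc =>
  mem_centralizer_singleton_iff.2 (d.zcomm c hc).symm

theorem Q_le_H : d.Q ≤ d.H := map_subtype_le _

theorem Q_pGroup : IsPGroup 2 ↥d.Q := CfsgLib.Base.isPGroup_map_pCore 2 _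

theorem H_le_normalizer : d.H ≤ normalizer (d.Q : Set G) := CfsgLib.Base.le_normalizer_map_pCore _

theorem C_le_normalizer : d.C ≤ normalizer (d.Q : Set G) := d.C_le_H.trans d.H_le_normalizer

theorem z_mem_Q : d.z ∈ d.Q := by
  refine d.char2 ⟨mem_centralizer_singleton_iff.2 rfl, ?_⟩
  exact mem_centralizer_iff.2 fun q hq => mem_centralizer_singleton_iff.1 (d.Q_le_H hq)

theorem zpowers_z_card : Nat.card ↥(zpowers d.z) = 2 := by rw [Nat.card_zpowers, d.hz]

theorem mem_zpowers_z {g : G} : g ∈ zpowers d.z ↔ g = 1 ∨ g = d.z := by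
  constructor
  · rintro ⟨n, rfl⟩
    show d.z ^ n = 1 ∨ d.z ^ n = d.z
    rcases Int.even_or_odd n with ⟨k, hk⟩ | ⟨k, hk⟩
    · left
      rw [hk, ← two_mul, zpow_mul, zpow_two, d.z_sq, one_zpow]
    · right
      rw [hk, zpow_add, zpow_mul, zpow_two, d.z_sq, one_zpow, one_mul, zpow_one]
  · rintro (rfl | rfl)
    · exact one_mem _
    · exact mem_zpowers _

theorem ker_comm {c : ↥d.C} (h : d.pi c = 1) {g : G} (hg : g ∈ d.C) : (c : G) * g = g * (c : G) := by
  obtain ⟨i, j, he⟩ := d.ker_mem c h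
  rw [he]
  have h1 : Commute g (d.x ^ i * d.z ^ j) :=
    (Commute.pow_right (d.mem_C.1 hg) i).mul_right (Commute.pow_right (d.zcomm g hg).symm j)
  exact h1.eq.symm

theorem ker_pow_six {c : ↥d.C} (h : d.pi c = 1) : (c : G) ^ 6 = 1 := by
  obtain ⟨i, j, he⟩ := d.ker_mem c h
  rw [he]
  have hc : Commute (d.x ^ i) (d.z ^ j) := Commute.pow_pow (d.mem_C.1 d.zC).symm i j
  rw [hc.mul_pow, ← pow_mul, ← pow_mul, mul_comm i, mul_comm j, pow_mul, pow_mul,
    show d.x ^ 6 = (d.x ^ 3) ^ 2 by rw [← pow_mul], d.x_pow_three,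
    show d.z ^ 6 = (d.z * d.z) ^ 3 by rw [← sq, ← pow_mul], d.z_sq]
  simp

theorem ker_two_elem {c : ↥d.C} (h : d.pi c = 1) {k : ℕ} (hk : (c : G) ^ 2 ^ k = 1) :
    (c : G) = 1 ∨ (c : G) = d.z := by
  have h2 : (c : G) ^ 2 = 1 := by
    have hg := pow_gcd_eq_one.2 ⟨hk, d.ker_pow_six h⟩
    have hd : Nat.gcd (2 ^ k) 6 ∣ 2 := by
      rcases k with _ | k
      · simp
      · have h3 : Nat.Coprime (2 ^ (k + 1)) 3 := Nat.Coprime.pow_left _ (by norm_num)
        have h6 : Nat.gcd (2 ^ (k + 1)) (2 * 3) = Nat.gcd (2 ^ (k + 1)) 2 :=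
          Nat.Coprime.gcd_mul_right_cancel_right 2 h3.symm
        rw [show (6 : ℕ) = 2 * 3 from rfl, h6]
        exact Nat.gcd_dvd_right _ _
    obtain ⟨m, hm⟩ := hd
    rw [hm, pow_mul, hg, one_pow]
  obtain ⟨i, j, he⟩ := d.ker_mem c h
  have hc : Commute (d.x ^ i) (d.z ^ j) := Commute.pow_pow (d.mem_C.1 d.zC).symm i j
  rw [he, hc.mul_pow, ← pow_mul d.z, mul_comm j, pow_mul, sq d.z, d.z_sq, one_pow, mul_one] at h2
  have hi : d.x ^ i = 1 := by
    have h3 : (d.x ^ i) ^ 3 = 1 := by rw [← pow_mul, mul_comm, pow_mul, d.x_pow_three, one_pow]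
    rwa [pow_succ, h2, one_mul] at h3
  rw [hi, one_mul] at he
  rcases Nat.even_or_odd j with ⟨m, hm⟩ | ⟨m, hm⟩
  · left
    rw [he, hm, ← two_mul, pow_mul, sq, d.z_sq, one_pow]
  · right
    rw [he, hm, pow_succ, pow_mul, sq, d.z_sq, one_pow, one_mul]

theorem y_mem_centralizer : d.x ∈ centralizer ({d.y} : Set G) :=
  mem_centralizer_singleton_iff.2 (d.mem_C.1 d.hy).symm

theorem conj_u : d.g₀ * d.u * d.g₀⁻¹ = d.x := by unfold Ctx.u; group

theorem conj_z' : d.g₀ * d.z' * d.g₀⁻¹ = d.z := by unfold Ctx.z'; group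

theorem u_mem : d.u ∈ d.C := by
  rw [d.mem_C]
  apply (MulAut.conj d.g₀).injective
  simp only [map_mul, MulAut.conj_apply, d.conj_u, d.hg]
  exact (d.mem_C.1 d.hy).symm

theorem z'_mem : d.z' ∈ d.C := by
  rw [d.mem_C]
  apply (MulAut.conj d.g₀).injective
  simp only [map_mul, MulAut.conj_apply, d.conj_z', d.hg]
  exact d.zcomm _ d.hy

theorem z'_comm_u : d.z' * d.u = d.u * d.z' := by
  apply (MulAut.conj d.g₀).injective
  simp only [map_mul, MulAut.conj_apply, d.conj_z', d.conj_u]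
  exact d.zcomm _ d.x_mem

theorem orderOf_u : orderOf d.u = 3 := by
  rw [← (MulAut.conj d.g₀).orderOf_eq, MulAut.conj_apply, d.conj_u, d.hx]

theorem orderOf_z' : orderOf d.z' = 2 := by
  rw [← (MulAut.conj d.g₀).orderOf_eq, MulAut.conj_apply, d.conj_z', d.hz]

theorem u_notMem : d.u ∉ zpowers d.x := by
  intro h
  refine d.hyx ?_
  haveI : Finite ↥(zpowers d.x) := Nat.finite_of_card_ne_zero (by
    rw [Nat.card_zpowers, d.hx]; norm_num)
  have h1 : zpowers d.u = zpowers d.x := by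
    refine eq_of_le_of_card_ge (zpowers_le.2 h) ?_
    rw [Nat.card_zpowers, Nat.card_zpowers, d.orderOf_u, d.hx]
  obtain ⟨n, hn⟩ : d.x ∈ zpowers d.u := h1 ▸ mem_zpowers d.x
  have hn' : d.u ^ n = d.x := hn
  refine mem_zpowers_iff.2 ⟨n, ?_⟩
  have h3 := congrArg (MulAut.conj d.g₀) hn'
  rw [map_zpow, MulAut.conj_apply, MulAut.conj_apply, d.conj_u, d.hg] at h3
  exact h3

/-- the image of `z'` -/
def t : ↥Spor.M22 := d.pi ⟨d.z', d.z'_mem⟩

/-- the image of `u` -/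
def w : ↥Spor.M22 := d.pi ⟨d.u, d.u_mem⟩

theorem orderOf_w : orderOf d.w = 3 := by
  haveI : Fact (Nat.Prime 3) := ⟨Nat.prime_three⟩
  refine orderOf_eq_prime (p := 3) ?_ ?_
  · unfold Ctx.w
    rw [← map_pow, show (⟨d.u, d.u_mem⟩ : ↥d.C) ^ 3 = 1 from Subtype.ext (by
      rw [coe_pow, coe_one, ← d.orderOf_u]; exact pow_orderOf_eq_one _), map_one]
  · intro h
    obtain ⟨i, j, he⟩ := d.ker_mem _ h
    apply d.u_notMem
    have h3 : d.u ^ 4 = d.u := by
      rw [pow_succ, ← d.orderOf_u, pow_orderOf_eq_one, one_mul]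
    have hc : Commute (d.x ^ i) (d.z ^ j) := Commute.pow_pow (d.mem_C.1 d.zC).symm i j
    simp only at he
    rw [← h3, he, hc.mul_pow, ← pow_mul d.z, show j * 4 = 2 * (2 * j) by ring, pow_mul, sq,
      d.z_sq, one_pow, mul_one]
    exact pow_mem (pow_mem (mem_zpowers _) _) _

theorem comm_wt : d.w * d.t = d.t * d.w := by
  unfold Ctx.w Ctx.t
  rw [← map_mul, ← map_mul]
  exact congrArg _ (Subtype.ext d.z'_comm_u.symm)

/-- the preimage in the centraliser of `x` of the two-core of the centraliser of `z'` -/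
def Qp : Subgroup ↥d.C := d.Q.comap ((MulAut.conj d.g₀).toMonoidHom.comp d.C.subtype)

/-- its image in `M22` -/
def R : Subgroup ↥Spor.M22 := d.Qp.map d.pi

theorem mem_Qp {c : ↥d.C} : c ∈ d.Qp ↔ d.g₀ * (c : G) * d.g₀⁻¹ ∈ d.Q := by
  simp [Ctx.Qp, MulAut.conj_apply]

theorem z'_mem_Qp : (⟨d.z', d.z'_mem⟩ : ↥d.C) ∈ d.Qp := by
  rw [mem_Qp, d.conj_z']; exact d.z_mem_Q

theorem conj_mem_centralizer_y {c : G} (hc : c ∈ d.C) :
    d.g₀ * c * d.g₀⁻¹ ∈ centralizer ({d.y} : Set G) := by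
  rw [mem_centralizer_singleton_iff, ← d.hg]
  have h := congrArg (MulAut.conj d.g₀) (d.mem_C.1 hc)
  simpa only [map_mul, MulAut.conj_apply] using h

theorem card_Qp : Nat.card ↥d.Qp = Nat.card ↥(d.Q ⊓ centralizer ({d.y} : Set G)) := by
  refine Nat.card_congr (Equiv.ofBijective
    (fun c => (⟨d.g₀ * ((c : ↥d.C) : G) * d.g₀⁻¹, d.mem_Qp.1 c.2,
      d.conj_mem_centralizer_y (c : ↥d.C).2⟩ : ↥(d.Q ⊓ centralizer ({d.y} : Set G)))) ⟨?_, ?_⟩)
  · intro a b h
    have h' := congrArg Subtype.val h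
    simp only [mul_left_inj, mul_right_inj] at h'
    exact Subtype.ext (Subtype.ext h')
  · rintro ⟨q, hq, hqy⟩
    have hc : d.g₀⁻¹ * q * d.g₀ ∈ d.C := by
      rw [d.mem_C]
      apply (MulAut.conj d.g₀).injective
      have e : MulAut.conj d.g₀ (d.g₀⁻¹ * q * d.g₀) = q := by rw [MulAut.conj_apply]; group
      rw [map_mul (MulAut.conj d.g₀) (d.g₀⁻¹ * q * d.g₀) d.x,
        map_mul (MulAut.conj d.g₀) d.x (d.g₀⁻¹ * q * d.g₀), e, MulAut.conj_apply, d.hg]
      exact mem_centralizer_singleton_iff.1 hqy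
    refine ⟨⟨⟨_, hc⟩, ?_⟩, Subtype.ext ?_⟩
    · rw [mem_Qp]
      show d.g₀ * (d.g₀⁻¹ * q * d.g₀) * d.g₀⁻¹ ∈ d.Q
      rw [show d.g₀ * (d.g₀⁻¹ * q * d.g₀) * d.g₀⁻¹ = q by group]
      exact hq
    · show d.g₀ * (d.g₀⁻¹ * q * d.g₀) * d.g₀⁻¹ = q
      group

variable [Finite G]

theorem Q_inf_C : d.Q ⊓ d.C = zpowers d.z := by
  haveI : Fact (Nat.Prime 2) := ⟨Nat.prime_two⟩
  refine le_antisymm ?_ (zpowers_le.2 ⟨d.z_mem_Q, d.zC⟩)
  rintro q ⟨hq, hqC⟩
  haveI : (d.Q.subgroupOf d.C).Normal := normal_subgroupOf_of_le_normalizer d.C_le_normalizer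
  haveI := CfsgLib.Spor.LargeFi.J4.isSimpleGroup_M22
  haveI hn : ((d.Q.subgroupOf d.C).map d.pi).Normal := Normal.map inferInstance _ d.surj
  have hp : IsPGroup 2 ↥((d.Q.subgroupOf d.C).map d.pi) :=
    (d.Q_pGroup.comap_subtype (K := d.C)).map _
  have hb : (d.Q.subgroupOf d.C).map d.pi = ⊥ := by
    refine hn.eq_bot_or_eq_top.resolve_right fun h => ?_
    obtain ⟨n, hn'⟩ := IsPGroup.iff_card.1 hp
    rw [h, Subgroup.card_top, CfsgLib.MathieuOut.natCard_M22] at hn'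
    have h11 : (11 : ℕ) ∣ 2 ^ n := hn' ▸ (by norm_num)
    have := (Nat.prime_dvd_prime_iff_eq (by norm_num) Nat.prime_two).1
      (Nat.Prime.dvd_of_dvd_pow (by norm_num) h11)
    omega
  have h1 : d.pi ⟨q, hqC⟩ = 1 := by
    rw [← mem_bot, ← hb]
    exact mem_map_of_mem _ (by exact hq)
  obtain ⟨k, hk⟩ := d.Q_pGroup ⟨q, hq⟩
  exact (d.mem_zpowers_z).2 (d.ker_two_elem h1 (congrArg Subtype.val hk))

theorem card_inf_C {W : Subgroup G} (hW : W ≤ d.Q) (hzW : d.z ∈ W) :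
    Nat.card ↥(W ⊓ d.C) = 2 := by
  have : W ⊓ d.C = zpowers d.z :=
    le_antisymm ((inf_le_inf_right _ hW).trans d.Q_inf_C.le) (zpowers_le.2 ⟨hzW, d.zC⟩)
  rw [this, d.zpowers_z_card]

omit [Finite G] in
theorem xy_data (i : ℕ) : d.x ^ i * d.y ∈ d.C ∧ orderOf (d.x ^ i * d.y) = 3 ∧
    d.x ^ i * d.y ∉ zpowers d.x := by
  haveI : Fact (Nat.Prime 3) := ⟨Nat.prime_three⟩
  have hn : d.x ^ i * d.y ∉ zpowers d.x := fun h =>
    d.hyx ((mul_mem_cancel_left (pow_mem (mem_zpowers _) _)).1 h)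
  refine ⟨mul_mem (pow_mem d.x_mem _) d.hy, orderOf_eq_prime ?_ fun h => hn (h ▸ one_mem _), hn⟩
  have hc : Commute (d.x ^ i) d.y := Commute.pow_left (d.mem_C.1 d.hy).symm i
  rw [hc.mul_pow, ← pow_mul, mul_comm, pow_mul, d.x_pow_three, one_pow, one_mul, ← d.hy3,
    pow_orderOf_eq_one]

omit [Finite G] in
theorem card_inf_centralizer_conj {W : Subgroup G} {c : G} (hc : c ∈ normalizer (W : Set G))
    (a : G) : Nat.card ↥(W ⊓ centralizer ({a} : Set G)) =
      Nat.card ↥(W ⊓ centralizer ({c * a * c⁻¹} : Set G)) := by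
  have hcomm : ∀ q : G, q * a = a * q ↔ (c * q * c⁻¹) * (c * a * c⁻¹) = c * a * c⁻¹ * (c * q * c⁻¹) := by
    intro q
    rw [← (MulAut.conj c).injective.eq_iff, map_mul, map_mul, MulAut.conj_apply, MulAut.conj_apply]
  refine Nat.card_congr (Equiv.subtypeEquiv (MulAut.conj c).toEquiv fun q => ?_)
  show q ∈ W ∧ q ∈ centralizer ({a} : Set G) ↔
    c * q * c⁻¹ ∈ W ∧ c * q * c⁻¹ ∈ centralizer ({c * a * c⁻¹} : Set G)
  rw [← mem_normalizer_iff.1 hc q, mem_centralizer_singleton_iff, mem_centralizer_singleton_iff,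
    hcomm q]

theorem card_inf_centralizer_of_order_three {W : Subgroup G} (hCW : d.C ≤ normalizer (W : Set G))
    {a : G} (ha : a ∈ d.C) (ha3 : orderOf a = 3) (han : a ∉ zpowers d.x) :
    Nat.card ↥(W ⊓ centralizer ({a} : Set G)) = Nat.card ↥(W ⊓ centralizer ({d.y} : Set G)) := by
  obtain ⟨c, hc, he⟩ := d.conjy a ha ha3 han
  rw [card_inf_centralizer_conj (hCW hc) a, he]

theorem four_mul_card {W : Subgroup G} (hW : W ≤ d.Q) (hzW : d.z ∈ W)
    (hCW : d.C ≤ normalizer (W : Set G)) :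
    4 * Nat.card ↥W = Nat.card ↥(W ⊓ centralizer ({d.y} : Set G)) ^ 3 := by
  have h := d.formula W (d.Q_pGroup.to_le hW) hCW hzW (d.card_inf_C hW hzW)
  have h1 := d.xy_data 1
  have h2 := d.xy_data 2
  rw [pow_one] at h1
  rw [d.card_inf_centralizer_of_order_three hCW h1.1 h1.2.1 h1.2.2,
    d.card_inf_centralizer_of_order_three hCW h2.1 h2.2.1 h2.2.2] at h
  rw [pow_succ, pow_two]
  omega

theorem Q_ne : d.Q ≠ zpowers d.z := by
  intro h
  have hx : d.x ∈ d.Q := by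
    refine d.char2 ⟨d.C_le_H d.x_mem, mem_centralizer_iff.2 fun q hq => ?_⟩
    have hq' : q ∈ zpowers d.z := by rw [← h]; exact hq
    rcases d.mem_zpowers_z.1 hq' with rfl | rfl
    · simp
    · exact d.zcomm _ d.x_mem
  obtain ⟨k, hk⟩ := d.Q_pGroup ⟨d.x, hx⟩
  have hd : 3 ∣ 2 ^ k := by
    rw [← d.hx]
    exact orderOf_dvd_of_pow_eq_one (congrArg Subtype.val hk)
  have := (Nat.prime_dvd_prime_iff_eq Nat.prime_three Nat.prime_two).1
    (Nat.prime_three.dvd_of_dvd_pow hd)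
  omega

theorem z'_ne : d.z' ≠ d.z := by
  intro h
  have hg : d.g₀ ∈ d.H := by
    rw [mem_centralizer_singleton_iff]
    have h2 := d.conj_z'
    rw [h] at h2
    exact mul_inv_eq_iff_eq_mul.1 h2
  have hc : Nat.card ↥(d.Q ⊓ centralizer ({d.y} : Set G)) = 2 := by
    rw [← d.hg, ← card_inf_centralizer_conj (d.H_le_normalizer hg) d.x]
    exact d.card_inf_C le_rfl d.z_mem_Q
  have h4 := d.four_mul_card le_rfl d.z_mem_Q d.C_le_normalizer
  rw [hc] at h4
  refine d.Q_ne (eq_of_le_of_card_ge (zpowers_le.2 d.z_mem_Q) ?_).symm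
  rw [d.zpowers_z_card]
  omega

theorem zy_mem : d.zy ∈ d.C := by
  rw [d.mem_C]
  have h := congrArg (MulAut.conj d.g₀) (d.zcomm _ d.u_mem)
  simpa only [map_mul, MulAut.conj_apply, d.conj_u, Ctx.zy] using h

theorem zy_notMem : d.zy ∉ d.Q := by
  intro h
  have hc : d.zy ∈ zpowers d.z := d.Q_inf_C ▸ ⟨h, d.zy_mem⟩
  rcases d.mem_zpowers_z.1 hc with h1 | h1
  · have h2 : d.z = d.g₀⁻¹ * d.zy * d.g₀ := by unfold Ctx.zy; group
    rw [h1] at h2
    exact d.z_ne (by rw [h2]; group)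
  · apply d.z'_ne
    have h2 : d.z = d.g₀⁻¹ * d.zy * d.g₀ := by unfold Ctx.zy; group
    rw [h1] at h2
    exact h2.symm

theorem Qp_ker {c : ↥d.C} (hc : c ∈ d.Qp) (h : d.pi c = 1) : c = 1 := by
  obtain ⟨k, hk⟩ := d.Q_pGroup ⟨_, d.mem_Qp.1 hc⟩
  have hk' : (c : G) ^ 2 ^ k = 1 := by
    have h2 : (MulAut.conj d.g₀ (c : G)) ^ 2 ^ k = 1 := congrArg Subtype.val hk
    rw [← map_pow] at h2
    exact (MulAut.conj d.g₀).injective (h2.trans (map_one _).symm)
  rcases d.ker_two_elem h hk' with h1 | h1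
  · exact Subtype.ext h1
  · refine absurd ?_ d.zy_notMem
    have h3 := d.mem_Qp.1 hc
    rw [h1] at h3
    exact h3

theorem card_R : Nat.card ↥d.R = Nat.card ↥(d.Q ⊓ centralizer ({d.y} : Set G)) := by
  rw [← d.card_Qp]
  refine (Nat.card_congr (Equiv.ofBijective
    (fun c : ↥d.Qp => (⟨d.pi c, mem_map_of_mem _ c.2⟩ : ↥d.R)) ⟨?_, ?_⟩)).symm
  · intro a b h
    have h' : d.pi (a : ↥d.C) = d.pi (b : ↥d.C) := congrArg Subtype.val h
    have h1 := d.Qp_ker (c := (a : ↥d.C) * (b : ↥d.C)⁻¹) (mul_mem a.2 (inv_mem b.2))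
      (by rw [map_mul, map_inv, h', mul_inv_cancel])
    exact Subtype.ext (mul_inv_eq_one.1 h1)
  · rintro ⟨r, c, hc, rfl⟩
    exact ⟨⟨c, hc⟩, rfl⟩

theorem t_mem_R : d.t ∈ d.R := mem_map_of_mem _ d.z'_mem_Qp

theorem orderOf_t : orderOf d.t = 2 := by
  haveI : Fact (Nat.Prime 2) := ⟨Nat.prime_two⟩
  refine orderOf_eq_prime (p := 2) ?_ ?_
  · unfold Ctx.t
    rw [← map_pow, show (⟨d.z', d.z'_mem⟩ : ↥d.C) ^ 2 = 1 from Subtype.ext (by
      rw [coe_pow, coe_one, ← d.orderOf_z']; exact pow_orderOf_eq_one _), map_one]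
  · intro h
    have h1 := congrArg Subtype.val (d.Qp_ker d.z'_mem_Qp h)
    have h2 := d.orderOf_z'
    simp only [OneMemClass.coe_one] at h1
    rw [h1, orderOf_one] at h2
    norm_num at h2

omit [Finite G] in
theorem conj_mem_H {c : G} (hc : c * d.z' = d.z' * c) : d.g₀ * c * d.g₀⁻¹ ∈ d.H := by
  rw [mem_centralizer_singleton_iff]
  have h := congrArg (MulAut.conj d.g₀) hc
  simpa only [map_mul, MulAut.conj_apply, d.conj_z'] using h

omit [Finite G] in
/-- an element of the centraliser of `x` fixing `z'` normalises `Qp` -/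
theorem conj_mem_Qp {l a : ↥d.C} (hl : (l : G) * d.z' = d.z' * l) (ha : a ∈ d.Qp) :
    l * a * l⁻¹ ∈ d.Qp := by
  rw [mem_Qp] at ha ⊢
  have h := (mem_normalizer_iff.1 (d.H_le_normalizer (d.conj_mem_H hl)) _).1 ha
  convert h using 1
  simp only [coe_mul, coe_inv]
  group

omit [Finite G] in
theorem Qp_comm_z' {a : ↥d.C} (ha : a ∈ d.Qp) : (a : G) * d.z' = d.z' * a := by
  apply (MulAut.conj d.g₀).injective
  simp only [map_mul, MulAut.conj_apply, d.conj_z']
  exact mem_centralizer_singleton_iff.1 (d.Q_le_H (d.mem_Qp.1 ha))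

theorem R_le_centralizer : d.R ≤ centralizer ({d.t} : Set ↥Spor.M22) := by
  rintro r ⟨a, ha, rfl⟩
  rw [mem_centralizer_singleton_iff]
  unfold Ctx.t
  rw [← map_mul, ← map_mul]
  exact congrArg _ (Subtype.ext (d.Qp_comm_z' ha))

theorem R_pGroup : IsPGroup 2 ↥d.R := by
  refine IsPGroup.map ?_ _
  intro a
  obtain ⟨k, hk⟩ := d.Q_pGroup ⟨_, d.mem_Qp.1 a.2⟩
  refine ⟨k, Subtype.ext (Subtype.ext ((MulAut.conj d.g₀).injective ?_))⟩
  simp only [coe_pow, coe_one, map_pow, map_one]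
  exact congrArg Subtype.val hk

theorem R_le_U (F : Frame d.t d.w) : d.R ≤ F.U := by
  haveI : Fact (Nat.Prime 2) := ⟨Nat.prime_two⟩
  let L : Subgroup ↥d.C := centralizer ({⟨d.z', d.z'_mem⟩} : Set ↥d.C)
  have hL : ∀ l : ↥d.C, l ∈ L ↔ (l : G) * d.z' = d.z' * l := fun l => by
    rw [mem_centralizer_singleton_iff]
    exact ⟨fun h => congrArg Subtype.val h, fun h => Subtype.ext h⟩
  let K := L.map d.pi
  have hK : K ≤ centralizer ({d.t} : Set ↥Spor.M22) := by
    rintro r ⟨l, hl, rfl⟩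
    rw [mem_centralizer_singleton_iff]
    unfold Ctx.t
    rw [← map_mul, ← map_mul]
    exact congrArg _ (mem_centralizer_singleton_iff.1 hl)
  have hRK : d.R ≤ K := map_mono fun a ha => (hL a).2 (d.Qp_comm_z' ha)
  have hKR : K ≤ normalizer (d.R : Set ↥Spor.M22) := by
    rintro r ⟨l, hl, rfl⟩
    refine mem_normalizer_fintype ?_
    rintro - ⟨a, ha, rfl⟩
    exact ⟨_, d.conj_mem_Qp ((hL l).1 hl) ha, by simp only [map_mul, map_inv]⟩
  have hTK : centralizer ({d.t} : Set ↥Spor.M22) ≤ normalizer (K : Set ↥Spor.M22) := by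
    intro r hr
    refine mem_normalizer_fintype ?_
    rintro - ⟨l, hl, rfl⟩
    obtain ⟨g, rfl⟩ := d.surj r
    refine ⟨g * l * g⁻¹, ?_, by simp only [map_mul, map_inv]⟩
    set s : ↥d.C := ⟨d.z', d.z'_mem⟩
    have hk : d.pi (s⁻¹ * (g * s * g⁻¹)) = 1 := by
      rw [map_mul, map_mul, map_mul, map_inv, map_inv, inv_mul_eq_one]
      exact eq_mul_inv_iff_mul_eq.2 (mem_centralizer_singleton_iff.1 hr).symm
    set k : ↥d.C := s⁻¹ * (g * s * g⁻¹) with hkdef
    have hkc : ∀ v : ↥d.C, k * v = v * k := fun v => Subtype.ext (d.ker_comm hk v.2)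
    have hl' : l * s = s * l := mem_centralizer_singleton_iff.1 hl
    rw [SetLike.mem_coe, mem_centralizer_singleton_iff]
    have hgs : g * s * g⁻¹ = s * k := by rw [hkdef]; group
    have h1 : (g * l * g⁻¹) * (g * s * g⁻¹) = (g * s * g⁻¹) * (g * l * g⁻¹) := by
      rw [show (g * l * g⁻¹) * (g * s * g⁻¹) = g * (l * s) * g⁻¹ by group, hl']; group
    rw [hgs] at h1
    refine mul_right_cancel (b := k) ?_
    rw [mul_assoc (g * l * g⁻¹) s k, h1, mul_assoc s k, hkc, ← mul_assoc]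
  have h2 : d.R ≤ (pCore 2 ↥K).map K.subtype := CfsgLib.Base.le_map_pCore hRK hKR d.R_pGroup
  refine h2.trans (F.two_le _ ((map_subtype_le _).trans hK) ?_ (CfsgLib.Base.isPGroup_map_pCore 2 K))
  exact hTK.trans (CfsgLib.Base.normalizer_le_normalizer_map_subtype K _)

theorem R_inf_centralizer : d.R ⊓ centralizer ({d.w} : Set ↥Spor.M22) = zpowers d.t := by
  refine le_antisymm ?_ (zpowers_le.2 ⟨d.t_mem_R,
    mem_centralizer_singleton_iff.2 d.comm_wt.symm⟩)
  rintro r ⟨⟨a, ha, rfl⟩, hr⟩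
  set s : ↥d.C := ⟨d.u, d.u_mem⟩
  have hk : d.pi (a * s * a⁻¹ * s⁻¹) = 1 := by
    rw [map_mul, map_mul, map_mul, map_inv, map_inv]
    rw [show d.pi a * d.pi s = d.pi s * d.pi a from mem_centralizer_singleton_iff.1 hr]
    group
  have hm : a * s * a⁻¹ * s⁻¹ ∈ d.Qp := by
    rw [show a * s * a⁻¹ * s⁻¹ = a * (s * a⁻¹ * s⁻¹) by group]
    exact mul_mem ha (d.conj_mem_Qp d.z'_comm_u.symm (inv_mem ha))
  have h1 := d.Qp_ker hm hk
  have h2 : a * s = s * a := mul_inv_eq_iff_eq_mul.1 (mul_inv_eq_one.1 h1)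
  have h3 : d.g₀ * (a : G) * d.g₀⁻¹ ∈ zpowers d.z := by
    rw [← d.Q_inf_C]
    refine ⟨d.mem_Qp.1 ha, ?_⟩
    show d.g₀ * (a : G) * d.g₀⁻¹ ∈ d.C
    rw [d.mem_C]
    have h4 := congrArg (MulAut.conj d.g₀) (congrArg Subtype.val h2)
    simpa only [coe_mul, map_mul, MulAut.conj_apply, s, d.conj_u] using h4
  rcases d.mem_zpowers_z.1 h3 with h4 | h4
  · have : a = 1 := Subtype.ext ((MulAut.conj d.g₀).injective (h4.trans (map_one _).symm))
    rw [this, map_one]
    exact one_mem _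
  · have : a = ⟨d.z', d.z'_mem⟩ :=
      Subtype.ext ((MulAut.conj d.g₀).injective (h4.trans d.conj_z'.symm))
    rw [this]
    exact mem_zpowers _

theorem card_R_le (F : Frame d.t d.w) : Nat.card ↥d.R ≤ 32 := by
  haveI : Fact (Nat.Prime 2) := ⟨Nat.prime_two⟩
  obtain ⟨n, hn⟩ := IsPGroup.iff_card.1 d.R_pGroup
  have hdvd := card_dvd_of_le (d.R_le_U F)
  rw [F.card_U, hn, show (64 : ℕ) = 2 ^ 6 from rfl, Nat.pow_dvd_pow_iff_le_right (by norm_num)] at hdvd
  rw [hn]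
  rcases Nat.lt_or_ge n 6 with h | h
  · calc 2 ^ n ≤ 2 ^ 5 := Nat.pow_le_pow_right (by norm_num) (by omega)
      _ = 32 := rfl
  · exfalso
    have he : d.R = F.U := eq_of_le_of_card_ge (d.R_le_U F) (by
      rw [F.card_U, hn, show n = 6 by omega]; norm_num)
    have h1 := d.R_inf_centralizer
    rw [he] at h1
    have h2 := F.fixed
    rw [h1, Nat.card_zpowers, d.orderOf_t] at h2
    norm_num at h2

theorem exists_order_eleven : ∃ c : ↥d.C, orderOf c = 11 ∧ d.pi c ≠ 1 := by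
  haveI : Fact (Nat.Prime 11) := ⟨by norm_num⟩
  obtain ⟨e, he⟩ := exists_prime_orderOf_dvd_card' (G := ↥Spor.M22) 11
    (by rw [CfsgLib.MathieuOut.natCard_M22]; norm_num)
  obtain ⟨c, rfl⟩ := d.surj e
  have hd : 11 ∣ orderOf c := he ▸ orderOf_map_dvd d.pi c
  have hc' : orderOf (c ^ (orderOf c / 11)) = 11 :=
    orderOf_pow_orderOf_div (orderOf_pos c).ne' hd
  refine ⟨_, hc', fun h => ?_⟩
  have h6 : (c ^ (orderOf c / 11)) ^ 6 = 1 := Subtype.ext (by
    rw [coe_pow]; exact d.ker_pow_six h)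
  have h7 := orderOf_dvd_of_pow_eq_one h6
  rw [hc'] at h7
  norm_num at h7

omit [Finite G] in
theorem normalizer_le_normalizer_centralizer (W : Subgroup G) :
    normalizer (W : Set G) ≤ normalizer (centralizer (W : Set G) : Set G) := by
  intro g hg
  refine mem_normalizer_iff.2 fun c => ?_
  have key : ∀ g ∈ normalizer (W : Set G), ∀ c ∈ centralizer (W : Set G),
      g * c * g⁻¹ ∈ centralizer (W : Set G) := by
    intro g hg c hc
    rw [mem_centralizer_iff] at hc ⊢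
    intro v hv
    have hv' : g⁻¹ * v * g⁻¹⁻¹ ∈ W := (mem_normalizer_iff.1 (inv_mem hg) v).1 hv
    rw [inv_inv] at hv'
    calc v * (g * c * g⁻¹) = g * (g⁻¹ * v * g * c) * g⁻¹ := by group
      _ = g * (c * (g⁻¹ * v * g)) * g⁻¹ := by rw [hc _ hv']
      _ = g * c * g⁻¹ * v := by group
  refine ⟨key g hg c, fun h => ?_⟩
  have h2 := key g⁻¹ (inv_mem hg) _ h
  rwa [show g⁻¹ * (g * c * g⁻¹) * g⁻¹⁻¹ = c by group] at h2

theorem small_invariant {W : Subgroup G} (hW : W ≤ d.Q) (hzW : d.z ∈ W)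
    (hCW : d.C ≤ normalizer (W : Set G)) (h : Nat.card ↥W ≤ 2 ^ 10) : W = zpowers d.z := by
  haveI : Fact (Nat.Prime 2) := ⟨Nat.prime_two⟩
  haveI : Fact (Nat.Prime 11) := ⟨by norm_num⟩
  obtain ⟨c, hc, hcne⟩ := d.exists_order_eleven
  have he : (c : G) ∈ normalizer (W : Set G) := hCW c.2
  let f : ↥(zpowers (c : G)) →* MulAut ↥W :=
    (normalizerMonoidHom W).comp (inclusion (zpowers_le.2 he))
  letI : MulAction ↥(zpowers (c : G)) ↥W := MulAction.compHom _ f
  have hp : IsPGroup 11 ↥(zpowers (c : G)) :=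
    IsPGroup.of_card (n := 1) (by rw [Nat.card_zpowers, orderOf_coe, hc, pow_one])
  have hmod := hp.card_modEq_card_fixedPoints ↥W
  let F0 : Subgroup G := W ⊓ centralizer (zpowers (c : G) : Set G)
  have hfix : Nat.card ↥(MulAction.fixedPoints ↥(zpowers (c : G)) ↥W) = Nat.card ↥F0 := by
    have key : ∀ w : ↥W, w ∈ MulAction.fixedPoints ↥(zpowers (c : G)) ↥W ↔
        (w : G) ∈ centralizer (zpowers (c : G) : Set G) := by
      intro w
      rw [MulAction.mem_fixedPoints, mem_centralizer_iff]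
      have hval : ∀ a : ↥(zpowers (c : G)), ((a • w : ↥W) : G) = a * w * (a : G)⁻¹ := fun a => rfl
      constructor
      · intro h a ha
        have h1 := congrArg Subtype.val (h ⟨a, ha⟩)
        rw [hval] at h1
        exact mul_inv_eq_iff_eq_mul.1 h1
      · intro h a
        refine Subtype.ext ?_
        rw [hval, h a a.2, mul_inv_cancel_right]
    exact Nat.card_congr
      { toFun := fun w => ⟨_, w.1.2, (key w.1).1 w.2⟩
        invFun := fun w => ⟨⟨w, w.2.1⟩, (key _).2 w.2.2⟩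
        left_inv := fun w => rfl
        right_inv := fun w => rfl }
  rw [hfix] at hmod
  have hWp : IsPGroup 2 ↥W := d.Q_pGroup.to_le hW
  obtain ⟨a, ha⟩ := IsPGroup.iff_card.1 hWp
  obtain ⟨b, hb⟩ := IsPGroup.iff_card.1 (hWp.to_le (inf_le_left : F0 ≤ W))
  have hzF : d.z ∈ F0 := ⟨hzW, mem_centralizer_iff.2 fun v hv =>
    (d.zcomm _ (zpowers_le.2 c.2 hv)).symm⟩
  have hb1 : 1 ≤ b := by
    rcases Nat.eq_zero_or_pos b with rfl | hb'
    · have := eq_bot_of_card_eq F0 (by rw [hb, pow_zero])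
      rw [this] at hzF
      exact absurd hzF d.z_ne
    · exact hb'
  have hba : b ≤ a := (Nat.pow_le_pow_iff_right (by norm_num : 1 < 2)).1
    (ha ▸ hb ▸ Nat.le_of_dvd Nat.card_pos (card_dvd_of_le inf_le_left))
  have ha10 : a ≤ 10 := (Nat.pow_le_pow_iff_right (by norm_num : 1 < 2)).1 (ha ▸ h)
  have hab : b = a := by
    have key : ∀ a < 11, ∀ b < 11, 1 ≤ b → b ≤ a → 2 ^ a % 11 = 2 ^ b % 11 → b = a := by decide
    exact key a (by omega) b (by omega) hb1 hba (by rw [← ha, ← hb]; exact hmod)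
  have hFW : F0 = W := eq_of_le_of_card_ge inf_le_left (by rw [ha, hb, hab])
  let K0 : Subgroup ↥d.C := (centralizer (W : Set G)).subgroupOf d.C
  haveI hK0 : K0.Normal := normal_subgroupOf_of_le_normalizer
    (hCW.trans (normalizer_le_normalizer_centralizer W))
  haveI := CfsgLib.Spor.LargeFi.J4.isSimpleGroup_M22
  haveI hn : (K0.map d.pi).Normal := Normal.map hK0 _ d.surj
  have hcK : c ∈ K0 := by
    rw [mem_subgroupOf, mem_centralizer_iff]
    intro v hv
    exact ((mem_centralizer_iff.1 ((hFW.symm.le hv).2)) _ (mem_zpowers _)).symm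
  have htop : K0.map d.pi = ⊤ := hn.eq_bot_or_eq_top.resolve_left fun hb =>
    hcne (by rw [← mem_bot, ← hb]; exact mem_map_of_mem _ hcK)
  have hK : K0 = ⊤ := by
    rw [eq_top_iff, ← d.perf, commutator_le]
    intro p _ q _
    obtain ⟨p', hp', hpp⟩ : d.pi p ∈ K0.map d.pi := htop ▸ mem_top _
    obtain ⟨q', hq', hqq⟩ : d.pi q ∈ K0.map d.pi := htop ▸ mem_top _
    have h1 : d.pi (p'⁻¹ * p) = 1 := by rw [map_mul, map_inv, hpp, inv_mul_cancel]
    have h2 : d.pi (q'⁻¹ * q) = 1 := by rw [map_mul, map_inv, hqq, inv_mul_cancel]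
    set k := p'⁻¹ * p with hk
    set l := q'⁻¹ * q with hl
    have hkc : ∀ v : ↥d.C, k * v = v * k := fun v => Subtype.ext (d.ker_comm h1 v.2)
    have hlc : ∀ v : ↥d.C, l * v = v * l := fun v => Subtype.ext (d.ker_comm h2 v.2)
    have hp1 : p = p' * k := by rw [hk]; group
    have hq1 : q = q' * l := by rw [hl]; group
    have hk1 : ∀ v : ↥d.C, k * v * k⁻¹ = v := fun v => by rw [hkc, mul_inv_cancel_right]
    have hl1 : ∀ v : ↥d.C, l * v * l⁻¹ = v := fun v => by rw [hlc, mul_inv_cancel_right]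
    have : ⁅p, q⁆ = ⁅p', q'⁆ := by
      rw [hp1, hq1, commutatorElement_def, commutatorElement_def,
        show p' * k * (q' * l) * (p' * k)⁻¹ * (q' * l)⁻¹ =
          p' * (k * (q' * l) * k⁻¹) * p'⁻¹ * l⁻¹ * q'⁻¹ by group, hk1,
        show p' * (q' * l) * p'⁻¹ * l⁻¹ * q'⁻¹ = p' * q' * (l * p'⁻¹ * l⁻¹) * q'⁻¹ by group, hl1]
    rw [this]
    exact mul_mem (mul_mem (mul_mem hp' hq') (inv_mem hp')) (inv_mem hq')
  refine le_antisymm ?_ (zpowers_le.2 hzW)
  intro v hv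
  rw [← d.Q_inf_C]
  refine ⟨hW hv, d.mem_C.2 ?_⟩
  have hx : (⟨d.x, d.x_mem⟩ : ↥d.C) ∈ K0 := hK ▸ mem_top _
  rw [mem_subgroupOf, mem_centralizer_iff] at hx
  exact hx v hv

theorem invariant_cases {W : Subgroup G} (hW : W ≤ d.Q) (hzW : d.z ∈ W)
    (hCW : d.C ≤ normalizer (W : Set G)) :
    W = zpowers d.z ∨ (W = d.Q ∧ Nat.card ↥d.Q = 2 ^ 13 ∧ Nat.card ↥d.R = 32) := by
  haveI : Fact (Nat.Prime 2) := ⟨Nat.prime_two⟩
  obtain ⟨F⟩ := exists_frame d.orderOf_t d.orderOf_w d.comm_wt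
  by_cases hs : Nat.card ↥W ≤ 2 ^ 10
  · exact Or.inl (d.small_invariant hW hzW hCW hs)
  right
  have hc : Nat.card ↥(W ⊓ centralizer ({d.y} : Set G)) ≤ Nat.card ↥d.R := by
    rw [d.card_R]
    exact Nat.le_of_dvd Nat.card_pos (card_dvd_of_le (inf_le_inf_right _ hW))
  have hR := d.card_R_le F
  have hQ := d.four_mul_card le_rfl d.z_mem_Q d.C_le_normalizer
  have hWf := d.four_mul_card hW hzW hCW
  rw [← d.card_R] at hQ
  obtain ⟨n, hn⟩ := IsPGroup.iff_card.1 d.R_pGroup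
  obtain ⟨m, hm⟩ := IsPGroup.iff_card.1
    ((d.Q_pGroup.to_le hW).to_le (inf_le_left : W ⊓ centralizer ({d.y} : Set G) ≤ W))
  have h5 : 32 ≤ Nat.card ↥(W ⊓ centralizer ({d.y} : Set G)) := by
    by_contra hlt
    have h16 : Nat.card ↥(W ⊓ centralizer ({d.y} : Set G)) ≤ 16 := by
      rw [hm] at hlt ⊢
      have : m < 5 := (Nat.pow_lt_pow_iff_right (by norm_num : 1 < 2)).1 (by
        show 2 ^ m < 32
        omega)
      calc 2 ^ m ≤ 2 ^ 4 := Nat.pow_le_pow_right (by norm_num) (by omega)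
        _ = 16 := rfl
    have := Nat.pow_le_pow_left h16 3
    rw [← hWf] at this
    norm_num at hs this
    omega
  have hm32 : Nat.card ↥(W ⊓ centralizer ({d.y} : Set G)) = 32 := by omega
  have h32 : Nat.card ↥d.R = 32 := by omega
  rw [h32] at hQ
  rw [hm32] at hWf
  norm_num at hQ hWf
  exact ⟨eq_of_le_of_card_ge hW (by omega), by omega, h32⟩

theorem card_Q : Nat.card ↥d.Q = 2 ^ 13 :=
  ((d.invariant_cases le_rfl d.z_mem_Q d.C_le_normalizer).resolve_left d.Q_ne).2.1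

theorem card_R_eq : Nat.card ↥d.R = 32 :=
  ((d.invariant_cases le_rfl d.z_mem_Q d.C_le_normalizer).resolve_left d.Q_ne).2.2

end Ctx

end CfsgLib.Spor.JankoFourChar2
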