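import Cfsg.Agent.Lib.Spor.JankoFourChar2.Setup

/-!
The two-core is extraspecial, and some element of the centraliser of the involution inverts `x`.
-/

set_option autoImplicit false
set_option linter.style.haveILetI false
set_option linter.unusedSectionVars false

namespace CfsgLib.Spor.JankoFourChar2

open Cfsg CfsgLib.Spor Subgroup
open scoped Pointwise commutatorElement

namespace Ctx

variable {G : Type*} [Group G] [Finite G] (d : Ctx G)

theorem eq_zpowers_of_ne {W : Subgroup G} (hW : W ≤ d.Q) (hzW : d.z ∈ W)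
    (hCW : d.C ≤ normalizer (W : Set G)) (hne : W ≠ d.Q) : W = zpowers d.z :=
  (d.invariant_cases hW hzW hCW).resolve_right fun h => hne h.1

theorem w_conj_R {r : ↥Spor.M22} (hr : r ∈ d.R) : d.w * r * d.w⁻¹ ∈ d.R := by
  obtain ⟨a, ha, rfl⟩ := hr
  refine ⟨_, d.conj_mem_Qp (l := ⟨d.u, d.u_mem⟩) d.z'_comm_u.symm ha, ?_⟩
  simp only [map_mul, map_inv, Ctx.w]

theorem w_inv_conj_R {r : ↥Spor.M22} (hr : r ∈ d.R) : d.w⁻¹ * r * d.w ∈ d.R := by
  obtain ⟨a, ha, rfl⟩ := hr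
  refine ⟨_, d.conj_mem_Qp (l := (⟨d.u, d.u_mem⟩ : ↥d.C)⁻¹) ?_ ha, ?_⟩
  · exact (Commute.inv_left (d.z'_comm_u.symm : Commute d.u d.z')).eq
  · simp only [map_mul, map_inv, Ctx.w, inv_inv]

theorem U_decomp (F : Frame d.t d.w) {v : ↥Spor.M22} (hv : v ∈ F.U) :
    ∃ r ∈ d.R, ∃ c ∈ F.U ⊓ centralizer ({d.w} : Set ↥Spor.M22), v = r * c := by
  have hle := d.R_le_U F
  have hidx : (d.R.subgroupOf F.U).index = 2 := by
    have h := (d.R.subgroupOf F.U).card_mul_index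
    rw [Nat.card_congr (subgroupOfEquivOfLe hle).toEquiv, d.card_R_eq, F.card_U] at h
    omega
  obtain ⟨c, hc, hcR⟩ : ∃ c ∈ F.U ⊓ centralizer ({d.w} : Set ↥Spor.M22), c ∉ d.R := by
    by_contra hcon
    push Not at hcon
    have hle' : F.U ⊓ centralizer ({d.w} : Set ↥Spor.M22) ≤
        d.R ⊓ centralizer ({d.w} : Set ↥Spor.M22) := fun c hc => ⟨hcon c hc, hc.2⟩
    have h := Nat.le_of_dvd Nat.card_pos (card_dvd_of_le hle')
    rw [F.fixed, d.R_inf_centralizer, Nat.card_zpowers, d.orderOf_t] at h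
    omega
  by_cases hvR : v ∈ d.R
  · exact ⟨v, hvR, 1, one_mem _, (mul_one v).symm⟩
  · refine ⟨v * c, ?_, c⁻¹, inv_mem hc, by group⟩
    have h := (mul_mem_iff_of_index_two hidx (a := (⟨v, hv⟩ : ↥F.U)) (b := ⟨c, hc.1⟩)).2
      ⟨fun h => absurd (mem_subgroupOf.1 h) hvR, fun h => absurd (mem_subgroupOf.1 h) hcR⟩
    exact mem_subgroupOf.1 h

theorem comm_w_mem (F : Frame d.t d.w) {v : ↥Spor.M22} (hv : v ∈ F.U) :
    v * d.w * v⁻¹ * d.w⁻¹ ∈ d.R := by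
  obtain ⟨r, hr, c, hc, rfl⟩ := d.U_decomp F hv
  have h : c * d.w = d.w * c := mem_centralizer_singleton_iff.1 hc.2
  rw [show r * c * d.w * (r * c)⁻¹ * d.w⁻¹ = r * (c * d.w) * c⁻¹ * r⁻¹ * d.w⁻¹ by group, h,
    show r * (d.w * c) * c⁻¹ * r⁻¹ * d.w⁻¹ = r * (d.w * r⁻¹ * d.w⁻¹) by group]
  exact mul_mem hr (d.w_conj_R (inv_mem hr))

theorem comm_winv_mem (F : Frame d.t d.w) {v : ↥Spor.M22} (hv : v ∈ F.U) :
    v * d.w⁻¹ * v⁻¹ * d.w ∈ d.R := by
  obtain ⟨r, hr, c, hc, rfl⟩ := d.U_decomp F hv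
  have h : c * d.w⁻¹ = d.w⁻¹ * c :=
    (Commute.inv_right (mem_centralizer_singleton_iff.1 hc.2 : Commute c d.w)).eq
  rw [show r * c * d.w⁻¹ * (r * c)⁻¹ * d.w = r * (c * d.w⁻¹) * c⁻¹ * r⁻¹ * d.w by group, h,
    show r * (d.w⁻¹ * c) * c⁻¹ * r⁻¹ * d.w = r * (d.w⁻¹ * r⁻¹ * d.w) by group]
  exact mul_mem hr (d.w_inv_conj_R (inv_mem hr))

theorem exists_noncomm : ∃ a ∈ d.Q, ∃ b ∈ d.Q, a * b ≠ b * a := by
  obtain ⟨F⟩ := exists_frame d.orderOf_t d.orderOf_w d.comm_wt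
  obtain ⟨u₁, h₁, u₂, h₂, hne⟩ := F.pair
  obtain ⟨a, ha, hae⟩ := d.comm_w_mem F h₁
  obtain ⟨b, hb, hbe⟩ := d.comm_w_mem F h₂
  refine ⟨_, d.mem_Qp.1 ha, _, d.mem_Qp.1 hb, fun h => hne ?_⟩
  have h' : MulAut.conj d.g₀ ((a : G) * b) = MulAut.conj d.g₀ ((b : G) * a) := by
    simpa only [map_mul, MulAut.conj_apply] using h
  rw [← hae, ← hbe, ← map_mul, ← map_mul]
  exact congrArg _ (Subtype.ext ((MulAut.conj d.g₀).injective h'))

/-- the image in the group of a characteristic subgroup of the two-core is normalised -/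
theorem C_le_normalizer_char (K : Subgroup ↥d.Q) [K.Characteristic] :
    d.C ≤ normalizer ((K.map d.Q.subtype : Subgroup G) : Set G) :=
  d.C_le_normalizer.trans (CfsgLib.Base.normalizer_le_normalizer_map_subtype d.Q K)

theorem C_le_normalizer_zpowers : d.C ≤ normalizer ((zpowers d.z : Subgroup G) : Set G) := by
  intro c hc
  refine mem_normalizer_fintype ?_
  intro v hv
  have h : Commute c v := by
    obtain ⟨n, rfl⟩ := hv
    exact Commute.zpow_right (show Commute c d.z from (d.zcomm c hc).symm) n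
  rw [SetLike.mem_coe, h.eq, mul_inv_cancel_right]
  exact hv

/-- the involution as an element of the two-core -/
def zQ : ↥d.Q := ⟨d.z, d.z_mem_Q⟩

theorem map_zpowers_zQ : (zpowers d.zQ).map d.Q.subtype = zpowers d.z := by
  rw [MonoidHom.map_zpowers]; rfl

theorem char_le_zQ (K : Subgroup ↥d.Q) [K.Characteristic] (hne : K ⊔ zpowers d.zQ ≠ ⊤) :
    K ≤ zpowers d.zQ := by
  have hW : ((K ⊔ zpowers d.zQ).map d.Q.subtype) = zpowers d.z := by
    refine d.eq_zpowers_of_ne (map_subtype_le _) ⟨d.zQ, mem_sup_right (mem_zpowers _), rfl⟩ ?_ ?_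
    · rw [Subgroup.map_sup, d.map_zpowers_zQ]
      intro c hc
      have h1 := mem_normalizer_iff.1 (d.C_le_normalizer_char K hc)
      have h2 := mem_normalizer_iff.1 (d.C_le_normalizer_zpowers hc)
      refine mem_normalizer_fintype ?_
      intro v hv
      have hm := mem_map_of_mem (MulAut.conj c).toMonoidHom hv
      rw [Subgroup.map_sup] at hm
      refine (sup_le ?_ ?_ : _ ≤ K.map d.Q.subtype ⊔ zpowers d.z) hm
      · rintro - ⟨p, hp, rfl⟩
        exact mem_sup_left ((h1 p).1 hp)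
      · rintro - ⟨p, hp, rfl⟩
        exact mem_sup_right ((h2 p).1 hp)
    · intro h
      refine hne (eq_top_iff.2 fun q _ => ?_)
      obtain ⟨p, hp, hpq⟩ : (q : G) ∈ (K ⊔ zpowers d.zQ).map d.Q.subtype := by rw [h]; exact q.2
      exact Subtype.ext (a1 := p) (a2 := q) hpq ▸ hp
  intro k hk
  have h1 : (k : G) ∈ zpowers d.z := by rw [← hW]; exact ⟨k, mem_sup_left hk, rfl⟩
  rw [← d.map_zpowers_zQ] at h1
  obtain ⟨p, hp, hpk⟩ := h1
  exact Subtype.ext (a1 := p) (a2 := k) hpk ▸ hp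

theorem zQ_ne : d.zQ ≠ 1 := fun h => d.z_ne (congrArg Subtype.val h)

theorem card_zpowers_zQ : Nat.card ↥(zpowers d.zQ) = 2 := by
  rw [Nat.card_zpowers, Ctx.zQ, orderOf_mk, d.hz]

theorem eq_zpowers_zQ {K : Subgroup ↥d.Q} (h : K ≤ zpowers d.zQ) (hne : K ≠ ⊥) :
    K = zpowers d.zQ := by
  refine eq_of_le_of_card_ge h ?_
  rw [d.card_zpowers_zQ]
  exact (one_lt_card_iff_ne_bot K).2 hne

theorem center_eq : center ↥d.Q = zpowers d.zQ := by
  have hz : zpowers d.zQ ≤ center ↥d.Q := zpowers_le.2 (mem_center_iff.2 fun q =>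
    Subtype.ext (mem_centralizer_singleton_iff.1 (d.Q_le_H q.2)))
  refine le_antisymm (d.char_le_zQ _ ?_) hz
  rw [sup_of_le_left hz]
  intro h
  obtain ⟨a, ha, b, hb, hne⟩ := d.exists_noncomm
  have hm : (⟨b, hb⟩ : ↥d.Q) ∈ center ↥d.Q := h ▸ mem_top _
  exact hne (congrArg Subtype.val (mem_center_iff.1 hm ⟨a, ha⟩))

theorem frattini_le : frattini ↥d.Q ≤ zpowers d.zQ := by
  refine d.char_le_zQ _ fun h => ?_
  rw [sup_comm] at h
  have h1 := frattini_nongenerating h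
  have h2 := Nat.card_congr (Equiv.subtypeUnivEquiv (α := ↥d.Q) (p := (· ∈ zpowers d.zQ))
    fun q => h1 ▸ mem_top q)
  rw [show Nat.card {q // q ∈ zpowers d.zQ} = 2 from d.card_zpowers_zQ, d.card_Q] at h2
  norm_num at h2

theorem commutator_eq : commutator ↥d.Q = zpowers d.zQ := by
  haveI : Fact (Nat.Prime 2) := ⟨Nat.prime_two⟩
  refine d.eq_zpowers_zQ ((CfsgLib.PGroups.commutator_le_frattini d.Q_pGroup).trans d.frattini_le) ?_
  intro h
  obtain ⟨a, ha, b, hb, hne⟩ := d.exists_noncomm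
  have hm : ⁅(⟨a, ha⟩ : ↥d.Q), ⟨b, hb⟩⁆ ∈ commutator ↥d.Q := by
    rw [commutator_def]; exact commutator_mem_commutator (mem_top _) (mem_top _)
  rw [h, mem_bot, commutatorElement_eq_one_iff_mul_comm] at hm
  exact hne (congrArg Subtype.val hm)

theorem frattini_eq : frattini ↥d.Q = zpowers d.zQ := by
  haveI : Fact (Nat.Prime 2) := ⟨Nat.prime_two⟩
  exact le_antisymm d.frattini_le
    (d.commutator_eq.symm.le.trans (CfsgLib.PGroups.commutator_le_frattini d.Q_pGroup))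

theorem isExtraspecial : IsExtraspecial 2 ↥d.Q :=
  ⟨⟨d.Q_pGroup, by rw [d.frattini_eq, d.center_eq], by rw [d.commutator_eq, d.center_eq]⟩,
    by rw [d.center_eq, d.card_zpowers_zQ]⟩

theorem commutator_cases {a b : G} (ha : a ∈ d.Q) (hb : b ∈ d.Q) :
    a * b * a⁻¹ * b⁻¹ = 1 ∨ a * b * a⁻¹ * b⁻¹ = d.z := by
  refine d.mem_zpowers_z.1 ?_
  rw [← d.map_zpowers_zQ, ← d.commutator_eq]
  refine ⟨⁅(⟨a, ha⟩ : ↥d.Q), ⟨b, hb⟩⁆, ?_, rfl⟩
  rw [commutator_def]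
  exact commutator_mem_commutator (mem_top _) (mem_top _)

theorem Qp_commutator_cases {a b : ↥d.C} (ha : a ∈ d.Qp) (hb : b ∈ d.Qp) :
    a * b * a⁻¹ * b⁻¹ = 1 ∨ a * b * a⁻¹ * b⁻¹ = ⟨d.z', d.z'_mem⟩ := by
  have e : MulAut.conj d.g₀ ((a : G) * b * (a : G)⁻¹ * (b : G)⁻¹) =
      MulAut.conj d.g₀ a * MulAut.conj d.g₀ b * (MulAut.conj d.g₀ a)⁻¹ * (MulAut.conj d.g₀ b)⁻¹ := by
    rw [map_mul, map_mul, map_mul, map_inv, map_inv]
  rcases d.commutator_cases (d.mem_Qp.1 ha) (d.mem_Qp.1 hb) with h | h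
  · left
    refine Subtype.ext ((MulAut.conj d.g₀).injective ?_)
    simp only [coe_mul, coe_inv, coe_one, map_one]
    exact e.trans h
  · right
    refine Subtype.ext ((MulAut.conj d.g₀).injective ?_)
    simp only [coe_mul, coe_inv]
    exact (e.trans h).trans (by rw [MulAut.conj_apply, d.conj_z'])

/-- an element of the centraliser of `z` inverting `x` and centralising `y` and its involution -/
theorem exists_inverting : ∃ g : G, g ∈ d.H ∧ g * d.x * g⁻¹ = d.x⁻¹ ∧ g * d.y = d.y * g ∧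
    g * d.zy = d.zy * g := by
  obtain ⟨F⟩ := exists_frame d.orderOf_t d.orderOf_w d.comm_wt
  obtain ⟨u₁, h₁, u₂, h₂, hne⟩ := F.pair
  obtain ⟨a, ha, hae⟩ := d.comm_w_mem F h₁
  obtain ⟨b, hb, hbe⟩ := d.comm_w_mem F h₂
  obtain ⟨g, hg⟩ := d.surj F.g
  set s : ↥d.C := ⟨d.z', d.z'_mem⟩ with hs
  have hgU : ∀ v ∈ F.U, F.g * v * F.g⁻¹ ∈ F.U := fun v hv =>
    (mem_normalizer_iff.1 (F.normal (mem_centralizer_singleton_iff.2 F.g_comm)) v).1 hv
  have himg : ∀ v ∈ F.U, F.g * (v * d.w * v⁻¹ * d.w⁻¹) * F.g⁻¹ ∈ d.R := by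
    intro v hv
    have h := d.comm_winv_mem F (hgU v hv)
    rw [show F.g * (v * d.w * v⁻¹ * d.w⁻¹) * F.g⁻¹ = F.g * v * F.g⁻¹ * (F.g * d.w * F.g⁻¹) *
      (F.g * v * F.g⁻¹)⁻¹ * (F.g * d.w * F.g⁻¹)⁻¹ by group, F.g_inv, inv_inv]
    exact h
  obtain ⟨a', ha', hae'⟩ := himg u₁ h₁
  obtain ⟨b', hb', hbe'⟩ := himg u₂ h₂
  have hk : d.pi (a'⁻¹ * (g * a * g⁻¹)) = 1 := by
    rw [map_mul, map_mul, map_mul, map_inv, map_inv, hg, hae, hae', inv_mul_cancel]
  have hl : d.pi (b'⁻¹ * (g * b * g⁻¹)) = 1 := by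
    rw [map_mul, map_mul, map_mul, map_inv, map_inv, hg, hbe, hbe', inv_mul_cancel]
  set k := a'⁻¹ * (g * a * g⁻¹) with hkdef
  set l := b'⁻¹ * (g * b * g⁻¹) with hldef
  have hkc : ∀ v : ↥d.C, k * v * k⁻¹ = v := fun v => by
    rw [show k * v = v * k from Subtype.ext (d.ker_comm hk v.2), mul_inv_cancel_right]
  have hlc : ∀ v : ↥d.C, l * v * l⁻¹ = v := fun v => by
    rw [show l * v = v * l from Subtype.ext (d.ker_comm hl v.2), mul_inv_cancel_right]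
  have hab : a * b * a⁻¹ * b⁻¹ ≠ 1 := by
    intro h
    refine hne ?_
    rw [← hae, ← hbe, ← map_mul, ← map_mul]
    exact congrArg _ (mul_inv_eq_iff_eq_mul.1 (mul_inv_eq_one.1 h))
  have hgs : g * s * g⁻¹ = s := by
    have h1 : g * (a * b * a⁻¹ * b⁻¹) * g⁻¹ = a' * b' * a'⁻¹ * b'⁻¹ := by
      rw [show g * (a * b * a⁻¹ * b⁻¹) * g⁻¹ =
        (g * a * g⁻¹) * (g * b * g⁻¹) * (g * a * g⁻¹)⁻¹ * (g * b * g⁻¹)⁻¹ by group,
        show g * a * g⁻¹ = a' * k by rw [hkdef]; group,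
        show g * b * g⁻¹ = b' * l by rw [hldef]; group,
        show a' * k * (b' * l) * (a' * k)⁻¹ * (b' * l)⁻¹ =
          a' * (k * (b' * l) * k⁻¹) * a'⁻¹ * l⁻¹ * b'⁻¹ by group, hkc,
        show a' * (b' * l) * a'⁻¹ * l⁻¹ * b'⁻¹ = a' * b' * (l * a'⁻¹ * l⁻¹) * b'⁻¹ by group, hlc]
    rw [(d.Qp_commutator_cases ha hb).resolve_left hab] at h1
    rcases d.Qp_commutator_cases ha' hb' with h2 | h2
    · rw [h2] at h1
      refine absurd ?_ hab
      rw [(d.Qp_commutator_cases ha hb).resolve_left hab]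
      exact conj_eq_one_iff.1 h1
    · rw [h2] at h1
      exact h1
  have hgz : (g : G) * d.z' = d.z' * g :=
    congrArg Subtype.val (mul_inv_eq_iff_eq_mul.1 hgs)
  refine ⟨d.g₀ * g * d.g₀⁻¹, d.conj_mem_H hgz, ?_,
    mem_centralizer_singleton_iff.1 (d.conj_mem_centralizer_y g.2), ?_⟩
  swap
  · have h := congrArg (MulAut.conj d.g₀) (d.zcomm _ g.2).symm
    simpa only [map_mul, MulAut.conj_apply, Ctx.zy] using h
  set e : ↥d.C := ⟨d.u, d.u_mem⟩ with he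
  have hm : d.pi (e * (g * e * g⁻¹)) = 1 := by
    rw [map_mul, map_mul, map_mul, map_inv, hg, show d.pi e = d.w from rfl, F.g_inv, mul_inv_cancel]
  obtain ⟨i, j, hij⟩ := d.ker_mem _ hm
  have hce : Commute (d.u : G) ((g : G) * d.u * (g : G)⁻¹) := by
    have h := d.ker_comm hm d.u_mem
    simp only [coe_mul, coe_inv, e] at h
    exact mul_left_cancel (a := d.u) (h.symm.trans (mul_assoc _ _ _))
  simp only [coe_mul, coe_inv, e] at hij
  have hu3 : d.u ^ 3 = 1 := by rw [← d.orderOf_u]; exact pow_orderOf_eq_one _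
  have hj : d.z ^ j = 1 := by
    have h3 := congrArg (· ^ 3) hij
    simp only [hce.mul_pow, conj_pow, hu3, mul_one, mul_inv_cancel] at h3
    have hc : Commute (d.x ^ i) (d.z ^ j) := Commute.pow_pow (d.mem_C.1 d.zC).symm i j
    rw [hc.mul_pow, ← pow_mul, mul_comm i, pow_mul, d.x_pow_three, one_pow, one_mul, pow_succ,
      ← pow_mul, mul_comm j, pow_mul, sq, d.z_sq, one_pow, one_mul] at h3
    exact h3.symm
  rw [hj, mul_one, ← eq_inv_mul_iff_mul_eq] at hij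
  have hres : d.g₀ * g * d.g₀⁻¹ * d.x * (d.g₀ * g * d.g₀⁻¹)⁻¹ = d.x⁻¹ * d.y ^ i := by
    have h := congrArg (MulAut.conj d.g₀) hij
    simp only [map_mul, map_inv, map_pow, MulAut.conj_apply, d.conj_u, d.hg] at h
    rw [← h]
  rw [hres]
  by_cases hi : d.y ^ i = 1
  · rw [hi, mul_one]
  exfalso
  have h3i : ¬ 3 ∣ i := by
    rintro ⟨m, rfl⟩
    exact hi (by rw [pow_mul, ← d.hy3, pow_orderOf_eq_one, one_pow])
  have hn : d.x⁻¹ * d.y ^ i ∉ zpowers d.x := by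
    intro h
    have h1 := (mul_mem_cancel_left (inv_mem (mem_zpowers d.x))).1 h
    have h2 := pow_mem h1 i
    rw [← pow_mul, ← pow_mod_orderOf, d.hy3, show i * i % 3 = 1 by
      rw [Nat.mul_mod]
      have : i % 3 = 1 ∨ i % 3 = 2 := by omega
      rcases this with h | h <;> rw [h], pow_one] at h2
    exact d.hyx h2
  have h3 : orderOf (d.x⁻¹ * d.y ^ i) = 3 := by
    rw [← hres, ← MulAut.conj_apply, MulEquiv.orderOf_eq, d.hx]
  have hmem : d.x⁻¹ * d.y ^ i ∈ d.C := mul_mem (inv_mem d.x_mem) (pow_mem d.hy i)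
  have hc := d.card_inf_centralizer_of_order_three d.C_le_normalizer hmem h3 hn
  rw [← hres, ← card_inf_centralizer_conj (d.H_le_normalizer (d.conj_mem_H hgz)) d.x,
    d.card_inf_C le_rfl d.z_mem_Q, ← d.card_R, d.card_R_eq] at hc
  norm_num at hc

end Ctx

end CfsgLib.Spor.JankoFourChar2
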